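import Cfsg.Agent.FiTwoCentral.Quot

/-!
# An involution whose centraliser has a core of type four-group times extraspecial: the setting
-/

set_option autoImplicit false
set_option Elab.async false
set_option linter.style.haveILetI false
set_option linter.unusedSectionVars false

namespace Cfsg.Lib.FiThree

open Subgroup Cfsg.Lib.USixType

universe u v

variable {G : Type u} [Group G]

/-- The four-group. -/
def InF (a b x : G) : Prop := x = 1 ∨ x = a ∨ x = b ∨ x = a * b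

/-- The eight central elements. -/
def InZ (z a b x : G) : Prop := ∃ v, InF a b v ∧ (x = v ∨ x = v * z)

/-- The hypotheses. -/
structure Setting (z a b c : G) (J E : Subgroup G) (P : Type v) [Group P] where
  order : orderOf z = 2
  sqa : a * a = 1
  sqb : b * b = 1
  le : J ≤ centralizer ({z} : Set G)
  norm : centralizer ({z} : Set G) ≤ normalizer (J : Set G)
  leE : E ≤ J
  memA : a ∈ J
  memB : b ∈ J
  comA : ∀ q ∈ J, Commute a q
  comB : ∀ q ∈ J, Commute b q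
  a_ne : a ≠ 1
  ab_ne : b ≠ a
  disj : ∀ x, InF a b x → x ∈ E → x = 1
  split : ∀ q ∈ J, ∃ x, InF a b x ∧ x * q ∈ E
  extra : Cfsg.IsExtraspecial 2 ↥E
  cardE : Nat.card ↥E = 2 ^ 9
  memE : z ∈ E
  self : ∀ g ∈ centralizer ({z} : Set G), (∀ q ∈ J, g * q = q * g) → g ∈ J
  cz : Commute c z
  c3 : c * c * c = 1
  ca : c * a * c⁻¹ = b
  cb : c * b * c⁻¹ = a * b
  fpf : ∀ q ∈ J, Commute c q → q = 1 ∨ q = z
  iso : Nonempty (↥U ≃* P)
  autCard : Nat.card (MulAut P) = 2 * 25920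
  f : ↥(centralizer ({z} : Set G)) →* MulAut P
  surj : Function.Surjective f
  ker : ∀ h, f h = 1 ↔ ((h : G) ∈ J ∨ (h : G) * c ∈ J ∨ (h : G) * (c * c) ∈ J)
  out : ∃ o, Commute o z ∧ o * a * o⁻¹ = a ∧ o * b * o⁻¹ = a * b

theorem memC {z h : G} (hh : Commute h z) : h ∈ centralizer ({z} : Set G) := mem_centralizer_singleton_iff.2 hh.eq

theorem comm_of_mem {z h : G} (hh : h ∈ centralizer ({z} : Set G)) : Commute h z :=
  mem_centralizer_singleton_iff.1 hh

theorem conj_mul_eq (g x y : G) : g * (x * y) * g⁻¹ = (g * x * g⁻¹) * (g * y * g⁻¹) := by group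

theorem conj_eq_iff {g x : G} : g * x * g⁻¹ = x ↔ Commute g x :=
  ⟨fun e => mul_inv_eq_iff_eq_mul.1 e, fun h => by rw [h.eq, mul_inv_cancel_right]⟩

theorem conj_sq' {x : G} (hx : x * x = 1) (g : G) : g * x * g⁻¹ * (g * x * g⁻¹) = 1 := by
  rw [← conj_mul_eq, hx, mul_one, mul_inv_cancel]

variable {P : Type v} [Group P]

/-- The centraliser of both `z` and `a`. -/
def Setting.Ka {z a b c : G} {J E : Subgroup G} (_S : Setting z a b c J E P) : Subgroup G :=
  centralizer ({z} : Set G) ⊓ centralizer ({a} : Set G)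

/-- The centraliser of `z` and the four-group. -/
def Setting.inner {z a b c : G} {J E : Subgroup G} (S : Setting z a b c J E P) : Subgroup G :=
  S.Ka ⊓ centralizer ({b} : Set G)

namespace Setting

variable {z a b c : G} {J E : Subgroup G} (S : Setting z a b c J E P)
include S

theorem finiteP : Finite P := Finite.of_equiv ↥U S.iso.some.toEquiv

theorem z_sq : z * z = 1 := by rw [← pow_two, ← S.order, pow_orderOf_eq_one]

theorem z_inv : z⁻¹ = z := inv_eq_of_mul_eq_one_left S.z_sq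

theorem a_inv : a⁻¹ = a := inv_eq_of_mul_eq_one_left S.sqa

theorem b_inv : b⁻¹ = b := inv_eq_of_mul_eq_one_left S.sqb

theorem z_ne : z ≠ 1 := fun e => by
  have := S.order
  rw [e, orderOf_one] at this
  exact absurd this (by norm_num)

theorem memJ : z ∈ J := S.leE S.memE

theorem comm_z {h : G} (hh : h ∈ centralizer ({z} : Set G)) : Commute h z := comm_of_mem hh

theorem commJ {q : G} (hq : q ∈ J) : Commute q z := comm_of_mem (S.le hq)

theorem conj_J {h q : G} (hh : Commute h z) (hq : q ∈ J) : h * q * h⁻¹ ∈ J :=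
  (mem_normalizer_iff.1 (S.norm (memC hh)) q).1 hq

theorem comAB : Commute a b := S.comA b S.memB

theorem b_ne : b ≠ 1 := fun e => by
  have := S.ca
  rw [e, conj_eq_one_iff] at this
  exact S.a_ne this

theorem abp_ne : a * b ≠ 1 := fun e => S.ab_ne (by rw [← S.a_inv]; exact eq_inv_of_mul_eq_one_right e)

/-- The four-group as a subgroup. -/
def V : Subgroup G where
  carrier := {x | InF a b x}
  one_mem' := Or.inl rfl
  mul_mem' := fun {p q} hp hq => by
    have hab := S.comAB.eq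
    have e1 : a * (a * b) = b := by rw [← mul_assoc, S.sqa, one_mul]
    have e2 : (a * b) * a = b := by rw [mul_assoc, ← hab, ← mul_assoc, S.sqa, one_mul]
    have e3 : b * (a * b) = a := by rw [← mul_assoc, ← hab, mul_assoc, S.sqb, mul_one]
    have e4 : (a * b) * b = a := by rw [mul_assoc, S.sqb, mul_one]
    have e5 : (a * b) * (a * b) = 1 := by rw [mul_assoc, e3, S.sqa]
    show InF a b (p * q)
    rcases hp with h | h | h | h <;> rw [h] <;> rcases hq with h' | h' | h' | h' <;> rw [h'] <;>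
      simp only [InF, one_mul, mul_one, e1, e2, e3, e4, e5, S.sqa, S.sqb, hab.symm, true_or, or_true]
  inv_mem' := fun {p} hp => by
    show InF a b p⁻¹
    rcases hp with h | h | h | h <;> rw [h]
    · exact Or.inl inv_one
    · exact Or.inr (Or.inl S.a_inv)
    · exact Or.inr (Or.inr (Or.inl S.b_inv))
    · refine Or.inr (Or.inr (Or.inr ?_))
      rw [mul_inv_rev, S.a_inv, S.b_inv, S.comAB.eq]

theorem mem_V {x : G} : x ∈ S.V ↔ InF a b x := Iff.rfl

theorem memAV : a ∈ S.V := Or.inr (Or.inl rfl)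

theorem memBV : b ∈ S.V := Or.inr (Or.inr (Or.inl rfl))

theorem V_le : S.V ≤ J := fun x hx => by
  rcases S.mem_V.1 hx with h | h | h | h <;> rw [h]
  exacts [one_mem J, S.memA, S.memB, mul_mem S.memA S.memB]

theorem comV {x q : G} (hx : x ∈ S.V) (hq : q ∈ J) : Commute x q := by
  rcases S.mem_V.1 hx with h | h | h | h <;> rw [h]
  exacts [Commute.one_left q, S.comA q hq, S.comB q hq, (S.comA q hq).mul_left (S.comB q hq)]

theorem V_sq {x : G} (hx : x ∈ S.V) : x * x = 1 := by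
  rcases S.mem_V.1 hx with h | h | h | h <;> rw [h]
  · exact one_mul 1
  · exact S.sqa
  · exact S.sqb
  · rw [show a * b * (a * b) = a * (b * a) * b by group, ← S.comAB.eq,
      show a * (a * b) * b = a * a * (b * b) by group, S.sqa, S.sqb, one_mul]

theorem z_notV : z ∉ S.V := fun h => S.z_ne (S.disj z h S.memE)

theorem mem_E_of {x : G} (hx : x ∈ S.V) (h : x ∈ E) : x = 1 := S.disj x hx h

theorem exE {q : G} (hq : q ∈ J) : ∃ x ∈ S.V, ∃ e ∈ E, q = x * e := by
  obtain ⟨x, hx, he⟩ := S.split q hq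
  exact ⟨x, hx, x * q, he, by rw [← mul_assoc, S.V_sq hx, one_mul]⟩

/-- The eight central elements as a subgroup. -/
def ZJ : Subgroup G where
  carrier := {x | InZ z a b x}
  one_mem' := ⟨1, Or.inl rfl, Or.inl rfl⟩
  mul_mem' := fun {p q} hp hq => by
    obtain ⟨x, hx, hp⟩ := hp
    obtain ⟨y, hy, hq⟩ := hq
    have cy : Commute z y := (S.commJ (S.V_le hy)).symm
    refine ⟨x * y, S.V.mul_mem hx hy, ?_⟩
    rcases hp with e | e <;> rcases hq with e' | e' <;> rw [e, e']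
    · exact Or.inl rfl
    · exact Or.inr (mul_assoc x y z).symm
    · exact Or.inr (by rw [mul_assoc x z y, cy.eq, mul_assoc])
    · exact Or.inl (by rw [mul_assoc x z, ← mul_assoc z y, cy.eq, mul_assoc y z, S.z_sq, mul_one])
  inv_mem' := fun {p} hp => by
    obtain ⟨x, hx, hp⟩ := hp
    refine ⟨x, hx, ?_⟩
    rcases hp with e | e <;> rw [e]
    · exact Or.inl (inv_eq_of_mul_eq_one_left (S.V_sq hx))
    · exact Or.inr (by
        rw [mul_inv_rev, S.z_inv, inv_eq_of_mul_eq_one_left (S.V_sq hx)]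
        exact (S.commJ (S.V_le hx)).eq.symm)

theorem mem_ZJ {x : G} : x ∈ S.ZJ ↔ InZ z a b x := Iff.rfl

theorem V_le_ZJ : S.V ≤ S.ZJ := fun x hx => ⟨x, hx, Or.inl rfl⟩

theorem z_ZJ : z ∈ S.ZJ := ⟨1, Or.inl rfl, Or.inr (one_mul z).symm⟩

theorem ZJ_le : S.ZJ ≤ J := fun x hx => by
  obtain ⟨y, hy, e | e⟩ := hx <;> rw [e]
  exacts [S.V_le hy, mul_mem (S.V_le hy) S.memJ]

theorem ZJ_comm {x q : G} (hx : x ∈ S.ZJ) (hq : q ∈ J) : Commute q x := by
  obtain ⟨y, hy, e | e⟩ := hx <;> rw [e]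
  exacts [(S.comV hy hq).symm, (S.comV hy hq).symm.mul_right (S.commJ hq)]

theorem ZJ_sq {x : G} (hx : x ∈ S.ZJ) : x * x = 1 := by
  obtain ⟨y, hy, e | e⟩ := hx <;> rw [e]
  · exact S.V_sq hy
  · rw [show y * z * (y * z) = y * (z * y) * z by group, ← (S.commJ (S.V_le hy)).eq,
      show y * (y * z) * z = y * y * (z * z) by group, S.V_sq hy, S.z_sq, one_mul]

theorem center_eq [Finite G] : Subgroup.center ↥E = (zpowers z).subgroupOf E := by
  refine (Subgroup.eq_of_le_of_card_ge ?_ ?_).symm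
  · intro x hx
    refine mem_center_iff.2 fun q => Subtype.ext ?_
    obtain ⟨n, hn⟩ := (hx : (x : G) ∈ zpowers z)
    show (q : G) * x = x * q
    rw [← show z ^ n = (x : G) from hn]
    exact ((S.commJ (S.leE q.2)).zpow_right n).eq
  · rw [S.extra.2, Nat.card_congr (Subgroup.subgroupOfEquivOfLe (zpowers_le.2 S.memE)).toEquiv, Nat.card_zpowers,
      S.order]

theorem of_center [Finite G] {x : G} (hx : x ∈ E) (h : (⟨x, hx⟩ : ↥E) ∈ Subgroup.center ↥E) : x = 1 ∨ x = z := by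
  rw [S.center_eq] at h
  exact Ext.eq_one_or_of_zpowers S.z_sq h

theorem sq [Finite G] {q : G} (hq : q ∈ J) : q * q = 1 ∨ q * q = z := by
  haveI : Fact (Nat.Prime 2) := ⟨Nat.prime_two⟩
  obtain ⟨x, hx, e, he, rfl⟩ := S.exE hq
  have he2 : x * e * (x * e) = e * e := by
    rw [show x * e * (x * e) = x * (e * x) * e by group, ← (S.comV hx (S.leE he)).eq,
      show x * (x * e) * e = x * x * (e * e) by group, S.V_sq hx, one_mul]
  rw [he2]
  refine S.of_center (mul_mem he he) ?_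
  rw [← S.extra.1.2.1]
  have := Cfsg.Lib.PGroups.pow_mem_frattini S.extra.1.1 (⟨e, he⟩ : ↥E)
  rw [pow_two] at this
  exact this

theorem comm [Finite G] {p q : G} (hp : p ∈ J) (hq : q ∈ J) : p * q * p⁻¹ * q⁻¹ = 1 ∨ p * q * p⁻¹ * q⁻¹ = z := by
  obtain ⟨x, hx, e, he, rfl⟩ := S.exE hp
  obtain ⟨y, hy, d, hd, rfl⟩ := S.exE hq
  have e1 : x * e * (y * d) * (x * e)⁻¹ * (y * d)⁻¹ = e * d * e⁻¹ * d⁻¹ := by
    have c1 := S.comV hx (mul_mem (mul_mem (S.leE he) (mul_mem (S.V_le hy) (S.leE hd))) (inv_mem (S.leE he)))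
    have c2 : e * y = y * e := (S.comV hy (S.leE he)).symm.eq
    calc x * e * (y * d) * (x * e)⁻¹ * (y * d)⁻¹ = x * (e * (y * d) * e⁻¹) * x⁻¹ * (y * d)⁻¹ := by group
      _ = (e * y) * d * e⁻¹ * d⁻¹ * y⁻¹ := by rw [c1.eq, mul_inv_cancel_right]; group
      _ = y * (e * d * e⁻¹ * d⁻¹) * y⁻¹ := by rw [c2]; group
      _ = _ := by
        rw [(S.comV hy (mul_mem (mul_mem (mul_mem (S.leE he) (S.leE hd)) (inv_mem (S.leE he)))
          (inv_mem (S.leE hd)))).eq, mul_inv_cancel_right]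
  rw [e1]
  refine S.of_center (mul_mem (mul_mem (mul_mem he hd) (inv_mem he)) (inv_mem hd)) ?_
  rw [← S.extra.1.2.2, commutator_eq_closure]
  exact subset_closure ⟨⟨e, he⟩, ⟨d, hd⟩, rfl⟩

theorem conj_cases [Finite G] {p q : G} (hp : p ∈ J) (hq : q ∈ J) : p * q * p⁻¹ = q ∨ p * q * p⁻¹ = q * z :=
  (S.comm hp hq).imp mul_inv_eq_one.1 fun e => by
    rw [mul_inv_eq_iff_eq_mul.1 e]
    exact (S.commJ hq).symm.eq

theorem central [Finite G] {x : G} (hx : x ∈ J) (h : ∀ q ∈ J, Commute x q) : x ∈ S.ZJ := by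
  obtain ⟨y, hy, e, he, rfl⟩ := S.exE hx
  have hc : (⟨e, he⟩ : ↥E) ∈ Subgroup.center ↥E := mem_center_iff.2 fun q => Subtype.ext (by
    show (q : G) * e = e * q
    have h2 := (S.comV hy (S.leE q.2)).inv_left.mul_left (h q (S.leE q.2))
    rw [inv_mul_cancel_left] at h2
    exact h2.eq.symm)
  rcases S.of_center he hc with e' | e' <;> rw [e']
  · rw [mul_one]; exact S.V_le_ZJ hy
  · exact S.ZJ.mul_mem (S.V_le_ZJ hy) S.z_ZJ

theorem cent [Finite G] {g : G} (hg : Commute g z) (hq : ∀ q ∈ J, Commute g q) : g ∈ S.ZJ :=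
  S.central (S.self g (memC hg) fun q h => (hq q h).eq) hq

theorem pow_four [Finite G] {q : G} (hq : q ∈ J) : q ^ 4 = 1 := by
  rw [show 4 = 2 * 2 from rfl, pow_mul, pow_two q]
  rcases S.sq hq with e | e <;> rw [e, pow_two]
  · exact one_mul 1
  · exact S.z_sq

theorem cardV : Nat.card ↥S.V = 4 := by
  classical
  have e : Nat.card ↥S.V = ({1, a, b, a * b} : Finset G).card := by
    rw [← Nat.card_eq_finsetCard]
    exact Nat.card_congr (Equiv.subtypeEquivRight fun x => by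
      simp only [Finset.mem_insert, Finset.mem_singleton]
      exact Iff.rfl)
  rw [e, Finset.card_insert_of_notMem, Finset.card_insert_of_notMem, Finset.card_insert_of_notMem,
    Finset.card_singleton]
  · simp only [Finset.mem_singleton]
    exact fun h => S.a_ne (right_eq_mul.1 h)
  · simp only [Finset.mem_insert, Finset.mem_singleton, not_or]
    exact ⟨S.ab_ne.symm, fun h => S.b_ne (left_eq_mul.1 h)⟩
  · simp only [Finset.mem_insert, Finset.mem_singleton, not_or]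
    exact ⟨S.a_ne.symm, S.b_ne.symm, S.abp_ne.symm⟩

theorem cardJ [Finite G] : Nat.card ↥J = 2 ^ 11 := by
  let F : ↥S.V × ↥E → ↥J := fun p => ⟨p.1 * p.2, mul_mem (S.V_le p.1.2) (S.leE p.2.2)⟩
  have hF : Function.Bijective F := by
    refine ⟨?_, fun q => ?_⟩
    · rintro ⟨x, e⟩ ⟨y, d⟩ h
      have h' : (x : G) * e = y * d := congrArg Subtype.val h
      have hm : (y : G)⁻¹ * x ∈ E := by
        rw [show (y : G)⁻¹ * x = d * (e : G)⁻¹ by
          calc (y : G)⁻¹ * x = (y : G)⁻¹ * ((x : G) * e) * (e : G)⁻¹ := by group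
            _ = _ := by rw [h']; group]
        exact mul_mem d.2 (inv_mem e.2)
      have hxy : (y : G) = x := inv_mul_eq_one.1 (S.mem_E_of (mul_mem (inv_mem y.2) x.2) hm)
      exact Prod.ext (Subtype.ext hxy.symm) (Subtype.ext (mul_left_cancel (hxy ▸ h' : (x : G) * e = x * d)))
    · obtain ⟨x, hx, e, he, hq⟩ := S.exE q.2
      exact ⟨(⟨x, hx⟩, ⟨e, he⟩), Subtype.ext hq.symm⟩
  have := Nat.card_congr (Equiv.ofBijective F hF)
  rw [Nat.card_prod, S.cardV, S.cardE] at this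
  omega

theorem card_ZJ [Finite G] : Nat.card ↥S.ZJ ≤ 8 := by
  classical
  let T : Finset G := {1, a, b, a * b, 1 * z, a * z, b * z, a * b * z}
  refine le_trans (Nat.card_le_card_of_injective (fun x : ↥S.ZJ => (⟨x.1, ?_⟩ : ↥T)) fun u w e =>
    Subtype.ext (congrArg (fun r : ↥T => (r : G)) e)) ?_
  · obtain ⟨y, hy, h⟩ := x.2
    simp only [T, Finset.mem_insert, Finset.mem_singleton]
    rcases hy with r | r | r | r <;> rcases h with h | h <;> rw [r] at h <;>
      simp only [h, true_or, or_true]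
  · rw [Nat.card_eq_finsetCard]
    simp only [T]
    exact (Finset.card_insert_le _ _).trans (Nat.succ_le_succ ((Finset.card_insert_le _ _).trans
      (Nat.succ_le_succ ((Finset.card_insert_le _ _).trans (Nat.succ_le_succ ((Finset.card_insert_le _ _).trans
      (Nat.succ_le_succ ((Finset.card_insert_le _ _).trans (Nat.succ_le_succ Finset.card_le_three)))))))))

theorem c_ne : c ≠ 1 := fun e => by
  have := S.ca
  rw [e, one_mul, inv_one, mul_one] at this
  exact S.ab_ne this.symm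

theorem c_inv : c⁻¹ = c * c := inv_eq_of_mul_eq_one_left S.c3

theorem c_ab : c * (a * b) * c⁻¹ = a := by
  rw [conj_mul_eq, S.ca, S.cb, ← mul_assoc, ← S.comAB.eq, mul_assoc, S.sqb, mul_one]

/-- Every element of the centraliser conjugates `c` to a power of it modulo the core. -/
theorem conj_c {h : G} (hh : Commute h z) :
    h * c * h⁻¹ ∈ J ∨ h * c * h⁻¹ * c ∈ J ∨ h * c * h⁻¹ * (c * c) ∈ J := by
  have h1 : S.f ⟨c, memC S.cz⟩ = 1 := (S.ker _).2 (Or.inr (Or.inr (by rw [← mul_assoc, S.c3]; exact one_mem J)))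
  refine (S.ker ⟨h * c * h⁻¹, memC ((hh.mul_left S.cz).mul_left hh.inv_left)⟩).1 ?_
  rw [show (⟨h * c * h⁻¹, memC ((hh.mul_left S.cz).mul_left hh.inv_left)⟩ : ↥(centralizer ({z} : Set G))) =
    ⟨h, memC hh⟩ * ⟨c, memC S.cz⟩ * ⟨h, memC hh⟩⁻¹ from rfl, map_mul, map_mul, map_inv, h1, mul_one, mul_inv_cancel]

theorem conj_cV {x : G} (hx : x ∈ S.V) : c * x * c⁻¹ ∈ S.V := by
  rcases S.mem_V.1 hx with e | e | e | e <;> rw [e]
  · rw [mul_one, mul_inv_cancel]; exact one_mem _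
  · rw [S.ca]; exact S.memBV
  · rw [S.cb]; exact S.V.mul_mem S.memAV S.memBV
  · rw [S.c_ab]; exact S.memAV

theorem conj_ZJ [Finite G] {h x : G} (hh : Commute h z) (hx : x ∈ S.ZJ) : h * x * h⁻¹ ∈ S.ZJ := by
  refine S.central (S.conj_J hh (S.ZJ_le hx)) fun q hq => ?_
  have := (S.ZJ_comm hx (S.conj_J hh.inv_left hq)).symm.map (MulAut.conj h).toMonoidHom
  simpa [mul_assoc] using this

/-- Commutators of `c` with the eight central elements lie in the four-group. -/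
theorem c_comm_ZJ {x : G} (hx : x ∈ S.ZJ) : c * x * c⁻¹ * x⁻¹ ∈ S.V := by
  obtain ⟨y, hy, e⟩ := hx
  have h1 : c * y * c⁻¹ * y⁻¹ ∈ S.V := S.V.mul_mem (S.conj_cV hy) (S.V.inv_mem hy)
  rcases e with rfl | rfl
  · exact h1
  · rw [show c * (y * z) * c⁻¹ * (y * z)⁻¹ = c * y * (z * c⁻¹) * z⁻¹ * y⁻¹ by group, ← S.cz.inv_left.eq]
    simpa [mul_assoc] using h1

/-- The centraliser normalises the four-group. -/
theorem conj_V [Finite G] {h x : G} (hh : Commute h z) (hx : x ∈ S.V) : h * x * h⁻¹ ∈ S.V := by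
  have hcomm : ∀ w ∈ S.ZJ, h * c * h⁻¹ * w * (h * c * h⁻¹)⁻¹ * w⁻¹ ∈ S.V := by
    intro w hw
    have key : ∀ {k j : G}, j ∈ J → j = h * c * h⁻¹ * k → h * c * h⁻¹ * w * (h * c * h⁻¹)⁻¹ * w⁻¹ =
        j * (k⁻¹ * w * k) * j⁻¹ * w⁻¹ := fun {k j} _ e => by rw [e]; group
    have hfix : ∀ {j u : G}, j ∈ J → u ∈ S.ZJ → j * u * j⁻¹ = u := fun hj hu => by
      rw [(S.ZJ_comm hu hj).eq, mul_inv_cancel_right]
    have hc1 : c⁻¹ * w * c ∈ S.ZJ := by
      have := S.conj_ZJ S.cz.inv_left hw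
      rwa [inv_inv] at this
    rcases S.conj_c hh with e | e | e
    · rw [key (k := 1) e (mul_one _).symm, inv_one, one_mul, mul_one, hfix e hw, mul_inv_cancel]
      exact one_mem _
    · rw [key (k := c) e rfl, hfix e hc1]
      have := S.V.inv_mem (S.c_comm_ZJ hc1)
      rwa [show (c * (c⁻¹ * w * c) * c⁻¹ * (c⁻¹ * w * c)⁻¹)⁻¹ = c⁻¹ * w * c * w⁻¹ by group] at this
    · rw [key (k := c * c) e rfl, show (c * c)⁻¹ * w * (c * c) = c * w * c⁻¹ by rw [← S.c_inv, inv_inv],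
        hfix e (S.conj_ZJ S.cz hw)]
      exact S.c_comm_ZJ hw
  obtain ⟨w, hw, rfl⟩ : ∃ w ∈ S.ZJ, c * w * c⁻¹ * w⁻¹ = x := by
    rcases S.mem_V.1 hx with e | e | e | e <;> rw [e]
    · exact ⟨1, one_mem _, by group⟩
    · refine ⟨b, S.V_le_ZJ S.memBV, ?_⟩
      rw [S.cb, mul_inv_cancel_right]
    · refine ⟨a * b, S.V_le_ZJ (S.V.mul_mem S.memAV S.memBV), ?_⟩
      rw [S.c_ab, mul_inv_rev, S.a_inv, S.b_inv, ← S.comAB.eq, ← mul_assoc, S.sqa, one_mul]
    · refine ⟨a, S.V_le_ZJ S.memAV, ?_⟩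
      rw [S.ca, S.a_inv, S.comAB.eq]
  have := hcomm _ (S.conj_ZJ hh hw)
  rwa [show h * c * h⁻¹ * (h * w * h⁻¹) * (h * c * h⁻¹)⁻¹ * (h * w * h⁻¹)⁻¹ =
    h * (c * w * c⁻¹ * w⁻¹) * h⁻¹ by group] at this

/-- The three involutions of the four-group are permuted by `c`. -/
theorem to_a {x : G} (hx : x ∈ S.V) (h1 : x ≠ 1) : ∃ k, Commute k z ∧ k * x * k⁻¹ = a := by
  rcases S.mem_V.1 hx with e | e | e | e
  · exact absurd e h1
  · exact ⟨1, Commute.one_left z, by rw [e]; group⟩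
  · refine ⟨c * c, S.cz.mul_left S.cz, ?_⟩
    rw [e, show c * c * b * (c * c)⁻¹ = c * (c * b * c⁻¹) * c⁻¹ by group, S.cb, S.c_ab]
  · exact ⟨c, S.cz, by rw [e, S.c_ab]⟩

theorem comm_Z {h x : G} (hz : Commute h z) (ha : Commute h a) (hb : Commute h b) (hx : x ∈ S.ZJ) :
    Commute h x := by
  obtain ⟨y, hy, e⟩ := hx
  have hy' : Commute h y := by
    rcases hy with r | r | r | r <;> rw [r]
    exacts [Commute.one_right h, ha, hb, ha.mul_right hb]
  rcases e with e | e <;> rw [e]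
  exacts [hy', hy'.mul_right hz]

/-- Elements fixing `a` fix or swap the two others. -/
theorem swap_b [Finite G] {h : G} (hz : Commute h z) (ha : Commute h a) :
    h * b * h⁻¹ = b ∨ h * b * h⁻¹ = a * b := by
  have e : h * a * h⁻¹ = a := conj_eq_iff.2 ha
  rcases S.mem_V.1 (S.conj_V hz S.memBV) with r | r | r | r
  · exact absurd (conj_eq_one_iff.1 r) S.b_ne
  · exact absurd (mul_left_cancel (mul_right_cancel (r.trans e.symm))) S.ab_ne
  · exact Or.inl r
  · exact Or.inr r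

theorem mem_Ka {h : G} : h ∈ S.Ka ↔ Commute h z ∧ Commute h a :=
  ⟨fun hh => ⟨comm_of_mem (Subgroup.mem_inf.1 hh).1, comm_of_mem (Subgroup.mem_inf.1 hh).2⟩,
    fun hh => Subgroup.mem_inf.2 ⟨memC hh.1, memC hh.2⟩⟩

theorem mem_inner {h : G} : h ∈ S.inner ↔ Commute h z ∧ Commute h a ∧ Commute h b :=
  ⟨fun hh => ⟨(S.mem_Ka.1 (Subgroup.mem_inf.1 hh).1).1, (S.mem_Ka.1 (Subgroup.mem_inf.1 hh).1).2,
    comm_of_mem (Subgroup.mem_inf.1 hh).2⟩,
    fun hh => Subgroup.mem_inf.2 ⟨S.mem_Ka.2 ⟨hh.1, hh.2.1⟩, memC hh.2.2⟩⟩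

theorem inner_le_Ka : S.inner ≤ S.Ka := inf_le_left

theorem J_le_inner : J ≤ S.inner := fun q hq =>
  S.mem_inner.2 ⟨S.commJ hq, (S.comA q hq).symm, (S.comB q hq).symm⟩

theorem J_le_Ka : J ≤ S.Ka := le_trans S.J_le_inner S.inner_le_Ka

/-- The automorphism of an element fixing `a`. -/
def fa : ↥S.Ka →* MulAut P := S.f.comp (Subgroup.inclusion inf_le_left)

theorem fa_ker (h : ↥S.Ka) : S.fa h = 1 ↔ (h : G) ∈ J := by
  refine (S.ker _).trans ⟨fun e => ?_, Or.inl⟩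
  have ha := (S.mem_Ka.1 h.2).2
  have no : ∀ k : G, (h : G) * k ∈ J → Commute k a := fun k hk => by
    have := ha.inv_left.mul_left (S.comA _ hk).symm
    rwa [inv_mul_cancel_left] at this
  rcases e with e | e | e
  · exact e
  · have h1 := conj_eq_iff.2 (no c e)
    rw [S.ca] at h1
    exact absurd h1 S.ab_ne
  · have h1 := conj_eq_iff.2 (no (c * c) e)
    rw [show c * c * a * (c * c)⁻¹ = c * (c * a * c⁻¹) * c⁻¹ by group, S.ca, S.cb] at h1
    exact absurd (mul_eq_left.1 h1) S.b_ne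

theorem f_c : S.f ⟨c, memC S.cz⟩ = 1 :=
  (S.ker _).2 (Or.inr (Or.inr (by rw [← mul_assoc, S.c3]; exact one_mem J)))

theorem fa_surj [Finite G] : Function.Surjective S.fa := fun g => by
  obtain ⟨⟨h, hh⟩, rfl⟩ := S.surj g
  have hz : Commute h z := comm_of_mem hh
  have h1 : h * a * h⁻¹ ≠ 1 := fun e => S.a_ne (conj_eq_one_iff.1 e)
  have key : ∀ {k : G} (hk : Commute k z), k * (h * a * h⁻¹) * k⁻¹ = a → S.f ⟨k, memC hk⟩ = 1 →
      ∃ x, S.fa x = S.f ⟨h, hh⟩ := fun {k} hk e ek => by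
    have hm : k * h ∈ S.Ka := S.mem_Ka.2 ⟨hk.mul_left hz, conj_eq_iff.1 (by
      rw [show k * h * a * (k * h)⁻¹ = k * (h * a * h⁻¹) * k⁻¹ by group, e])⟩
    refine ⟨⟨k * h, hm⟩, ?_⟩
    show S.f ⟨k * h, _⟩ = _
    rw [show (⟨k * h, (Subgroup.mem_inf.1 hm).1⟩ : ↥(centralizer ({z} : Set G))) = ⟨k, memC hk⟩ * ⟨h, hh⟩ from rfl,
      map_mul, ek, one_mul]
  rcases S.mem_V.1 (S.conj_V hz S.memAV) with r | r | r | r
  · exact absurd r h1
  · exact key (Commute.one_left z) (by rw [r]; group) (map_one S.f)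
  · refine key (S.cz.mul_left S.cz)
      (by rw [r, show c * c * b * (c * c)⁻¹ = c * (c * b * c⁻¹) * c⁻¹ by group, S.cb, S.c_ab]) ?_
    rw [show (⟨c * c, memC (S.cz.mul_left S.cz)⟩ : ↥(centralizer ({z} : Set G))) = ⟨c, memC S.cz⟩ * ⟨c, memC S.cz⟩
      from rfl, map_mul, S.f_c, one_mul]
  · exact key S.cz (by rw [r, S.c_ab]) S.f_c

theorem card_Ka [Finite G] : Nat.card ↥S.Ka = 2 ^ 11 * (2 * 25920) := by
  have h := Subgroup.card_eq_card_quotient_mul_card_subgroup S.fa.ker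
  rw [Nat.card_congr (QuotientGroup.quotientKerEquivRange S.fa).toEquiv, MonoidHom.range_eq_top.2 S.fa_surj,
    Subgroup.card_top, S.autCard] at h
  have hk : Nat.card ↥S.fa.ker = Nat.card ↥J := Nat.card_congr
    { toFun := fun q => ⟨q.1.1, (S.fa_ker _).1 q.2⟩
      invFun := fun q => ⟨⟨q.1, S.J_le_Ka q.2⟩, (S.fa_ker ⟨q.1, S.J_le_Ka q.2⟩).2 q.2⟩
      left_inv := fun _ => rfl
      right_inv := fun _ => rfl }
  rw [hk, S.cardJ] at h
  omega

theorem exists_out : ∃ o : ↥S.Ka, (o : G) * b * (o : G)⁻¹ = a * b := by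
  obtain ⟨o, oz, oa, ob⟩ := S.out
  exact ⟨⟨o, S.mem_Ka.2 ⟨oz, conj_eq_iff.1 oa⟩⟩, ob⟩

/-- The part centralising the four-group gives the inner automorphisms. -/
theorem inner_iff [Finite G] (h : ↥S.Ka) :
    (h : G) ∈ S.inner ↔ S.fa h ∈ (MulAut.conj : P →* MulAut P).range := by
  haveI := S.finiteP
  haveI : Finite (MulAut P) := Finite.of_injective (fun a : MulAut P => (a : P → P)) DFunLike.coe_injective
  set N : Subgroup ↥S.Ka := S.inner.subgroupOf S.Ka with hN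
  obtain ⟨o, ho⟩ := S.exists_out
  have ho' : o ∉ N := fun e => S.a_ne (by
    have h2 : (o : G) * b * (o : G)⁻¹ = b := conj_eq_iff.2 (S.mem_inner.1 e).2.2
    rw [ho] at h2
    exact mul_eq_right.1 h2)
  have hmem : ∀ h : ↥S.Ka, h ∈ N ↔ (h : G) * b * (h : G)⁻¹ = b := fun h =>
    ⟨fun e => conj_eq_iff.2 (S.mem_inner.1 e).2.2,
      fun e => S.mem_inner.2 ⟨(S.mem_Ka.1 h.2).1, (S.mem_Ka.1 h.2).2, conj_eq_iff.1 e⟩⟩
  have hidx : N.index = 2 := by
    refine Subgroup.index_eq_two_iff.2 ⟨o, fun h => ?_⟩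
    rw [hmem, hmem, Subgroup.coe_mul,
      show (h : G) * o * b * ((h : G) * o)⁻¹ = (h : G) * ((o : G) * b * (o : G)⁻¹) * (h : G)⁻¹ by group, ho,
      conj_mul_eq, conj_eq_iff.2 (S.mem_Ka.1 h.2).2]
    rcases S.swap_b (S.mem_Ka.1 h.2).1 (S.mem_Ka.1 h.2).2 with e | e <;> rw [e]
    · refine Or.inr ⟨rfl, fun e' => S.a_ne ?_⟩
      exact mul_eq_right.1 e'
    · refine Or.inl ⟨by rw [← mul_assoc, S.sqa, one_mul], fun e' => S.a_ne ?_⟩
      exact mul_eq_right.1 e'
  have hker : S.fa.ker ≤ N := fun q hq => S.J_le_inner ((S.fa_ker q).1 hq)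
  have hcom : (N.map S.fa).comap S.fa = N := by rw [Subgroup.comap_map_eq, sup_eq_left.2 hker]
  have hle : (MulAut.conj : P →* MulAut P).range ≤ N.map S.fa :=
    FiTwo.inner_le S.iso.some ((N.index_map_eq S.fa_surj hker).trans hidx).le
  have heq : (MulAut.conj : P →* MulAut P).range = N.map S.fa := by
    refine Subgroup.eq_of_le_of_card_ge hle ?_
    have h1 := (N.map S.fa).card_mul_index
    rw [N.index_map_eq S.fa_surj hker, hidx, S.autCard] at h1
    rw [FiTwo.card_inner S.iso.some]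
    omega
  rw [heq, ← Subgroup.mem_comap, hcom]
  rfl

/-- The inner part is normal. -/
theorem conj_inner [Finite G] {h i : G} (hz : Commute h z) (hi : i ∈ S.inner) : h * i * h⁻¹ ∈ S.inner := by
  obtain ⟨iz, ia, ib⟩ := S.mem_inner.1 hi
  have key : ∀ x ∈ S.V, Commute (h * i * h⁻¹) x := fun x hx => by
    have hx' := S.conj_V hz.inv_left hx
    have h1 : Commute i (h⁻¹ * x * h⁻¹⁻¹) := S.comm_Z iz ia ib (S.V_le_ZJ hx')
    have := h1.map (MulAut.conj h).toMonoidHom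
    simpa [mul_assoc] using this
  exact S.mem_inner.2 ⟨(hz.mul_left iz).mul_left hz.inv_left, key a S.memAV, key b S.memBV⟩

/-- The element `c` centralises the inner part modulo the core. -/
theorem c_inner [Finite G] {i : G} (hi : i ∈ S.inner) : c * i * c⁻¹ * i⁻¹ ∈ J := by
  have hz := (S.mem_inner.1 hi).1
  have hm : c * i * c⁻¹ * i⁻¹ ∈ S.inner := S.inner.mul_mem (S.conj_inner S.cz hi) (S.inner.inv_mem hi)
  refine (S.fa_ker ⟨_, S.inner_le_Ka hm⟩).1 ?_
  show S.f (⟨c, memC S.cz⟩ * ⟨i, memC hz⟩ * ⟨c, memC S.cz⟩⁻¹ * ⟨i, memC hz⟩⁻¹) = 1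
  rw [map_mul, map_mul, map_mul, map_inv, map_inv, S.f_c]
  group

end Setting

end Cfsg.Lib.FiThree
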