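import Cfsg.Agent.FiThreeCentral.Basic
import Cfsg.Agent.USixType.Ext.Main
import Cfsg.Agent.FiTwoCentral.Basic
import Cfsg.Agent.Components.Cores
import Cfsg.Agent.S0814

/-!
# The setting from the hypotheses
-/

set_option autoImplicit false
set_option Elab.async false
set_option maxRecDepth 100000
set_option linter.style.haveILetI false
set_option linter.unusedSectionVars false

namespace Cfsg.Lib.FiThree

open Subgroup Cfsg.Lib.USixType

universe u v

section
variable {H : Type u} [Group H] [Finite H] {J₀ : Subgroup H}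

/-- An element inverting `c` modulo the core. -/
theorem exists_inverting {P : Type v} [Group P] [J₀.Normal] {zc c : H} (f : H →* MulAut P) (hf : Function.Surjective f)
    (hker : ∀ h, f h = 1 ↔ h ∈ J₀ ∨ h * c ∈ J₀ ∨ h * (c * c) ∈ J₀) (hc3 : c * c * c = 1)
    (hzJ : zc ∈ J₀) (hz : ∀ h, Commute h zc) (hz2 : zc * zc = 1) (hz1 : zc ≠ 1) (hcard : Nat.card ↥J₀ = 2 ^ 11)
    (hCc : Nat.card ↥(centralizer ({c} : Set H)) ≤ 6 * 25920) (hP : Nat.card (MulAut P) = 2 * 25920) :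
    ∃ h, h * c * h⁻¹ * c ∈ J₀ := by
  classical
  by_contra hno
  push Not at hno
  have hcc : c ∉ J₀ := fun h => by
    have := hno 1
    rw [one_mul, inv_one, mul_one] at this
    exact this (mul_mem h h)
  have hfc : f c = 1 := (hker c).2 (Or.inr (Or.inr (by rw [← mul_assoc, hc3]; exact one_mem _)))
  have hmem : ∀ h, c⁻¹ * (h * c * h⁻¹) ∈ J₀ := fun h => by
    have hf1 : f (h * c * h⁻¹) = 1 := by rw [map_mul, map_mul, hfc, mul_one, map_inv, mul_inv_cancel]
    rcases (hker _).1 hf1 with e | e | e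
    · exfalso
      have := (inferInstance : J₀.Normal).conj_mem _ e h⁻¹
      exact hcc (by simpa [mul_assoc] using this)
    · exact absurd e (hno h)
    · have := (inferInstance : J₀.Normal).conj_mem _ e c⁻¹
      rwa [inv_inv, show c⁻¹ * (h * c * h⁻¹ * (c * c)) * c = c⁻¹ * (h * c * h⁻¹) * (c * c * c) by group, hc3,
        mul_one] at this
  set C := centralizer ({c} : Set H)
  let F : H ⧸ C → ↥J₀ := Quotient.lift (fun h => (⟨c⁻¹ * (h * c * h⁻¹), hmem h⟩ : ↥J₀)) fun p q hpq => by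
    refine Subtype.ext ?_
    have h1 : Commute (p⁻¹ * q) c := mem_centralizer_singleton_iff.1 (QuotientGroup.leftRel_apply.1 hpq)
    show c⁻¹ * (p * c * p⁻¹) = c⁻¹ * (q * c * q⁻¹)
    congr 1
    calc p * c * p⁻¹ = p * ((p⁻¹ * q) * c * (p⁻¹ * q)⁻¹) * p⁻¹ := by rw [h1.eq, mul_inv_cancel_right]
      _ = _ := by group
  have hF : Function.Injective F := fun x y e => by
    obtain ⟨p, rfl⟩ := QuotientGroup.mk_surjective x
    obtain ⟨q, rfl⟩ := QuotientGroup.mk_surjective y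
    have e' : p * c * p⁻¹ = q * c * q⁻¹ := mul_left_cancel (congrArg Subtype.val e : c⁻¹ * _ = c⁻¹ * _)
    refine QuotientGroup.eq.2 (mem_centralizer_singleton_iff.2 ?_)
    calc p⁻¹ * q * c = p⁻¹ * (q * c * q⁻¹) * q := by group
      _ = _ := by rw [← e']; group
  have hkerle : 3 * 2 ^ 11 ≤ Nat.card ↥f.ker := by
    let g : Fin 3 × ↥J₀ → ↥f.ker := fun p => ⟨c ^ (p.1 : ℕ) * p.2, by
      rw [MonoidHom.mem_ker, map_mul, map_pow, hfc, one_pow, one_mul]
      exact (hker _).2 (Or.inl p.2.2)⟩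
    have hg : Function.Injective g := by
      rintro ⟨i, x⟩ ⟨j, y⟩ e
      have e' : c ^ (i : ℕ) * (x : H) = c ^ (j : ℕ) * y := congrArg Subtype.val e
      have hm : (c ^ (j : ℕ))⁻¹ * c ^ (i : ℕ) ∈ J₀ := by
        rw [show (c ^ (j : ℕ))⁻¹ * c ^ (i : ℕ) = (c ^ (j : ℕ))⁻¹ * (c ^ (i : ℕ) * x) * (x : H)⁻¹ by group, e']
        rw [inv_mul_cancel_left]
        exact mul_mem y.2 (inv_mem x.2)
      have hij : i = j := by
        by_contra hne
        apply hcc
        have h2 : c * c ∈ J₀ → c ∈ J₀ := fun h => by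
          have := mul_mem h h
          rwa [show c * c * (c * c) = c by rw [← mul_assoc, hc3, one_mul]] at this
        have h3 : c⁻¹ = c * c := inv_eq_of_mul_eq_one_left hc3
        have h4 : ∀ n : ℕ, c ^ n ∈ J₀ → n % 3 = 0 := fun n hn => by
          have hmod : c ^ n = c ^ (n % 3) := by
            conv_lhs => rw [← Nat.mod_add_div n 3, pow_add, pow_mul,
              show c ^ 3 = 1 by rw [pow_succ, pow_two, hc3], one_pow, mul_one]
          rcases (show n % 3 = 0 ∨ n % 3 = 1 ∨ n % 3 = 2 by omega) with r | r | r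
          · exact r
          · rw [hmod, r, pow_one] at hn; exact absurd hn hcc
          · rw [hmod, r, pow_two] at hn; exact absurd (h2 hn) hcc
        exfalso
        rcases le_total (i : ℕ) (j : ℕ) with hle | hle
        · have h5 := inv_mem hm
          rw [mul_inv_rev, inv_inv, ← Nat.add_sub_cancel' hle, pow_add, inv_mul_cancel_left] at h5
          have := h4 _ h5
          omega
        · rw [← Nat.add_sub_cancel' hle, pow_add, inv_mul_cancel_left] at hm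
          have := h4 _ hm
          omega
      subst hij
      exact Prod.ext rfl (Subtype.ext (mul_left_cancel e'))
    have := Nat.card_le_card_of_injective g hg
    rwa [Nat.card_prod, Nat.card_fin, hcard] at this
  have hH : Nat.card ↥f.ker * (2 * 25920) = Nat.card H := by
    rw [← f.ker.card_mul_index, Subgroup.index_ker, MonoidHom.range_eq_top.2 hf, Subgroup.card_top, hP]
  have hidx : Nat.card (H ⧸ C) = 2 ^ 11 := by
    refine le_antisymm (hcard ▸ Nat.card_le_card_of_injective F hF) ?_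
    by_contra hlt
    push Not at hlt
    have h1 : Nat.card ↥C * Nat.card (H ⧸ C) = Nat.card H := C.card_mul_index
    have h2 : Nat.card ↥C * Nat.card (H ⧸ C) ≤ 6 * 25920 * (2 ^ 11 - 1) := Nat.mul_le_mul hCc (by omega)
    omega
  obtain ⟨x, hx⟩ := (hF.bijective_of_nat_card_le (by rw [hidx, hcard])).2 ⟨zc, hzJ⟩
  obtain ⟨h, rfl⟩ := QuotientGroup.mk_surjective x
  have e : c⁻¹ * (h * c * h⁻¹) = zc := congrArg Subtype.val hx
  rw [inv_mul_eq_iff_eq_mul] at e
  have e3 : (h * c * h⁻¹) * (h * c * h⁻¹) * (h * c * h⁻¹) = 1 := by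
    rw [show (h * c * h⁻¹) * (h * c * h⁻¹) * (h * c * h⁻¹) = h * (c * c * c) * h⁻¹ by group, hc3]
    group
  rw [e, show c * zc * (c * zc) * (c * zc) = c * (zc * c) * zc * c * zc by group, ← (hz c).eq,
    show c * (c * zc) * zc * c * zc = c * c * (zc * zc) * c * zc by group, hz2, mul_one, hc3, one_mul] at e3
  exact hz1 e3

set_option maxHeartbeats 1000000 in
/-- The four-group of commutators of `c` with the central elements and what it satisfies. -/
theorem four_group {V₀ E₀ : Subgroup H} [J₀.Normal] (hdp : Cfsg.IsInternalDirectProduct V₀ E₀ J₀)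
    (hV : Nat.card ↥V₀ = 4) (hV2 : ∀ v ∈ V₀, v * v = 1) {zc c : H} (hzE : zc ∈ E₀) (hz : ∀ h, Commute h zc)
    (hz2 : zc * zc = 1) (hz1 : zc ≠ 1) (hcenE : ∀ x ∈ E₀, (∀ y ∈ E₀, Commute x y) → x = 1 ∨ x = zc)
    (hc3 : c * c * c = 1) (hfpf : ∀ q ∈ J₀, Commute c q → q = 1 ∨ q = zc) :
    ∃ a b : H, a ∈ J₀ ∧ b ∈ J₀ ∧ a * a = 1 ∧ b * b = 1 ∧ a ≠ 1 ∧ b ≠ a ∧
      (∀ q ∈ J₀, Commute a q) ∧ (∀ q ∈ J₀, Commute b q) ∧ c * a * c⁻¹ = b ∧ c * b * c⁻¹ = a * b ∧
      (∀ x, InF a b x → x ∈ E₀ → x = 1) ∧ (∀ q ∈ J₀, ∃ x, InF a b x ∧ x * q ∈ E₀) ∧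
      ((∃ h, h * c * h⁻¹ * c ∈ J₀) → ∃ o, o * a * o⁻¹ = a ∧ o * b * o⁻¹ = a * b) := by
  classical
  obtain ⟨hV1, hE1, hcomm, hmeet, hsup⟩ := hdp
  have Vab : ∀ p ∈ V₀, ∀ q ∈ V₀, Commute p q := fun p hp q hq => by
    have e := hV2 _ (mul_mem hp hq)
    show p * q = q * p
    rw [← inv_eq_of_mul_eq_one_left e, mul_inv_rev, inv_eq_of_mul_eq_one_left (hV2 p hp),
      inv_eq_of_mul_eq_one_left (hV2 q hq)]
  let Z8 : Subgroup H := V₀ ⊔ zpowers zc
  haveI : (zpowers zc).Normal := ⟨fun x hx g => by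
    obtain ⟨n, rfl⟩ := hx
    show g * zc ^ n * g⁻¹ ∈ _
    rw [((hz g).zpow_right n).eq, mul_inv_cancel_right]
    exact ⟨n, rfl⟩⟩
  have exVE : ∀ q ∈ J₀, ∃ v ∈ V₀, ∃ e ∈ E₀, q = v * e := by
    intro q hq
    let T : Subgroup H :=
      { carrier := {q | ∃ v ∈ V₀, ∃ e ∈ E₀, q = v * e}
        one_mem' := ⟨1, one_mem _, 1, one_mem _, (mul_one 1).symm⟩
        mul_mem' := by
          rintro _ _ ⟨v, hv, e, he, rfl⟩ ⟨w, hw, d, hd, rfl⟩
          exact ⟨v * w, mul_mem hv hw, e * d, mul_mem he hd, by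
            rw [show v * e * (w * d) = v * (e * w) * d by group,
              show e * w = w * e from (hcomm w hw e he).symm]
            group⟩
        inv_mem' := by
          rintro _ ⟨v, hv, e, he, rfl⟩
          exact ⟨v⁻¹, inv_mem hv, e⁻¹, inv_mem he, by
            rw [mul_inv_rev, show e⁻¹ * v⁻¹ = v⁻¹ * e⁻¹ from (hcomm _ (inv_mem hv) _ (inv_mem he)).symm]⟩ }
    have hle : V₀ ⊔ E₀ ≤ T := sup_le (fun x hx => ⟨x, hx, 1, one_mem _, (mul_one x).symm⟩)
      fun x hx => ⟨1, one_mem _, x, hx, (one_mul x).symm⟩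
    exact hle (hsup.symm ▸ hq)
  have Z8elt : ∀ x, x ∈ Z8 ↔ ∃ v ∈ V₀, x = v ∨ x = v * zc := fun x => by
    constructor
    · intro hx
      have hx' : x ∈ ((V₀ ⊔ zpowers zc : Subgroup H) : Set H) := hx
      rw [Subgroup.mul_normal] at hx'
      obtain ⟨v, hv, w, hw, rfl⟩ := hx'
      rcases Ext.eq_one_or_of_zpowers hz2 hw with e | e <;> subst e
      · exact ⟨v, hv, Or.inl (mul_one v)⟩
      · exact ⟨v, hv, Or.inr rfl⟩
    · rintro ⟨v, hv, e | e⟩ <;> rw [e]
      · exact mem_sup_left hv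
      · exact mul_mem (mem_sup_left hv) (mem_sup_right (mem_zpowers _))
  have Z8le : Z8 ≤ J₀ := sup_le hV1 (zpowers_le.2 (hE1 hzE))
  have Z8iff : ∀ x ∈ J₀, x ∈ Z8 ↔ ∀ q ∈ J₀, Commute x q := fun x hxJ => by
    refine ⟨fun hx q hq => ?_, fun h => ?_⟩
    · obtain ⟨v, hv, e⟩ := (Z8elt x).1 hx
      obtain ⟨w, hw, d, hd, rfl⟩ := exVE q hq
      have hvq : Commute v (w * d) := (Vab v hv w hw).mul_right (hcomm v hv d hd)
      rcases e with e | e <;> rw [e]
      exacts [hvq, hvq.mul_left (hz _).symm]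
    · obtain ⟨v, hv, e, he, rfl⟩ := exVE x hxJ
      have hec : ∀ y ∈ E₀, Commute e y := fun y hy => by
        have := (show Commute v y from hcomm v hv y hy).inv_left.mul_left (h y (hE1 hy))
        rwa [inv_mul_cancel_left] at this
      refine (Z8elt _).2 ⟨v, hv, ?_⟩
      rcases hcenE e he hec with r | r <;> rw [r]
      exacts [Or.inl (mul_one v), Or.inr rfl]
  have Z8conj : ∀ (h : H) {x}, x ∈ Z8 → h * x * h⁻¹ ∈ Z8 := fun h {x} hx => by
    have hxJ : h * x * h⁻¹ ∈ J₀ := (inferInstance : J₀.Normal).conj_mem x (Z8le hx) h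
    refine (Z8iff _ hxJ).2 fun q hq => ?_
    have := ((Z8iff x (Z8le hx)).1 hx _ ((inferInstance : J₀.Normal).conj_mem q hq h⁻¹)).map
      (MulAut.conj h).toMonoidHom
    simpa [mul_assoc] using this
  have Z8comm : ∀ {x y}, x ∈ Z8 → y ∈ Z8 → Commute x y := fun hx hy => (Z8iff _ (Z8le hx)).1 hx _ (Z8le hy)
  have Z8sq : ∀ {x}, x ∈ Z8 → x * x = 1 := fun {x} hx => by
    obtain ⟨v, hv, e | e⟩ := (Z8elt x).1 hx <;> rw [e]
    · exact hV2 v hv
    · rw [show v * zc * (v * zc) = v * (zc * v) * zc by group, ← (hz v).eq,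
        show v * (v * zc) * zc = v * v * (zc * zc) by group, hV2 v hv, hz2, one_mul]
  have Z8inv : ∀ {x}, x ∈ Z8 → x⁻¹ = x := fun hx => inv_eq_of_mul_eq_one_left (Z8sq hx)
  obtain ⟨v₀, hv₀, hv₀1⟩ : ∃ v ∈ V₀, v ≠ 1 := by
    by_contra h
    push Not at h
    rw [(Subgroup.eq_bot_iff_forall V₀).2 h, Subgroup.card_bot] at hV
    norm_num at hV
  have hv8 : v₀ ∈ Z8 := mem_sup_left hv₀
  set v' := c * v₀ * c⁻¹ with hv'
  have hv'8 : v' ∈ Z8 := Z8conj c hv8
  set v'' := c * v' * c⁻¹ with hv''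
  have hv''8 : v'' ∈ Z8 := Z8conj c hv'8
  have hcv'' : c * v'' * c⁻¹ = v₀ := by
    rw [hv'', hv', show c * (c * (c * v₀ * c⁻¹) * c⁻¹) * c⁻¹ = c * c * c * v₀ * (c * c * c)⁻¹ by group, hc3]
    group
  obtain ⟨a, ha⟩ : ∃ a, a = v' * v₀ := ⟨_, rfl⟩
  obtain ⟨b, hb⟩ : ∃ b, b = v'' * v' := ⟨_, rfl⟩
  have ha8 : a ∈ Z8 := ha ▸ mul_mem hv'8 hv8
  have hb8 : b ∈ Z8 := hb ▸ mul_mem hv''8 hv'8
  have hzc : c * zc * c⁻¹ = zc := conj_eq_iff.2 (hz c)
  have hcab : c * a * c⁻¹ = b := by rw [ha, hb, conj_mul_eq]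
  have habv : a * b = v'' * v₀ := by
    rw [ha, hb, (Z8comm hv'8 hv8).eq, show v₀ * v' * (v'' * v') = v₀ * (v' * v'') * v' by group,
      (Z8comm hv'8 hv''8).eq, show v₀ * (v'' * v') * v' = v₀ * v'' * (v' * v') by group, Z8sq hv'8, mul_one,
      (Z8comm hv8 hv''8).eq]
  have hcb : c * b * c⁻¹ = a * b := by rw [habv, hb, conj_mul_eq, hcv'', ← hv'', (Z8comm hv8 hv''8).eq]
  have ha1 : a ≠ 1 := fun e => by
    have e1 : c * v₀ * c⁻¹ = v₀ := by
      rw [← hv', ← Z8inv hv8]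
      exact eq_inv_of_mul_eq_one_left (ha ▸ e)
    rcases hfpf v₀ (hV1 hv₀) (conj_eq_iff.1 e1) with r | r
    · exact hv₀1 r
    · exact hv₀1 (Subgroup.mem_bot.1 (hmeet ▸ Subgroup.mem_inf.2 ⟨hv₀, r ▸ hzE⟩))
  have haz : a ≠ zc := fun e => by
    have hbz : b = zc := by rw [← hcab, e, hzc]
    have h3 : c * (a * b) * c⁻¹ = a := by
      rw [conj_mul_eq, hcab, hcb, ← mul_assoc, (Z8comm hb8 ha8).eq, mul_assoc, Z8sq hb8, mul_one]
    rw [e, hbz, hz2, mul_one, mul_inv_cancel] at h3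
    exact hz1 h3.symm
  have hba : b ≠ a := fun e => by
    rcases hfpf a (Z8le ha8) (conj_eq_iff.1 (hcab.trans e)) with r | r
    exacts [ha1 r, haz r]
  have hbne : b ≠ 1 ∧ b ≠ zc := ⟨fun e => ha1 (conj_eq_one_iff.1 (hcab.trans e)), fun e => haz (by
    have h2 : c * a * c⁻¹ = c * zc * c⁻¹ := by rw [hcab, e, hzc]
    exact mul_left_cancel (mul_right_cancel h2))⟩
  have habne : a * b ≠ 1 ∧ a * b ≠ zc := ⟨fun e => hbne.1 (conj_eq_one_iff.1 (hcb.trans e)), fun e => hbne.2 (by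
    have h2 : c * b * c⁻¹ = c * zc * c⁻¹ := by rw [hcb, e, hzc]
    exact mul_left_cancel (mul_right_cancel h2))⟩
  let A4 : Subgroup H :=
    { carrier := {x | InF a b x}
      one_mem' := Or.inl rfl
      mul_mem' := fun {p q} hp hq => by
        have hab := (Z8comm ha8 hb8).eq
        have e1 : a * (a * b) = b := by rw [← mul_assoc, Z8sq ha8, one_mul]
        have e2 : (a * b) * a = b := by rw [hab, mul_assoc, Z8sq ha8, mul_one]
        have e3 : b * (a * b) = a := by rw [hab, ← mul_assoc, Z8sq hb8, one_mul]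
        have e4 : (a * b) * b = a := by rw [mul_assoc, Z8sq hb8, mul_one]
        have e5 : (a * b) * (a * b) = 1 := Z8sq (mul_mem ha8 hb8)
        show InF a b (p * q)
        rcases hp with h | h | h | h <;> rw [h] <;> rcases hq with h' | h' | h' | h' <;> rw [h'] <;>
          simp only [InF, one_mul, mul_one, e1, e2, e3, e4, e5, Z8sq ha8, Z8sq hb8, hab.symm, true_or, or_true]
      inv_mem' := fun {p} hp => by
        show InF a b p⁻¹
        rcases hp with h | h | h | h <;> rw [h]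
        · exact Or.inl inv_one
        · exact Or.inr (Or.inl (Z8inv ha8))
        · exact Or.inr (Or.inr (Or.inl (Z8inv hb8)))
        · exact Or.inr (Or.inr (Or.inr (Z8inv (mul_mem ha8 hb8)))) }
  have A4le : A4 ≤ Z8 := fun x hx => by
    rcases (hx : InF a b x) with r | r | r | r <;> rw [r]
    exacts [one_mem _, ha8, hb8, mul_mem ha8 hb8]
  have hdisjz : ∀ x ∈ A4, x = zc → False := fun x hx e => by
    rcases (hx : InF a b x) with r | r | r | r <;> rw [r] at e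
    exacts [hz1 e.symm, haz e, hbne.2 e, habne.2 e]
  have cover : ∀ x ∈ Z8, x ∈ A4 ∨ x * zc ∈ A4 := by
    let g : ↥A4 × ↥(zpowers zc) → ↥Z8 := fun p =>
      ⟨p.1 * p.2, mul_mem (A4le p.1.2) (zpowers_le.2 (mem_sup_right (mem_zpowers zc)) p.2.2)⟩
    have hg : Function.Injective g := by
      rintro ⟨x, p⟩ ⟨y, q⟩ e
      have e' : (x : H) * p = y * q := congrArg Subtype.val e
      have hm : (y : H)⁻¹ * x = q * (p : H)⁻¹ := by
        rw [inv_mul_eq_iff_eq_mul, ← mul_assoc, ← e', mul_inv_cancel_right]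
      have hxy : (y : H) = x := by
        rcases Ext.eq_one_or_of_zpowers hz2 (hm ▸ mul_mem q.2 (inv_mem p.2) :
          (y : H)⁻¹ * x ∈ zpowers zc) with r | r
        · exact inv_mul_eq_one.1 r
        · exact (hdisjz _ (mul_mem (inv_mem y.2) x.2) r).elim
      exact Prod.ext (Subtype.ext hxy.symm) (Subtype.ext (mul_left_cancel (hxy ▸ e' : (x : H) * p = x * q)))
    have h4 : 4 ≤ Nat.card ↥A4 := by
      let i : Fin 4 → ↥A4 := ![⟨1, Or.inl rfl⟩, ⟨a, Or.inr (Or.inl rfl)⟩, ⟨b, Or.inr (Or.inr (Or.inl rfl))⟩,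
        ⟨a * b, Or.inr (Or.inr (Or.inr rfl))⟩]
      have n1 : a ≠ a * b := fun e => hbne.1 (left_eq_mul.1 e)
      have n2 : b ≠ a * b := fun e => ha1 (right_eq_mul.1 e)
      have hi : Function.Injective i := by
        intro p q e
        have e' := congrArg Subtype.val e
        fin_cases p <;> fin_cases q <;>
          first
            | rfl
            | exact absurd e' (by first | exact ha1 | exact ha1.symm | exact hbne.1 | exact hbne.1.symm | exact habne.1 | exact habne.1.symm | exact hba | exact hba.symm | exact n1 | exact n1.symm | exact n2 | exact n2.symm)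
      have := Nat.card_le_card_of_injective i hi
      rwa [Nat.card_fin] at this
    have h8 : Nat.card ↥Z8 ≤ 8 := by
      let j : ↥V₀ × ↥(zpowers zc) → ↥Z8 := fun p => ⟨p.1 * p.2, mul_mem (mem_sup_left p.1.2) (mem_sup_right p.2.2)⟩
      have hj : Function.Surjective j := fun x => by
        obtain ⟨v, hv, e | e⟩ := (Z8elt x).1 x.2
        · exact ⟨(⟨v, hv⟩, 1), Subtype.ext (by show v * 1 = _; rw [mul_one, e])⟩
        · exact ⟨(⟨v, hv⟩, ⟨zc, mem_zpowers zc⟩), Subtype.ext e.symm⟩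
      have := Nat.card_le_card_of_surjective j hj
      rwa [Nat.card_prod, hV, Nat.card_zpowers,
        show orderOf zc = 2 from orderOf_eq_prime (by rw [pow_two, hz2]) hz1] at this
    have hb' := hg.bijective_of_nat_card_le (by
      rw [Nat.card_prod, Nat.card_zpowers, show orderOf zc = 2 from orderOf_eq_prime (by rw [pow_two, hz2]) hz1]
      omega)
    intro x hx
    obtain ⟨⟨y, p⟩, e⟩ := hb'.2 ⟨x, hx⟩
    have e' : (y : H) * p = x := congrArg Subtype.val e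
    rcases Ext.eq_one_or_of_zpowers hz2 p.2 with r | r <;> rw [r] at e'
    · rw [mul_one] at e'; exact Or.inl (e' ▸ y.2)
    · refine Or.inr ?_
      rw [← e', mul_assoc, hz2, mul_one]
      exact y.2
  refine ⟨a, b, Z8le ha8, Z8le hb8, Z8sq ha8, Z8sq hb8, ha1, hba, (Z8iff a (Z8le ha8)).1 ha8,
    (Z8iff b (Z8le hb8)).1 hb8, hcab, hcb, ?_, ?_, ?_⟩
  · intro x hx hxE
    rcases hcenE x hxE (fun y hy => (Z8iff x (Z8le (A4le hx))).1 (A4le hx) y (hE1 hy)) with r | r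
    · exact r
    · exact (hdisjz x hx r).elim
  · intro q hq
    obtain ⟨v, hv, e, he, rfl⟩ := exVE q hq
    rcases cover v (mem_sup_left hv) with r | r
    · exact ⟨v, r, by rw [← mul_assoc, hV2 v hv, one_mul]; exact he⟩
    · refine ⟨v * zc, r, ?_⟩
      rw [show v * zc * (v * e) = v * (zc * v) * e by group, ← (hz v).eq,
        show v * (v * zc) * e = v * v * (zc * e) by group, hV2 v hv, one_mul]
      exact mul_mem hzE he
  · rintro ⟨h, hh⟩
    have hA4c : ∀ {x}, x ∈ A4 → c * x * c⁻¹ * x⁻¹ ∈ A4 := fun {x} hx => by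
      refine mul_mem ?_ (inv_mem hx)
      rcases (hx : InF a b x) with r | r | r | r <;> rw [r]
      · exact Or.inl (by group)
      · exact Or.inr (Or.inr (Or.inl hcab))
      · exact Or.inr (Or.inr (Or.inr hcb))
      · exact Or.inr (Or.inl (by rw [conj_mul_eq, hcab, hcb, ← mul_assoc, (Z8comm hb8 ha8).eq, mul_assoc,
          Z8sq hb8, mul_one]))
    have himg : ∀ {y}, y ∈ Z8 → c * y * c⁻¹ * y⁻¹ ∈ A4 := fun {y} hy => by
      rcases cover y hy with r | r
      · exact hA4c r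
      · have := hA4c r
        rwa [conj_mul_eq c y zc, hzc, mul_inv_rev, show c * y * c⁻¹ * zc * (zc⁻¹ * y⁻¹) = c * y * c⁻¹ * y⁻¹ by
          group] at this
    have hact : ∀ {x}, x ∈ Z8 → h * c * h⁻¹ * x * (h * c * h⁻¹)⁻¹ = c⁻¹ * x * c := fun {x} hx => by
      have e : h * c * h⁻¹ = h * c * h⁻¹ * c * c⁻¹ := by group
      rw [e, show h * c * h⁻¹ * c * c⁻¹ * x * (h * c * h⁻¹ * c * c⁻¹)⁻¹ =
        h * c * h⁻¹ * c * (c⁻¹ * x * c) * (h * c * h⁻¹ * c)⁻¹ by group]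
      have hy : c⁻¹ * x * c ∈ Z8 := by
        have := Z8conj c⁻¹ hx
        rwa [inv_inv] at this
      exact conj_eq_iff.2 ((Z8iff _ (Z8le hy)).1 hy _ hh).symm
    have hha : h * a * h⁻¹ ∈ A4 := by
      have hu : h * v₀ * h⁻¹ ∈ Z8 := Z8conj h hv8
      have hy : c⁻¹ * (h * v₀ * h⁻¹) * c ∈ Z8 := by
        have := Z8conj c⁻¹ hu
        rwa [inv_inv] at this
      have e : h * a * h⁻¹ = (c * (c⁻¹ * (h * v₀ * h⁻¹) * c) * c⁻¹ * (c⁻¹ * (h * v₀ * h⁻¹) * c)⁻¹)⁻¹ := by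
        calc h * a * h⁻¹ = h * (c * v₀ * c⁻¹ * v₀⁻¹) * h⁻¹ := by rw [Z8inv hv8, ha, hv']
          _ = (h * c * h⁻¹) * (h * v₀ * h⁻¹) * (h * c * h⁻¹)⁻¹ * (h * v₀ * h⁻¹)⁻¹ := by group
          _ = c⁻¹ * (h * v₀ * h⁻¹) * c * (h * v₀ * h⁻¹)⁻¹ := by rw [hact hu]
          _ = _ := by group
      rw [e]
      exact inv_mem (himg hy)
    have hhb : h * b * h⁻¹ = c⁻¹ * (h * a * h⁻¹) * c := by
      rw [← hact (A4le hha), ← hcab]
      group
    have e1 : c⁻¹ * b * c = a := by rw [← hcab]; group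
    have e2 : c⁻¹ * (a * b) * c = b := by rw [← hcb]; group
    have e0 : c * (a * b) * c⁻¹ = a := by
      rw [conj_mul_eq, hcab, hcb, ← mul_assoc, (Z8comm hb8 ha8).eq, mul_assoc, Z8sq hb8, mul_one]
    have e3 : c⁻¹ * a * c = a * b := by
      calc c⁻¹ * a * c = c⁻¹ * (c * (a * b) * c⁻¹) * c := by rw [e0]
        _ = a * b := by group
    rcases (hha : InF a b _) with r | r | r | r
    · exact absurd (conj_eq_one_iff.1 r) ha1
    · exact ⟨h, r, by rw [hhb, r, e3]⟩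
    · refine ⟨c * c * h, ?_, ?_⟩
      · rw [show c * c * h * a * (c * c * h)⁻¹ = c * (c * (h * a * h⁻¹) * c⁻¹) * c⁻¹ by group, r, hcb, e0]
      · rw [show c * c * h * b * (c * c * h)⁻¹ = c * (c * (h * b * h⁻¹) * c⁻¹) * c⁻¹ by group, hhb, r, e1, hcab, hcb]
    · refine ⟨c * h, ?_, ?_⟩
      · rw [show c * h * a * (c * h)⁻¹ = c * (h * a * h⁻¹) * c⁻¹ by group, r, e0]
      · rw [show c * h * b * (c * h)⁻¹ = c * (h * b * h⁻¹) * c⁻¹ by group, hhb, r, e2, hcb]

set_option maxHeartbeats 1000000 in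
/-- The four-group and the map to the automorphisms inside the centraliser. -/
theorem core_data {P : Type v} [Group P] (eU : ↥U ≃* P) (hAut : Nat.card (MulAut P) = 2 * 25920) (J₀ : Subgroup H)
    (hJ₀ : J₀ = Cfsg.pCore 2 H) [J₀.Normal] (V₀ E₀ : Subgroup H) (hVE : Cfsg.IsInternalDirectProduct V₀ E₀ J₀)
    (hV : Nat.card ↥V₀ = 4) (hV2 : ∀ v ∈ V₀, v ^ 2 = 1)
    (hE : Cfsg.IsExtraspecial 2 ↥E₀) (hEc : Nat.card ↥E₀ = 2 ^ 9)
    (zc c : H) (hcz : ∀ h, Commute h zc) (hz2 : zc * zc = 1) (hz1 : zc ≠ 1) (hc : orderOf c = 3)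
    [(J₀ ⊔ zpowers c).Normal] (e : (H ⧸ (J₀ ⊔ zpowers c)) ≃* MulAut P)
    [((zpowers c ⊔ zpowers zc).subgroupOf (centralizer ({c} : Set H))).Normal]
    (e' : (↥(centralizer ({c} : Set H)) ⧸
      (zpowers c ⊔ zpowers zc).subgroupOf (centralizer ({c} : Set H))) ≃* P) :
    ∃ a b : H, a ∈ J₀ ∧ b ∈ J₀ ∧ a * a = 1 ∧ b * b = 1 ∧ a ≠ 1 ∧ b ≠ a ∧
      (∀ q ∈ J₀, Commute a q) ∧ (∀ q ∈ J₀, Commute b q) ∧ c * a * c⁻¹ = b ∧ c * b * c⁻¹ = a * b ∧
      (∀ x, InF a b x → x ∈ E₀ → x = 1) ∧ (∀ q ∈ J₀, ∃ x, InF a b x ∧ x * q ∈ E₀) ∧ zc ∈ E₀ ∧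
      c * c * c = 1 ∧ (∀ q ∈ J₀, Commute c q → q = 1 ∨ q = zc) ∧
      (∃ f : H →* MulAut P, Function.Surjective f ∧
        ∀ h, f h = 1 ↔ h ∈ J₀ ∨ h * c ∈ J₀ ∨ h * (c * c) ∈ J₀) ∧
      ∃ o, o * a * o⁻¹ = a ∧ o * b * o⁻¹ = a * b := by
  classical
  haveI : Fact (Nat.Prime 2) := ⟨Nat.prime_two⟩
  haveI := FiTwo.isSimple eU
  haveI : Finite P := Finite.of_equiv ↥U eU.toEquiv
  have hP : Nat.card P = 25920 := by rw [← Nat.card_congr eU.toEquiv, card_U]
  have h2J : IsPGroup 2 ↥J₀ := hJ₀ ▸ Cfsg.Lib.Components.isPGroup_pCore 2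
  have hc3 : c * c * c = 1 := by
    have := pow_orderOf_eq_one c
    rwa [hc, pow_succ, pow_two] at this
  haveI hzn : (zpowers zc).Normal := ⟨fun x hx g => by
    obtain ⟨n, rfl⟩ := hx
    show g * zc ^ n * g⁻¹ ∈ _
    rw [((hcz g).zpow_right n).eq, mul_inv_cancel_right]
    exact ⟨n, rfl⟩⟩
  have hzJ : zc ∈ J₀ := hJ₀.symm ▸ Cfsg.Lib.Components.le_pCore
    (IsPGroup.of_card (n := 1) (by
      rw [Nat.card_zpowers, pow_one]
      exact orderOf_eq_prime (by rw [pow_two, hz2]) hz1)) (mem_zpowers zc)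
  have hpow : ∀ {n : ℤ}, c ^ n = 1 ∨ c ^ n = c ∨ c ^ n = c * c := fun {n} => by
    rw [← zpow_mod_orderOf c n, hc]
    have h1 := Int.emod_nonneg n (show (3 : ℤ) ≠ 0 by norm_num)
    have h2 := Int.emod_lt_of_pos n (show (0 : ℤ) < 3 by norm_num)
    rcases (show n % 3 = 0 ∨ n % 3 = 1 ∨ n % 3 = 2 by omega) with r | r | r <;> norm_num [r]
    · exact Or.inr (Or.inr (by first | exact pow_two c | exact zpow_two c))
  have supelt : ∀ x ∈ zpowers c ⊔ zpowers zc, ∃ i w, (i = 1 ∨ i = c ∨ i = c * c) ∧ (w = 1 ∨ w = zc) ∧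
      x = i * w := fun x hx => by
    have hx' : x ∈ ((zpowers c ⊔ zpowers zc : Subgroup H) : Set H) := hx
    rw [Subgroup.mul_normal] at hx'
    obtain ⟨p, hp, q, hq, rfl⟩ := hx'
    obtain ⟨n, rfl⟩ := hp
    exact ⟨_, q, hpow, Ext.eq_one_or_of_zpowers hz2 hq, rfl⟩
  have hcnJ : c ∉ J₀ ∧ c * c ∉ J₀ := by
    have h2 := h2J
    have : c ∉ J₀ := fun h => by
      obtain ⟨k, hk⟩ := h2 ⟨c, h⟩
      have h3 : orderOf c ∣ 2 ^ k := orderOf_dvd_of_pow_eq_one (congrArg Subtype.val hk)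
      rw [hc] at h3
      have := (Nat.prime_dvd_prime_iff_eq Nat.prime_three Nat.prime_two).1 (Nat.prime_three.dvd_of_dvd_pow h3)
      omega
    refine ⟨this, fun h => this ?_⟩
    have := mul_mem h h
    rwa [show c * c * (c * c) = c by rw [← mul_assoc, hc3, one_mul]] at this
  have hfpf : ∀ q ∈ J₀, Commute c q → q = 1 ∨ q = zc := by
    intro q hq hcq
    set K0 := (zpowers c ⊔ zpowers zc).subgroupOf (centralizer ({c} : Set H))
    set N := (J₀.subgroupOf (centralizer ({c} : Set H))).map (QuotientGroup.mk' K0) with hN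
    set N' := N.map e'.toMonoidHom with hN'
    haveI : N'.Normal :=
      (((inferInstance : J₀.Normal).subgroupOf (centralizer ({c} : Set H))).map _ (QuotientGroup.mk'_surjective K0)).map _ e'.surjective
    have hN2 : IsPGroup 2 ↥N' :=
      ((h2J.comap_of_injective (centralizer ({c} : Set H)).subtype
        (Subgroup.subtype_injective _) : IsPGroup 2 ↥(J₀.subgroupOf (centralizer ({c} : Set H)))).map _).map _
    have hbot : N' = ⊥ := (Subgroup.Normal.eq_bot_or_eq_top (inferInstance : N'.Normal)).resolve_right fun e => by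
      obtain ⟨k, hk⟩ := IsPGroup.iff_card.1 hN2
      rw [e, Subgroup.card_top, hP] at hk
      have h3 : 3 ∣ 2 ^ k := hk ▸ (by norm_num)
      have := (Nat.prime_dvd_prime_iff_eq Nat.prime_three Nat.prime_two).1 (Nat.prime_three.dvd_of_dvd_pow h3)
      omega
    have hqC : q ∈ (centralizer ({c} : Set H)) := mem_centralizer_singleton_iff.2 hcq.eq.symm
    have h1 : e' (QuotientGroup.mk (⟨q, hqC⟩ : ↥(centralizer ({c} : Set H)))) = 1 := by
      have : e' (QuotientGroup.mk (⟨q, hqC⟩ : ↥(centralizer ({c} : Set H)))) ∈ N' := ⟨_, ⟨⟨q, hqC⟩, hq, rfl⟩, rfl⟩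
      rwa [hbot, Subgroup.mem_bot] at this
    obtain ⟨i, w, hi, hw, rfl⟩ :=
      supelt q ((QuotientGroup.eq_one_iff (⟨q, hqC⟩ : ↥(centralizer ({c} : Set H)))).1 (e'.map_eq_one_iff.1 h1))
    have hiJ : i ∈ J₀ := by
      have := mul_mem hq (inv_mem (show w ∈ J₀ by rcases hw with r | r <;> rw [r]; exacts [one_mem _, hzJ]))
      rwa [mul_inv_cancel_right] at this
    rcases hi with r | r | r <;> subst i
    · rw [one_mul]; exact hw
    · exact absurd hiJ hcnJ.1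
    · exact absurd hiJ hcnJ.2
  -- the involution lies in the extraspecial factor
  haveI := Finite.of_injective (fun x : ↥E₀ => (x : H)) Subtype.val_injective
  obtain ⟨hV1, hE1, hcomm, hmeet, hsup⟩ := hVE
  have hVsq : ∀ v ∈ V₀, v * v = 1 := fun v hv => by rw [← pow_two]; exact hV2 v hv
  obtain ⟨w, hw, hw1⟩ : ∃ w : ↥E₀, w ∈ Subgroup.center ↥E₀ ∧ w ≠ 1 := by
    by_contra h
    push Not at h
    have h2 := hE.2
    rw [(Subgroup.eq_bot_iff_forall _).2 h, Subgroup.card_bot] at h2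
    omega
  have hwel : ∀ y ∈ Subgroup.center ↥E₀, y = 1 ∨ y = w := fun y hy => by
    obtain ⟨p, q, hne, hu⟩ := Nat.card_eq_two_iff.1 hE.2
    have key : ∀ t : ↥(Subgroup.center ↥E₀), t = p ∨ t = q := fun t => by
      have : t ∈ ({p, q} : Set _) := hu.symm ▸ Set.mem_univ t
      exact this
    have hne' : (1 : ↥(Subgroup.center ↥E₀)) ≠ ⟨w, hw⟩ := fun e => hw1 (congrArg Subtype.val e).symm
    rcases key 1 with r1 | r1 <;> rcases key ⟨w, hw⟩ with r2 | r2 <;> rcases key ⟨y, hy⟩ with r3 | r3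
    all_goals
      first
        | exact absurd (r1.trans r2.symm) hne'
        | exact Or.inl (congrArg Subtype.val (r3.trans r1.symm))
        | exact Or.inr (congrArg Subtype.val (r3.trans r2.symm))
  have hwc : ∀ p ∈ J₀, ∀ q ∈ J₀, p * q * p⁻¹ * q⁻¹ = 1 ∨ p * q * p⁻¹ * q⁻¹ = (w : H) := by
    intro p hp q hq
    have dec : ∀ x ∈ J₀, ∃ v ∈ V₀, ∃ e ∈ E₀, x = v * e := fun x hx => by
      have hx' : x ∈ ((V₀ ⊔ E₀ : Subgroup H) : Set H) := hsup.symm ▸ hx
      rw [Subgroup.coe_mul_of_left_le_normalizer_right V₀ E₀ (fun v hv =>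
        Cfsg.Lib.ZStarApps.mem_normalizer_of_maps fun e he => by
          rw [hcomm v hv e he, mul_inv_cancel_right]; exact he)] at hx'
      obtain ⟨v, hv, e, he, rfl⟩ := hx'
      exact ⟨v, hv, e, he, rfl⟩
    obtain ⟨v, hv, e, he, rfl⟩ := dec p hp
    obtain ⟨u, hu, d, hd, rfl⟩ := dec q hq
    have hvu : Commute v u := by
      show v * u = u * v
      rw [← inv_eq_of_mul_eq_one_left (hVsq _ (mul_mem hv hu)), mul_inv_rev, inv_eq_of_mul_eq_one_left (hVsq v hv),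
        inv_eq_of_mul_eq_one_left (hVsq u hu)]
    have hue : Commute e u := (hcomm u hu e he).symm
    have eq1 : v * e * (u * d) * (v * e)⁻¹ * (u * d)⁻¹ = e * d * e⁻¹ * d⁻¹ := by
      have c1 : Commute v (u * (e * d * e⁻¹)) :=
        hvu.mul_right (hcomm v hv _ (mul_mem (mul_mem he hd) (inv_mem he)))
      have c2 : Commute u (e * d * e⁻¹ * d⁻¹) :=
        hcomm u hu _ (mul_mem (mul_mem (mul_mem he hd) (inv_mem he)) (inv_mem hd))
      calc v * e * (u * d) * (v * e)⁻¹ * (u * d)⁻¹ = v * ((e * u) * d * e⁻¹) * v⁻¹ * (u * d)⁻¹ := by group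
        _ = v * (u * (e * d * e⁻¹)) * v⁻¹ * (u * d)⁻¹ := by rw [hue.eq]; group
        _ = u * (e * d * e⁻¹ * d⁻¹) * u⁻¹ := by rw [c1.eq, mul_inv_cancel_right]; group
        _ = _ := by rw [c2.eq, mul_inv_cancel_right]
    have hm : (⟨e, he⟩ * ⟨d, hd⟩ * (⟨e, he⟩ : ↥E₀)⁻¹ * (⟨d, hd⟩ : ↥E₀)⁻¹ : ↥E₀) ∈ Subgroup.center ↥E₀ := by
      rw [← hE.1.2.2, ← commutatorElement_def, _root_.commutator_def]
      exact Subgroup.commutator_mem_commutator trivial trivial
    rw [eq1]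
    exact (hwel _ hm).imp (congrArg Subtype.val) (congrArg Subtype.val)
  obtain ⟨p0, hp0, q0, hq0, hpq0⟩ : ∃ p ∈ E₀, ∃ q ∈ E₀, p * q * p⁻¹ * q⁻¹ = (w : H) := by
    by_contra h
    push Not at h
    have hcen : Subgroup.center ↥E₀ = ⊤ := (Subgroup.eq_top_iff' _).2 fun x => Subgroup.mem_center_iff.2 fun y =>
      Subtype.ext (mul_inv_eq_iff_eq_mul.1 (mul_inv_eq_one.1
        ((hwc y (hE1 y.2) x (hE1 x.2)).resolve_right (h y y.2 x x.2))))
    have h2 := hE.2
    rw [hcen, Subgroup.card_top, hEc] at h2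
    omega
  have hwH : ∀ h : H, h * (w : H) * h⁻¹ = w := fun h => by
    have e1 : h * (w : H) * h⁻¹ = (h * p0 * h⁻¹) * (h * q0 * h⁻¹) * (h * p0 * h⁻¹)⁻¹ * (h * q0 * h⁻¹)⁻¹ := by
      rw [← hpq0]; group
    rcases hwc _ ((inferInstance : J₀.Normal).conj_mem p0 (hE1 hp0) h) _
      ((inferInstance : J₀.Normal).conj_mem q0 (hE1 hq0) h) with r | r
    · exact absurd (conj_eq_one_iff.1 (e1.trans r)) fun e => hw1 (Subtype.ext e)
    · exact e1.trans r
  have hwz : (w : H) = zc :=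
    (hfpf _ (hE1 w.2) (conj_eq_iff.1 (hwH c))).resolve_left fun e => hw1 (Subtype.ext e)
  have hzE : zc ∈ E₀ := hwz ▸ w.2
  have hcenE : ∀ x ∈ E₀, (∀ y ∈ E₀, Commute x y) → x = 1 ∨ x = zc := fun x hx hxy =>
    (hwel ⟨x, hx⟩ (Subgroup.mem_center_iff.2 fun y => Subtype.ext (hxy y y.2).eq.symm)).imp (congrArg Subtype.val)
      fun r => (congrArg Subtype.val r).trans hwz
  obtain ⟨a, b, haJ, hbJ, ha2, hb2, ha1, hba, hac, hbc, hcab, hcb, hdisj, hsplit, hout⟩ :=
    four_group ⟨hV1, hE1, hcomm, hmeet, hsup⟩ hV hVsq hzE hcz hz2 hz1 hcenE hc3 hfpf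
  -- the map to the automorphisms
  let f : H →* MulAut P := e.toMonoidHom.comp (QuotientGroup.mk' (J₀ ⊔ zpowers c))
  have hf : Function.Surjective f := e.surjective.comp (QuotientGroup.mk'_surjective _)
  have hker : ∀ h, f h = 1 ↔ h ∈ J₀ ∨ h * c ∈ J₀ ∨ h * (c * c) ∈ J₀ := fun h => by
    show e (QuotientGroup.mk h) = 1 ↔ _
    rw [MulEquiv.map_eq_one_iff, QuotientGroup.eq_one_iff]
    constructor
    · intro hh
      have hh' : h ∈ ((J₀ ⊔ zpowers c : Subgroup H) : Set H) := hh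
      rw [Subgroup.normal_mul] at hh'
      obtain ⟨p, hp, q, hq, rfl⟩ := hh'
      obtain ⟨n, rfl⟩ := hq
      rcases (hpow : c ^ n = 1 ∨ _) with r | r | r
      · exact Or.inl (by show p * c ^ n ∈ J₀; rwa [r, mul_one])
      · refine Or.inr (Or.inr ?_)
        show p * c ^ n * (c * c) ∈ J₀
        rwa [r, mul_assoc, ← mul_assoc c c c, hc3, mul_one]
      · refine Or.inr (Or.inl ?_)
        show p * c ^ n * c ∈ J₀
        rwa [r, mul_assoc, hc3, mul_one]
    · have hcm : c ∈ J₀ ⊔ zpowers c := mem_sup_right (mem_zpowers c)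
      rintro (r | r | r)
      · exact mem_sup_left r
      · have := mul_mem (mem_sup_left r : h * c ∈ J₀ ⊔ zpowers c) (inv_mem hcm)
        rwa [mul_inv_cancel_right] at this
      · have := mul_mem (mem_sup_left r : h * (c * c) ∈ J₀ ⊔ zpowers c) (inv_mem (mul_mem hcm hcm))
        rwa [mul_inv_cancel_right] at this
  have hJcard : Nat.card ↥J₀ = 2 ^ 11 := by
    let g : ↥V₀ × ↥E₀ → ↥J₀ := fun p => ⟨p.1 * p.2, mul_mem (hV1 p.1.2) (hE1 p.2.2)⟩
    have hg : Function.Bijective g := by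
      refine ⟨?_, fun q => ?_⟩
      · rintro ⟨x, p⟩ ⟨y, q⟩ h
        have h' : (x : H) * p = y * q := congrArg Subtype.val h
        have hm : (y : H)⁻¹ * x = q * (p : H)⁻¹ := by
          rw [inv_mul_eq_iff_eq_mul, ← mul_assoc, ← h', mul_inv_cancel_right]
        have hxy : (y : H) = x := inv_mul_eq_one.1 (Subgroup.mem_bot.1 (hmeet ▸
          Subgroup.mem_inf.2 ⟨mul_mem (inv_mem y.2) x.2, hm ▸ mul_mem q.2 (inv_mem p.2)⟩))
        exact Prod.ext (Subtype.ext hxy.symm) (Subtype.ext (mul_left_cancel (hxy ▸ h' : (x : H) * p = x * q)))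
      · obtain ⟨x, hx, hxq⟩ := hsplit q q.2
        have hq' : (q : H) ∈ ((V₀ ⊔ E₀ : Subgroup H) : Set H) := hsup.symm ▸ q.2
        rw [Subgroup.coe_mul_of_left_le_normalizer_right V₀ E₀ (fun v hv =>
          Cfsg.Lib.ZStarApps.mem_normalizer_of_maps fun e he => by
            rw [hcomm v hv e he, mul_inv_cancel_right]; exact he)] at hq'
        obtain ⟨v, hv, e, he, heq⟩ := hq'
        exact ⟨(⟨v, hv⟩, ⟨e, he⟩), Subtype.ext heq⟩
    have h := Nat.card_congr (Equiv.ofBijective g hg)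
    rw [Nat.card_prod, hV, hEc] at h
    omega
  have hCc6 : Nat.card ↥(centralizer ({c} : Set H)) ≤ 6 * 25920 := by
    rw [Subgroup.card_eq_card_quotient_mul_card_subgroup ((zpowers c ⊔ zpowers zc).subgroupOf (centralizer ({c} : Set H))),
      Nat.card_congr e'.toEquiv, hP, mul_comm 6 25920]
    refine Nat.mul_le_mul_left _ (le_trans (Nat.card_le_card_of_injective
      (fun x : ↥((zpowers c ⊔ zpowers zc).subgroupOf (centralizer ({c} : Set H))) => (⟨x.1.1, x.2⟩ : ↥(zpowers c ⊔ zpowers zc)))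
      fun x y e => Subtype.ext (Subtype.ext (congrArg Subtype.val e : _))) ?_)
    let j : ↥(zpowers c) × ↥(zpowers zc) → ↥(zpowers c ⊔ zpowers zc) := fun p =>
      ⟨p.1 * p.2, mul_mem (mem_sup_left p.1.2) (mem_sup_right p.2.2)⟩
    have hj : Function.Surjective j := fun x => by
      have hx' : (x : H) ∈ ((zpowers c ⊔ zpowers zc : Subgroup H) : Set H) := x.2
      rw [Subgroup.mul_normal] at hx'
      obtain ⟨p, hp, q, hq, hpq⟩ := hx'
      exact ⟨(⟨p, hp⟩, ⟨q, hq⟩), Subtype.ext hpq⟩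
    have := Nat.card_le_card_of_surjective j hj
    rwa [Nat.card_prod, Nat.card_zpowers, Nat.card_zpowers, hc,
      show orderOf zc = 2 from orderOf_eq_prime (by rw [pow_two, hz2]) hz1] at this
  obtain ⟨o, hoa, hob⟩ := hout (exists_inverting f hf hker hc3 hzJ hcz hz2 hz1 hJcard hCc6 hAut)
  exact ⟨a, b, haJ, hbJ, ha2, hb2, ha1, hba, hac, hbc, hcab, hcb, hdisj, hsplit, hzE, hc3, hfpf, ⟨f, hf, hker⟩,
    o, hoa, hob⟩

end

variable {G : Type u} [Group G] [Finite G]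

set_option maxHeartbeats 1000000 in
/-- The setting. -/
theorem exists_setting (z : G) (hz : orderOf z = 2) {F : Type v} [Field F] [Fintype F] (hF : Fintype.card F = 3)
    (V₀ E₀ : Subgroup ↥(centralizer ({z} : Set G)))
    (hVE : Cfsg.IsInternalDirectProduct V₀ E₀ (Cfsg.pCore 2 ↥(centralizer ({z} : Set G))))
    (hV : Nat.card ↥V₀ = 4) (hV2 : ∀ v ∈ V₀, v ^ 2 = 1)
    (hE : Cfsg.IsExtraspecial 2 ↥E₀) (hEc : Nat.card ↥E₀ = 2 ^ 9)
    (hCJ : centralizer ((Cfsg.pCore 2 ↥(centralizer ({z} : Set G))) : Set ↥(centralizer ({z} : Set G))) ≤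
      Cfsg.pCore 2 ↥(centralizer ({z} : Set G)))
    (zc c : ↥(centralizer ({z} : Set G))) (hzc : (zc : G) = z) (hc : orderOf c = 3)
    [(Cfsg.pCore 2 ↥(centralizer ({z} : Set G)) ⊔ zpowers c).Normal]
    (e : (↥(centralizer ({z} : Set G)) ⧸ (Cfsg.pCore 2 ↥(centralizer ({z} : Set G)) ⊔ zpowers c)) ≃*
      MulAut (Cfsg.PSp 2 F))
    [((zpowers c ⊔ zpowers zc).subgroupOf (centralizer ({c} : Set ↥(centralizer ({z} : Set G))))).Normal]
    (e' : (↥(centralizer ({c} : Set ↥(centralizer ({z} : Set G)))) ⧸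
      (zpowers c ⊔ zpowers zc).subgroupOf (centralizer ({c} : Set ↥(centralizer ({z} : Set G))))) ≃* Cfsg.PSp 2 F) :
    ∃ (a b c' : G) (J E : Subgroup G), Nonempty (Setting z a b c' J E (Cfsg.PSp 2 F)) := by
  classical
  obtain ⟨eU⟩ := Ext.equiv_psp hF
  have hAut : Nat.card (MulAut (Cfsg.PSp 2 F)) = 2 * 25920 := by
    haveI : Fact (Nat.Prime 3) := ⟨Nat.prime_three⟩
    rw [Cfsg.Agent.S0814.result 3 1 le_rfl (by rw [hF, pow_one]) 2 le_rfl (fun _ => le_rfl),
      ← Nat.card_congr eU.toEquiv, card_U]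
    norm_num
  have hcz : ∀ h : ↥(centralizer ({z} : Set G)), Commute h zc := fun h => Subtype.ext (by
    show (h : G) * zc = zc * h
    rw [hzc]
    exact mem_centralizer_singleton_iff.1 h.2)
  have hz2 : zc * zc = 1 := Subtype.ext (by
    show (zc : G) * zc = 1
    rw [hzc, ← pow_two, ← hz, pow_orderOf_eq_one])
  have hz1 : zc ≠ 1 := fun e => by
    have : z = 1 := by rw [← hzc, e]; rfl
    rw [this, orderOf_one] at hz; omega
  obtain ⟨a, b, haJ, hbJ, ha2, hb2, ha1, hba, hac, hbc, hcab, hcb, hdisj, hsplit, hzE, hc3, hfpf, ⟨f, hf, hker⟩,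
    o, hoa, hob⟩ := core_data eU hAut (Cfsg.pCore 2 ↥(centralizer ({z} : Set G))) rfl V₀ E₀ hVE hV hV2 hE hEc zc c
      hcz hz2 hz1 hc e e'
  set J := (Cfsg.pCore 2 ↥(centralizer ({z} : Set G))).map (centralizer ({z} : Set G)).subtype
  set E := E₀.map (centralizer ({z} : Set G)).subtype
  have hmem : ∀ (X : Subgroup ↥(centralizer ({z} : Set G))) (q : ↥(centralizer ({z} : Set G))),
      (q : G) ∈ X.map (centralizer ({z} : Set G)).subtype ↔ q ∈ X := fun X q =>
    ⟨fun ⟨p, hp, e⟩ => (Subtype.ext e : p = q) ▸ hp, fun h => ⟨q, h, rfl⟩⟩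
  refine ⟨a, b, c, J, E, ⟨
    { order := hz
      sqa := congrArg Subtype.val ha2
      sqb := congrArg Subtype.val hb2
      le := Subgroup.map_subtype_le _
      norm := fun h hh => Cfsg.Lib.ZStarApps.mem_normalizer_of_maps fun q hq => by
        obtain ⟨p, hp, rfl⟩ := hq
        exact ⟨⟨h, hh⟩ * p * ⟨h, hh⟩⁻¹, Subgroup.Normal.conj_mem inferInstance p hp ⟨h, hh⟩, rfl⟩
      leE := Subgroup.map_mono hVE.2.1
      memA := ⟨a, haJ, rfl⟩
      memB := ⟨b, hbJ, rfl⟩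
      comA := fun q hq => by
        obtain ⟨p, hp, rfl⟩ := hq
        exact congrArg Subtype.val (hac p hp).eq
      comB := fun q hq => by
        obtain ⟨p, hp, rfl⟩ := hq
        exact congrArg Subtype.val (hbc p hp).eq
      a_ne := fun e => ha1 (Subtype.ext e)
      ab_ne := fun e => hba (Subtype.ext e)
      disj := fun x hx hxE => by
        obtain ⟨p, hp, rfl⟩ := hxE
        refine congrArg Subtype.val (hdisj p ?_ hp : p = 1)
        exact hx.imp (fun r => Subtype.ext r) (Or.imp (fun r => Subtype.ext r)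
          (Or.imp (fun r => Subtype.ext r) fun r => Subtype.ext r))
      split := fun q hq => by
        obtain ⟨p, hp, rfl⟩ := hq
        obtain ⟨x, hx, hxe⟩ := hsplit p hp
        refine ⟨x, hx.imp (fun r => by rw [r]; rfl) (Or.imp (fun r => by rw [r]) (Or.imp (fun r => by rw [r])
          fun r => by rw [r]; rfl)), ⟨x * p, hxe, rfl⟩⟩
      extra := Ext.extraspecial_congr (E₀.equivMapOfInjective _ (centralizer ({z} : Set G)).subtype_injective) hE
      cardE := by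
        rw [← Nat.card_congr (E₀.equivMapOfInjective _ (centralizer ({z} : Set G)).subtype_injective).toEquiv]
        exact hEc
      memE := hzc ▸ (hmem E₀ zc).2 hzE
      self := fun g hg hq => ⟨⟨g, hg⟩, hCJ (Subgroup.mem_centralizer_iff.2 fun p hp =>
        Subtype.ext (hq _ ⟨p, hp, rfl⟩).symm), rfl⟩
      cz := mem_centralizer_singleton_iff.1 c.2
      c3 := congrArg Subtype.val hc3
      ca := congrArg Subtype.val hcab
      cb := congrArg Subtype.val hcb
      fpf := fun q hq hcq => by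
        obtain ⟨p, hp, rfl⟩ := hq
        exact (hfpf p hp (Subtype.ext hcq.eq)).imp (fun r => congrArg Subtype.val r)
          fun r => (congrArg Subtype.val r).trans hzc
      iso := ⟨eU⟩
      autCard := hAut
      f := f
      surj := hf
      ker := fun h => by
        rw [hker h]
        exact or_congr (hmem (Cfsg.pCore 2 ↥(centralizer ({z} : Set G))) h).symm (or_congr (hmem (Cfsg.pCore 2 ↥(centralizer ({z} : Set G))) (h * c)).symm (hmem (Cfsg.pCore 2 ↥(centralizer ({z} : Set G))) (h * (c * c))).symm)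
      out := ⟨o, mem_centralizer_singleton_iff.1 o.2, congrArg Subtype.val hoa, congrArg Subtype.val hob⟩ }⟩⟩

end Cfsg.Lib.FiThree
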