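import Cfsg.Agent.FiThreeCentral.Fusion

/-!
# The involution isolated under the centralisers of all central involutions
-/

set_option autoImplicit false
set_option Elab.async false
set_option maxRecDepth 100000
set_option linter.style.haveILetI false
set_option linter.unusedSectionVars false

namespace Cfsg.Lib.FiThree

open Subgroup Cfsg.Lib.USixType
open Cfsg.Lib.FiTwo (Iso)

universe u v

variable {G : Type u} [Group G] [Finite G] {P : Type v} [Group P] {z a b c : G} {J E : Subgroup G}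

namespace Setting

variable (S : Setting z a b c J E P)
include S

/-- A four-group of four elements. -/
theorem four {W : Subgroup G} (hW : Nat.card ↥W = 4) {x x' y : G} (hx : x ∈ W) (hx' : x' ∈ W) (hy : y ∈ W)
    (h1 : x ≠ 1) (h2 : x' ≠ 1) (hne : x ≠ x') (hsq : x * x = 1) : y = 1 ∨ y = x ∨ y = x' ∨ y = x * x' := by
  classical
  letI : Fintype ↥W := Fintype.ofFinite _
  have e1 : x * x' ≠ 1 := fun e => hne (by
    rw [show x' = x⁻¹ from eq_inv_of_mul_eq_one_right e, inv_eq_of_mul_eq_one_left hsq])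
  let T : Finset ↥W := {1, ⟨x, hx⟩, ⟨x', hx'⟩, ⟨x * x', mul_mem hx hx'⟩}
  have hT : T.card = 4 := by
    simp only [T]
    rw [Finset.card_insert_of_notMem, Finset.card_insert_of_notMem, Finset.card_insert_of_notMem,
      Finset.card_singleton]
    · simp only [Finset.mem_singleton, Subtype.mk.injEq]
      exact fun e => h1 (right_eq_mul.1 e)
    · simp only [Finset.mem_insert, Finset.mem_singleton, Subtype.mk.injEq, not_or]
      exact ⟨hne, fun e => h2 (left_eq_mul.1 e)⟩
    · simp only [Finset.mem_insert, Finset.mem_singleton, not_or]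
      exact ⟨fun e => h1 (congrArg Subtype.val e).symm, fun e => h2 (congrArg Subtype.val e).symm,
        fun e => e1 (congrArg Subtype.val e).symm⟩
  have hm := (Finset.eq_univ_of_card T (by rw [hT, ← Nat.card_eq_fintype_card, hW])).symm ▸
    Finset.mem_univ (⟨y, hy⟩ : ↥W)
  simpa [T, Subtype.ext_iff] using hm

/-- Isolation passes to the conjugates under the centraliser of `z`. -/
theorem iso_conj {k w : G} (hk : Commute k z) (h : Iso z (k * w * k⁻¹)) : Iso z w := by
  have := h.conj k⁻¹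
  rwa [show k⁻¹ * z * k⁻¹⁻¹ = z from conj_eq_iff.2 hk.inv_left,
    show k⁻¹ * (k * w * k⁻¹) * k⁻¹⁻¹ = w by group] at this

theorem iso_ZJ (ha : Iso z a) (haz : Iso z (a * z)) {w : G} (hw : w ∈ S.ZJ) (h1 : w ≠ 1) (hz : w ≠ z) : Iso z w := by
  obtain ⟨k, hk, e | e⟩ := S.to_a_az hw h1 hz
  · exact S.iso_conj hk (e ▸ ha)
  · exact S.iso_conj hk (e ▸ haz)

/-- A commuting conjugate moves a conjugate of the four-group to itself. -/
theorem moves {g r : G} (hr : Commute r (g * z * g⁻¹)) {x : G} (hx : x ∈ S.V) :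
    ∃ x' ∈ S.V, r * (g * x * g⁻¹) * r⁻¹ = g * x' * g⁻¹ := by
  have h : Commute (g⁻¹ * r * g) z := by
    have := hr.map (MulAut.conj g⁻¹).toMonoidHom
    simpa [mul_assoc] using this
  exact ⟨_, S.conj_V h hx, by group⟩

/-- With all central involutions isolating, no commuting conjugate is left. -/
theorem isolated (ha : Iso z a) (haz : Iso z (a * z)) :
    ∀ g : G, Commute (g * z * g⁻¹) z → g * z * g⁻¹ = z := by
  classical
  suffices key : ∀ g : G, Commute (g * z * g⁻¹) z → Commute (g * z * g⁻¹) a → g * z * g⁻¹ = z by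
    intro g hc
    obtain ⟨k, hk, hka⟩ : ∃ k, Commute k z ∧ Commute (k * g * z * (k * g)⁻¹) a := by
      set y := g * z * g⁻¹ with hy
      have hy2 : y * y = 1 := conj_sq' S.z_sq g
      obtain ⟨v, hv, hv1, hyv⟩ : ∃ v ∈ S.V, v ≠ 1 ∧ Commute y v := by
        have h2 : y * (y * a * y⁻¹) * y⁻¹ = a := by
          rw [inv_eq_of_mul_eq_one_left hy2]
          simp only [← mul_assoc, hy2, one_mul]
          rw [mul_assoc, hy2, mul_one]
        rcases S.mem_V.1 (S.conj_V hc S.memAV) with e | e | e | e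
        · exact absurd (conj_eq_one_iff.1 e) S.a_ne
        · exact ⟨a, S.memAV, S.a_ne, conj_eq_iff.1 e⟩
        · rw [e] at h2
          exact ⟨a * b, S.V.mul_mem S.memAV S.memBV, S.abp_ne, conj_eq_iff.1 (by
            rw [conj_mul_eq, e, h2, S.comAB.eq])⟩
        · rw [e, conj_mul_eq, e] at h2
          refine ⟨b, S.memBV, S.b_ne, conj_eq_iff.1 ?_⟩
          calc y * b * y⁻¹ = a * b * (a * b * (y * b * y⁻¹)) := by
                rw [← mul_assoc, S.V_sq (S.V.mul_mem S.memAV S.memBV), one_mul]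
            _ = b := by rw [h2, mul_assoc, ← S.comAB.eq, ← mul_assoc, S.sqa, one_mul]
      obtain ⟨k, hk, hka⟩ := S.to_a hv hv1
      refine ⟨k, hk, ?_⟩
      have := hyv.map (MulAut.conj k).toMonoidHom
      simp only [MulEquiv.coe_toMonoidHom, MulAut.conj_apply, hka] at this
      rwa [show k * g * z * (k * g)⁻¹ = k * y * k⁻¹ by rw [hy]; group]
    have hkc : Commute (k * g * z * (k * g)⁻¹) z := by
      have := hc.map (MulAut.conj k).toMonoidHom
      simp only [MulEquiv.coe_toMonoidHom, MulAut.conj_apply, conj_eq_iff.2 hk] at this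
      rwa [show k * g * z * (k * g)⁻¹ = k * (g * z * g⁻¹) * k⁻¹ by group]
    have := key (k * g) hkc hka
    calc g * z * g⁻¹ = k⁻¹ * (k * g * z * (k * g)⁻¹) * k⁻¹⁻¹ := by group
      _ = z := by rw [this, conj_eq_iff.2 hk.inv_left]
  intro g hc hca
  by_contra hne
  set y := g * z * g⁻¹ with hy
  have hord : orderOf y = 2 := by
    rw [← S.order]; exact orderOf_injective (MulAut.conj g).toMonoidHom (MulAut.conj g).injective z
  have hiy : ∀ v ∈ S.V, v ≠ 1 → Iso y (g * v * g⁻¹) := fun v hv h1 =>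
    (S.iso_ZJ ha haz (S.V_le_ZJ hv) h1 (fun e => S.z_notV (e ▸ hv))).conj g
  have hyW : ∀ v ∈ S.V, Commute y (g * v * g⁻¹) := fun v hv =>
    ((S.commJ (S.V_le hv)).symm).map (MulAut.conj g).toMonoidHom
  set W := S.V.map (MulAut.conj g).toMonoidHom with hW
  have hWm : ∀ {x}, x ∈ W → ∃ v ∈ S.V, x = g * v * g⁻¹ := fun {x} hx => by
    obtain ⟨v, hv, rfl⟩ := hx; exact ⟨v, hv, rfl⟩
  have hmW : ∀ {v}, v ∈ S.V → g * v * g⁻¹ ∈ W := fun {v} hv => ⟨v, hv, rfl⟩
  have hW4 : Nat.card ↥W = 4 := by rw [hW, Subgroup.card_map_of_injective (MulAut.conj g).injective, S.cardV]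
  have hWc : ∀ {x x'}, x ∈ W → x' ∈ W → x * x' = x' * x := fun hx hx' => by
    obtain ⟨v, hv, rfl⟩ := hWm hx
    obtain ⟨v', hv', rfl⟩ := hWm hx'
    rw [← conj_mul_eq, ← conj_mul_eq, (S.comV hv (S.V_le hv')).eq]
  have hWsq : ∀ {x}, x ∈ W → x * x = 1 := fun hx => by
    obtain ⟨v, hv, rfl⟩ := hWm hx
    exact conj_sq' (S.V_sq hv) g
  have movW : ∀ {r x}, Commute r y → x ∈ W → r * x * r⁻¹ ∈ W := fun {r x} hr hx => by
    obtain ⟨v, hv, rfl⟩ := hWm hx
    obtain ⟨v', hv', e⟩ := S.moves hr hv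
    rw [e]; exact hmW hv'
  have hzW : ∀ {x}, x ∈ W → Commute z x := by
    intro x hx
    by_contra hn
    set x' := z * x * z⁻¹ with hx'def
    have hx'W : x' ∈ W := movW hc.symm hx
    have hxx' : x ≠ x' := fun e => hn (conj_eq_iff.1 e.symm)
    have h1 : x ≠ 1 := fun e => hn (e ▸ Commute.one_right z)
    have h1' : x' ≠ 1 := fun e => h1 (conj_eq_one_iff.1 e)
    have hzx' : z * x' * z⁻¹ = x := by
      rw [hx'def, S.z_inv]
      simp only [← mul_assoc, S.z_sq, one_mul]
      rw [mul_assoc, S.z_sq, mul_one]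
    have hu : x * x' ≠ 1 := fun e => hxx' (by
      rw [show x' = x⁻¹ from eq_inv_of_mul_eq_one_right e, inv_eq_of_mul_eq_one_left (hWsq hx)])
    have huz : z * (x * x') * z⁻¹ = x * x' := by
      rw [conj_mul_eq, ← hx'def, hzx', hWc hx'W hx]
    have e2 : x * z * x⁻¹ = x * x' * z := by
      rw [hx'def, inv_eq_of_mul_eq_one_left (hWsq hx)]
      simp only [mul_assoc, inv_mul_cancel_left, S.z_inv, S.z_sq, mul_one]
    have kill : ∀ {w}, Commute x w → Iso z w → False := fun {w} hw hi => by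
      have := hi x hw (by rw [e2]; exact (conj_eq_iff.1 huz).symm.mul_left (Commute.refl z))
      rw [e2] at this
      exact hu (mul_eq_right.1 this)
    have hb := movW hca.symm hx
    rcases S.four hW4 hx hx'W hb h1 h1' hxx' (hWsq hx) with e | e | e | e
    · exact h1 (conj_eq_one_iff.1 e)
    · exact kill (conj_eq_iff.1 e).symm ha
    · refine kill (conj_eq_iff.1 ?_).symm haz
      rw [show a * z = z * a from (S.comA z S.memJ).eq,
        show z * a * x * (z * a)⁻¹ = z * (a * x * a⁻¹) * z⁻¹ by group, e, hzx']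
    · have h3 : a * x' * a⁻¹ = x * x' := by
        calc a * x' * a⁻¹ = (a * z) * x * (a * z)⁻¹ := by rw [hx'def]; group
          _ = (z * a) * x * (z * a)⁻¹ := by rw [(S.comA z S.memJ).eq]
          _ = z * (a * x * a⁻¹) * z⁻¹ := by group
          _ = x * x' := by rw [e, huz]
      exact hxx' (mul_left_cancel (mul_right_cancel (e.trans h3.symm)))
  have hnZ : ∀ {x}, x ∈ W → x ≠ 1 → x ∉ S.ZJ := by
    intro x hx h1 hxZ
    obtain ⟨v, hv, rfl⟩ := hWm hx
    have hv1 : v ≠ 1 := fun e => h1 (by rw [e, mul_one, mul_inv_cancel])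
    refine hne (S.eq_z_of_ZJ (S.cent hc fun q hq => ?_))
    exact S.central_part hc hord (S.commJ (S.ZJ_le hxZ)) (hWsq hx) (hyW v hv) (hiy v hv hv1) (S.commJ hq)
      (S.ZJ_comm hxZ hq)
  have haW : ∀ {x}, x ∈ W → Commute x a := by
    intro x hx
    by_contra hn
    have hxz : Commute x z := (hzW hx).symm
    have hx'W : a * x * a⁻¹ ∈ W := movW hca.symm hx
    have hu : x * (a * x * a⁻¹) ∈ W := mul_mem hx hx'W
    have hu1 : x * (a * x * a⁻¹) ≠ 1 := fun e => hn (conj_eq_iff.1 (by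
      rw [show a * x * a⁻¹ = x⁻¹ from eq_inv_of_mul_eq_one_right e, inv_eq_of_mul_eq_one_left (hWsq hx)])).symm
    refine hnZ hu hu1 (S.V_le_ZJ ?_)
    rw [show x * (a * x * a⁻¹) = x * a * x⁻¹ * a⁻¹ by
      rw [inv_eq_of_mul_eq_one_left (hWsq hx)]; group]
    exact S.V.mul_mem (S.conj_V hxz S.memAV) (S.V.inv_mem S.memAV)
  refine S.no_conj g (fun v hv => S.mem_Ka.2 ⟨(hzW (hmW hv)).symm, haW (hmW hv)⟩) (fun v hv h1 => hnZ (hmW hv)
    fun e => h1 (conj_eq_one_iff.1 e)) fun r hr v hv h1 hrv v' hv' => ?_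
  exact S.moves (S.central_part hc hord (hzW (hmW hv)).symm (hWsq (hmW hv)) (hyW v hv) (hiy v hv h1)
    (S.mem_Ka.1 hr).1 hrv).symm hv'

end Setting

end Cfsg.Lib.FiThree
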