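import Cfsg.Agent.FiThreeCentral.CaseA
import Cfsg.Agent.InvolCalc.Classes

/-!
# Centralisers of the four-group's involutions inside its normaliser make it normal
-/

set_option autoImplicit false
set_option Elab.async false
set_option maxRecDepth 100000
set_option linter.style.haveILetI false
set_option linter.unusedSectionVars false

namespace Cfsg.Lib.FiThree

open Subgroup Cfsg.Lib.USixType

universe u v

variable {G : Type u} [Group G] [Finite G]

theorem exists_fixed_point {A : Subgroup G} (hA : IsPGroup 2 ↥A) {Ω : Type*} [MulAction G Ω] [Finite Ω]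
    (hodd : Odd (Nat.card Ω)) : ∃ q : Ω, ∀ a ∈ A, a • q = q := by
  haveI : Fact (Nat.Prime 2) := ⟨Nat.prime_two⟩
  have hmod := hA.card_modEq_card_fixedPoints Ω
  by_contra h
  have he : IsEmpty ↥(MulAction.fixedPoints ↥A Ω) := ⟨fun ⟨q, hq⟩ => h ⟨q, fun a ha => hq ⟨a, ha⟩⟩⟩
  rw [Nat.card_of_isEmpty (α := ↥(MulAction.fixedPoints ↥A Ω))] at hmod
  rw [Nat.ModEq, Nat.zero_mod] at hmod
  exact (Nat.not_even_iff_odd.2 hodd) (Nat.even_iff.2 hmod)

theorem normalises_sup {A : Subgroup G} {x w : G} (hxA : x ∈ normalizer (A : Set G))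
    (hw : x * w * x⁻¹ ∈ A ⊔ zpowers w) : x ∈ normalizer ((A ⊔ zpowers w : Subgroup G) : Set G) :=
  Cfsg.Lib.ZStarApps.mem_normalizer_of_maps fun d hd => by
    have hle : A ⊔ zpowers w ≤ (A ⊔ zpowers w).comap (MulAut.conj x).toMonoidHom :=
      sup_le (fun y hy => mem_sup_left ((mem_normalizer_iff.1 hxA y).1 hy)) (zpowers_le.2 hw)
    exact hle hd

/-- Two classes of involutions, each element fixing one coset, such that a product within one coset's conjugates fixes
one coset: then there is one coset. -/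
theorem eq_top_of_two_classes (N : Subgroup G) {x y : G} (hx : x * x = 1) (hy : y * y = 1)
    (hxN : x ∈ N) (hyN : y ∈ N) (hxu : ∀ g, g * x * g⁻¹ ∈ N → g ∈ N) (hyu : ∀ g, g * y * g⁻¹ ∈ N → g ∈ N)
    (hxy : ∀ k ∈ N, ∀ g, g * (y * (k * x * k⁻¹)) * g⁻¹ ∈ N → g ∈ N) : ∀ g : G, g ∈ N := by
  classical
  haveI : Fact (Nat.Prime 2) := ⟨Nat.prime_two⟩
  let base : G ⧸ N := ((1 : G) : G ⧸ N)
  have hfix : ∀ (t g : G), t • ((g : G) : G ⧸ N) = ((g : G) : G ⧸ N) ↔ g⁻¹ * t⁻¹ * g ∈ N := fun t g => by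
    rw [MulAction.Quotient.smul_coe, smul_eq_mul, QuotientGroup.eq, mul_inv_rev]
  have only : ∀ {t : G}, t * t = 1 → (∀ g, g * t * g⁻¹ ∈ N → g ∈ N) → t ∈ N → ∀ h : G, ∀ q : G ⧸ N,
      (h * t * h⁻¹) • q = q ↔ q = h • base := by
    intro t ht htu htN h q
    obtain ⟨g, rfl⟩ := QuotientGroup.mk_surjective q
    show (h * t * h⁻¹) • ((g : G) : G ⧸ N) = _ ↔ ((g : G) : G ⧸ N) = h • ((1 : G) : G ⧸ N)
    rw [hfix, MulAction.Quotient.smul_coe, smul_eq_mul, mul_one, QuotientGroup.eq,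
      show g⁻¹ * (h * t * h⁻¹)⁻¹ * g = (g⁻¹ * h) * t⁻¹ * (g⁻¹ * h)⁻¹ by group, inv_eq_of_mul_eq_one_left ht]
    exact ⟨fun e => htu _ e, fun e => N.mul_mem (N.mul_mem e htN) (N.inv_mem e)⟩
  have onlyx := only hx hxu hxN
  have onlyy := only hy hyu hyN
  have hodd : Odd (Nat.card (G ⧸ N)) := by
    have hP : IsPGroup 2 ↥(zpowers x) := by
      refine fun t => ⟨1, Subtype.ext ?_⟩
      rw [pow_one, SubmonoidClass.coe_pow, OneMemClass.coe_one, pow_two]
      rcases Ext.eq_one_or_of_zpowers hx t.2 with e | e <;> rw [e]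
      · exact one_mul 1
      · exact hx
    have hmod := hP.card_modEq_card_fixedPoints (G ⧸ N)
    have hone : Nat.card ↥(MulAction.fixedPoints ↥(zpowers x) (G ⧸ N)) = 1 := by
      rw [Nat.card_eq_one_iff_unique]
      refine ⟨⟨fun p q => Subtype.ext ?_⟩, ⟨⟨base, fun t => ?_⟩⟩⟩
      · have hp := (onlyx 1 p.1).1 (by rw [one_mul, inv_one, mul_one]; exact p.2 ⟨x, mem_zpowers x⟩)
        have hq := (onlyx 1 q.1).1 (by rw [one_mul, inv_one, mul_one]; exact q.2 ⟨x, mem_zpowers x⟩)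
        exact hp.trans hq.symm
      · show (t : G) • base = base
        rcases Ext.eq_one_or_of_zpowers hx t.2 with e | e <;> rw [e]
        · exact one_smul G base
        · have h1 := (onlyx 1 base).2 (one_smul G base).symm
          rwa [one_mul, inv_one, mul_one] at h1
    rw [hone] at hmod
    rw [Nat.odd_iff]
    exact hmod
  suffices key : ∀ (n : ℕ) (A : Subgroup G), Nat.card G ≤ Nat.card ↥A + n → IsPGroup 2 ↥A → ∀ g h : G,
      g * x * g⁻¹ ∈ normalizer (A : Set G) → h * y * h⁻¹ ∈ normalizer (A : Set G) → g • base = h • base by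
    intro g
    have h1 := key (Nat.card G) ⊥ (by omega) IsPGroup.of_bot 1 g
      (Cfsg.Lib.ZStarApps.mem_normalizer_of_maps fun d hd => by rw [mem_bot.1 hd]; simp)
      (Cfsg.Lib.ZStarApps.mem_normalizer_of_maps fun d hd => by rw [mem_bot.1 hd]; simp)
    rw [one_smul, show g • base = ((g * 1 : G) : G ⧸ N) from rfl, mul_one, QuotientGroup.eq] at h1
    simpa using h1
  intro n
  induction n with
  | zero =>
    intro A hA hA2 g h _ _
    have htop : A = ⊤ := Subgroup.eq_top_of_le_card A (by omega)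
    obtain ⟨q, hq⟩ := exists_fixed_point hA2 hodd
    rw [← (onlyx g q).1 (hq _ (htop ▸ Subgroup.mem_top _)), ← (onlyy h q).1 (hq _ (htop ▸ Subgroup.mem_top _))]
  | succ n ih =>
    intro A hA hA2 g h hgA hhA
    set X := g * x * g⁻¹ with hX
    set Y := h * y * h⁻¹ with hY
    have X2 : X * X = 1 := conj_sq' hx g
    have Y2 : Y * Y = 1 := conj_sq' hy h
    have Xi : X⁻¹ = X := inv_eq_of_mul_eq_one_left X2
    have Yi : Y⁻¹ = Y := inv_eq_of_mul_eq_one_left Y2
    set R := X * Y with hR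
    have hex : ∃ m, 0 < m ∧ R ^ m ∈ A := ⟨orderOf R, orderOf_pos R, by rw [pow_orderOf_eq_one]; exact one_mem A⟩
    obtain ⟨hmpos, hmA⟩ := Nat.find_spec hex
    set m := Nat.find hex
    have hX1 : X * R * X⁻¹ = R⁻¹ := by
      rw [Xi, hR, mul_inv_rev (a := X) (b := Y), Xi, Yi]
      simp only [← mul_assoc, X2, one_mul]
    have hY1 : Y * R * Y⁻¹ = R⁻¹ := by
      rw [Yi, hR, mul_inv_rev (a := X) (b := Y), Xi, Yi]
      simp only [mul_assoc, Y2, mul_one]
    have hXR : ∀ j : ℕ, X * R ^ j * X⁻¹ = (R ^ j)⁻¹ := fun j => by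
      rw [← conj_pow, hX1, inv_pow]
    have hYR : ∀ j : ℕ, Y * R ^ j * Y⁻¹ = (R ^ j)⁻¹ := fun j => by
      rw [← conj_pow, hY1, inv_pow]
    have hRA : R ∈ normalizer (A : Set G) := mul_mem hgA hhA
    rcases Nat.even_or_odd' m with ⟨j, hj | hj⟩
    · -- a larger group
      set w := R ^ j with hw
      have hwA : w ∉ A := fun e => Nat.find_min hex (show j < m by omega) ⟨by omega, e⟩
      have hw2 : w * w ∈ A := by rw [hw, ← pow_add, ← two_mul, ← hj]; exact hmA
      set A' := A ⊔ zpowers w with hA'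
      have hwN : w ∈ normalizer (A : Set G) := pow_mem hRA j
      have hA'2 : IsPGroup 2 ↥A' := by
        rw [hA', sup_comm]
        obtain ⟨k, hk⟩ := IsPGroup.iff_card.1 hA2
        have hpow : w ^ (2 * 2 ^ k) = 1 := by
          rw [pow_mul, pow_two, ← hk]
          exact congrArg Subtype.val (pow_card_eq_one' (x := (⟨w * w, hw2⟩ : ↥A)))
        obtain ⟨i, -, hi⟩ := (Nat.dvd_prime_pow Nat.prime_two).1
          (show orderOf w ∣ 2 ^ (k + 1) by rw [pow_succ']; exact orderOf_dvd_of_pow_eq_one hpow)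
        exact (IsPGroup.of_card (n := i) (by rw [Nat.card_zpowers, hi])).to_sup_of_normal_right' hA2
          (zpowers_le.2 hwN)
      have hlt : Nat.card ↥A < Nat.card ↥A' := by
        by_contra hh
        have e := Subgroup.eq_of_le_of_card_ge (le_sup_left : A ≤ A') (not_lt.1 hh)
        exact hwA (e.symm ▸ (mem_sup_right (mem_zpowers w) : w ∈ A'))
      refine ih A' (by omega) hA'2 g h (normalises_sup hgA ?_) (normalises_sup hhA ?_)
      · rw [hw, hXR]; exact mem_sup_right (inv_mem (mem_zpowers _))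
      · rw [hw, hYR]; exact mem_sup_right (inv_mem (mem_zpowers _))
    · -- a conjugate of the first at the second
      set A' := A ⊔ zpowers Y with hA'
      have hY2' : IsPGroup 2 ↥(zpowers Y) := by
        obtain ⟨i, -, hi⟩ := (Nat.dvd_prime_pow Nat.prime_two).1
          (show orderOf Y ∣ 2 ^ 1 by rw [pow_one]; exact orderOf_dvd_of_pow_eq_one (by rw [pow_two, Y2]))
        exact IsPGroup.of_card (n := i) (by rw [Nat.card_zpowers, hi])
      have hA'2 : IsPGroup 2 ↥A' := by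
        rw [hA', sup_comm]
        exact hY2'.to_sup_of_normal_right' hA2 (zpowers_le.2 hhA)
      obtain ⟨q, hq⟩ := exists_fixed_point hA'2 hodd
      have hqy : q = h • base := (onlyy h q).1 (hq _ (mem_sup_right (mem_zpowers Y)))
      set g' := R ^ j * g with hg'
      have e1 : g' * x * g'⁻¹ = Y * (R ^ m)⁻¹ := by
        have hYX : Y * X = R⁻¹ := by rw [hR, mul_inv_rev, Xi, Yi]
        have h1 : (R ^ j)⁻¹ = X * R ^ j * X⁻¹ := (hXR j).symm
        calc g' * x * g'⁻¹ = R ^ j * X * (R ^ j)⁻¹ := by rw [hg', hX]; group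
          _ = R ^ j * X * (X * R ^ j * X⁻¹) := by rw [h1]
          _ = R ^ (2 * j) * X := by rw [two_mul, pow_add, Xi]; simp only [mul_assoc]; simp only [← mul_assoc X X, X2, one_mul]
          _ = Y * X * R ^ m * X := by rw [hYX, hj, pow_succ' R (2 * j)]; group
          _ = Y * (X * R ^ m * X⁻¹) := by rw [Xi]; group
          _ = Y * (R ^ m)⁻¹ := by rw [hXR]
      have hmem : g' * x * g'⁻¹ ∈ A' := by
        rw [e1]
        exact mul_mem (mem_sup_right (mem_zpowers Y)) (mem_sup_left (inv_mem hmA))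
      have hqx : q = g' • base := (onlyx g' q).1 (hq _ hmem)
      -- the product fixes both
      have hA1 : IsPGroup 2 ↥(zpowers X ⊔ A) := by
        obtain ⟨i, -, hi⟩ := (Nat.dvd_prime_pow Nat.prime_two).1
          (show orderOf X ∣ 2 ^ 1 by rw [pow_one]; exact orderOf_dvd_of_pow_eq_one (by rw [pow_two, X2]))
        exact (IsPGroup.of_card (n := i) (by rw [Nat.card_zpowers, hi])).to_sup_of_normal_right' hA2
          (zpowers_le.2 hgA)
      obtain ⟨p, hp⟩ := exists_fixed_point hA1 hodd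
      have hpx : p = g • base := (onlyx g p).1 (hp _ (mem_sup_left (mem_zpowers X)))
      have hAp : (R ^ m)⁻¹ • p = p := hp _ (mem_sup_right (inv_mem hmA))
      have hk : h⁻¹ * g' ∈ N := by
        have e2 : ((h * 1 : G) : G ⧸ N) = ((g' * 1 : G) : G ⧸ N) := hqy.symm.trans hqx
        rwa [mul_one, mul_one, QuotientGroup.eq] at e2
      have e3 : (R ^ m)⁻¹ = h * (y * (h⁻¹ * g' * x * (h⁻¹ * g')⁻¹)) * h⁻¹ := by
        have e4 : (R ^ m)⁻¹ = Y * (g' * x * g'⁻¹) := by rw [e1, ← mul_assoc, Y2, one_mul]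
        rw [e4, hY]; group
      rw [e3, hpx, show g • base = ((g * 1 : G) : G ⧸ N) from rfl, mul_one, hfix] at hAp
      have hmemN : g⁻¹ * h * (y * (h⁻¹ * g' * x * (h⁻¹ * g')⁻¹)) * (g⁻¹ * h)⁻¹ ∈ N := by
        have := N.inv_mem hAp
        convert this using 1
        group
      have hfin := hxy _ hk _ hmemN
      show ((g * 1 : G) : G ⧸ N) = ((h * 1 : G) : G ⧸ N)
      rw [mul_one, mul_one, QuotientGroup.eq]
      exact hfin

variable {P : Type v} [Group P] {z a b c : G} {J E : Subgroup G}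

namespace Setting

variable (S : Setting z a b c J E P)
include S

theorem mem_N {h : G} (hh : ∀ x ∈ S.V, h * x * h⁻¹ ∈ S.V) : h ∈ normalizer (S.V : Set G) :=
  Cfsg.Lib.ZStarApps.mem_normalizer_of_maps hh

theorem conj_of_N {h x : G} (hh : h ∈ normalizer (S.V : Set G)) (hx : x ∈ S.V) : h * x * h⁻¹ ∈ S.V :=
  (mem_normalizer_iff.1 hh x).1 hx

theorem H_le_N {h : G} (hh : Commute h z) : h ∈ normalizer (S.V : Set G) :=
  S.mem_N fun _ hx => S.conj_V hh hx

theorem fixes_one {y : G} (hy : y * y = 1) (hyN : ∀ x ∈ S.V, y * x * y⁻¹ ∈ S.V) :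
    ∃ v ∈ S.V, v ≠ 1 ∧ Commute y v := by
  by_cases hya : Commute y a
  · exact ⟨a, S.memAV, S.a_ne, hya⟩
  have hm := hyN a S.memAV
  refine ⟨a * (y * a * y⁻¹), S.V.mul_mem S.memAV hm, fun e => hya (conj_eq_iff.1 ?_), conj_eq_iff.1 ?_⟩
  · rw [show y * a * y⁻¹ = a⁻¹ from eq_inv_of_mul_eq_one_right e, S.a_inv]
  · rw [conj_mul_eq, show y * (y * a * y⁻¹) * y⁻¹ = a by
      rw [inv_eq_of_mul_eq_one_left hy]
      simp only [← mul_assoc, hy, one_mul]
      rw [mul_assoc, hy, mul_one]]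
    exact ((S.comA _ (S.V_le hm)).eq).symm

variable (hNa : ∀ h, Commute h a → h ∈ normalizer (S.V : Set G))
include hNa

theorem N_v {v h : G} (hv : v ∈ S.V) (h1 : v ≠ 1) (hh : Commute h v) : h ∈ normalizer (S.V : Set G) := by
  obtain ⟨k, hk, hka⟩ := S.to_a hv h1
  have hkN := S.H_le_N hk
  have := hh.map (MulAut.conj k).toMonoidHom
  simp only [MulEquiv.coe_toMonoidHom, MulAut.conj_apply, hka] at this
  have h2 := mul_mem (mul_mem (inv_mem hkN) (hNa _ this)) hkN
  rwa [show k⁻¹ * (k * h * k⁻¹) * k = h by group] at h2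

/-- A common involution identifies the four-groups. -/
theorem common {g v : G} (hv : v ∈ S.V) (h1 : v ≠ 1) (h : g * v * g⁻¹ ∈ S.V) : g ∈ normalizer (S.V : Set G) := by
  obtain ⟨k, hk, hka⟩ := S.to_a hv h1
  obtain ⟨k', hk', hka'⟩ := S.to_a h (fun e => h1 (conj_eq_one_iff.1 e))
  have hc : Commute (k' * g * k⁻¹) a := conj_eq_iff.1 (by
    calc k' * g * k⁻¹ * a * (k' * g * k⁻¹)⁻¹ = k' * g * k⁻¹ * (k * v * k⁻¹) * (k' * g * k⁻¹)⁻¹ := by rw [hka]
      _ = k' * (g * v * g⁻¹) * k'⁻¹ := by group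
      _ = a := hka')
  have := mul_mem (mul_mem (inv_mem (S.H_le_N hk')) (hNa _ hc)) (S.H_le_N hk)
  rwa [show k'⁻¹ * (k' * g * k⁻¹) * k = g by group] at this

/-- No other conjugate of the four-group commutes with it. -/
theorem no_commuting {g : G} (h : ∀ x ∈ S.V, ∀ y ∈ S.V, Commute x (g * y * g⁻¹)) :
    g ∈ normalizer (S.V : Set G) := by
  by_contra hg
  obtain ⟨R, hR, -, -, hsyl⟩ := S.exists_R
  obtain ⟨k, hk, hkR⟩ := hsyl a (fun _ hk => (S.mem_Ka.1 hk).2) (fun _ h1 h2 => S.mem_Ka.2 ⟨h1, h2⟩)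
    (S.V.map (MulAut.conj g).toMonoidHom) ((IsPGroup.of_card (n := 2) (by rw [S.cardV]; norm_num)).map _)
    (by rintro _ ⟨y, hy, rfl⟩; exact (h a S.memAV y hy).symm)
  have hkN := hNa k hk
  have hg' : k * g ∉ normalizer (S.V : Set G) := fun e => hg (by
    have := mul_mem (inv_mem hkN) e
    rwa [inv_mul_cancel_left] at this)
  refine S.no_conj (k * g) (fun x hx => ?_) (fun x hx h1 hZ => hg' ?_) fun r hr x hx h1 hrx x' hx' => ?_
  · have := hR (hkR _ ⟨x, hx, rfl⟩)
    rw [MulEquiv.coe_toMonoidHom, MulAut.conj_apply] at this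
    rwa [show k * g * x * (k * g)⁻¹ = k * (g * x * g⁻¹) * k⁻¹ by group]
  · obtain ⟨l, hl, hla⟩ := S.to_a hx h1
    have hx2 : k * g * x * (k * g)⁻¹ = k * g * l⁻¹ * a * (k * g * l⁻¹)⁻¹ := by rw [← hla]; group
    exact S.common hNa hx h1 (hx2 ▸ S.a_ZJ (hx2 ▸ hZ))
  · have hc : Commute ((k * g)⁻¹ * r * (k * g)) x := by
      have := hrx.map (MulAut.conj (k * g)⁻¹).toMonoidHom
      simpa [mul_assoc] using this
    exact ⟨_, S.conj_of_N (S.N_v hNa hx h1 hc) hx', by group⟩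

/-- The four-group is weakly closed in the centraliser of `a`. -/
theorem weak {g : G} (h : ∀ y ∈ S.V, Commute (g * y * g⁻¹) a) : g ∈ normalizer (S.V : Set G) := by
  have toN : ∀ {g : G}, g ∈ normalizer (S.V : Set G) → S.V.map (MulAut.conj g).toMonoidHom = S.V := fun {g} hg =>
    Subgroup.eq_of_le_of_card_ge (by rintro _ ⟨x, hx, rfl⟩; exact S.conj_of_N hg hx)
      (by rw [Subgroup.card_map_of_injective (MulAut.conj g).injective])
  have hel : Cfsg.IsElementaryAbelian 2 S.V :=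
    ⟨⟨⟨fun x y => Subtype.ext (S.comV x.2 (S.V_le y.2)).eq⟩⟩, fun x hx => by rw [pow_two]; exact S.V_sq hx⟩
  have := Cfsg.Lib.InvolCalc.TI_weaklyClosed hel (fun g => ?_)
    (fun g hh => toN (S.no_commuting hNa fun x hx y hy => hh x hx _ ⟨y, hy, rfl⟩)) S.memAV S.a_ne (g := g)
    (by rintro _ ⟨y, hy, rfl⟩; exact mem_centralizer_singleton_iff.2 (h y hy).eq)
  · exact S.mem_N fun x hx => this.le ⟨x, hx, rfl⟩
  · by_cases hb : S.V.map (MulAut.conj g).toMonoidHom ⊓ S.V = ⊥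
    · exact Or.inl hb
    · refine Or.inr (toN ?_)
      obtain ⟨w, hw, hw1⟩ := Subgroup.bot_or_exists_ne_one _ |>.resolve_left hb
      obtain ⟨⟨y, hy, rfl⟩, hwV⟩ := Subgroup.mem_inf.1 hw
      exact S.common hNa hy (fun e => hw1 (by rw [e]; exact map_one _)) hwV

variable (hNaz : ∀ h, Commute h (a * z) → h ∈ normalizer (S.V : Set G))
include hNaz

/-- Conjugates of `a` commute only inside a four-group. -/
theorem a_class {g : G} (h : Commute (g * a * g⁻¹) a) : g ∈ normalizer (S.V : Set G) := by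
  have ha2 : a * a = 1 := S.sqa
  suffices key : ∀ g : G, Commute (g * a * g⁻¹) a → Commute (g * a * g⁻¹) z → g ∈ normalizer (S.V : Set G) by
    obtain ⟨R, hR, -, -, hsyl⟩ := S.exists_R
    have hQ : IsPGroup 2 ↥(zpowers (g * a * g⁻¹)) := by
      obtain ⟨i, -, hi⟩ := (Nat.dvd_prime_pow Nat.prime_two).1
        (show orderOf (g * a * g⁻¹) ∣ 2 ^ 1 by
          rw [pow_one]; exact orderOf_dvd_of_pow_eq_one (by rw [pow_two, conj_sq' ha2]))
      exact IsPGroup.of_card (n := i) (by rw [Nat.card_zpowers, hi])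
    obtain ⟨k, hk, hkR⟩ := hsyl a (fun _ hk => (S.mem_Ka.1 hk).2) (fun _ h1 h2 => S.mem_Ka.2 ⟨h1, h2⟩)
      (zpowers (g * a * g⁻¹)) hQ (fun q hq => by
        obtain ⟨i, rfl⟩ := hq
        exact h.zpow_left i)
    obtain ⟨hz, ha⟩ := S.mem_Ka.1 (hR (hkR _ (mem_zpowers _)))
    have e : k * (g * a * g⁻¹) * k⁻¹ = k * g * a * (k * g)⁻¹ := by group
    rw [e] at hz ha
    have := mul_mem (inv_mem (hNa k hk)) (key (k * g) ha hz)
    rwa [inv_mul_cancel_left] at this
  clear h g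
  intro g hua huz
  by_contra hg
  set W := S.V.map (MulAut.conj g).toMonoidHom with hW
  set u := g * a * g⁻¹ with hu
  have hW4 : Nat.card ↥W = 4 := by rw [hW, Subgroup.card_map_of_injective (MulAut.conj g).injective, S.cardV]
  have movW : ∀ {r x}, Commute r u → x ∈ W → r * x * r⁻¹ ∈ W := fun {r x} hr hx => by
    obtain ⟨v, hv, rfl⟩ := hx
    have hc : Commute (g⁻¹ * r * g) a := by
      have := hr.map (MulAut.conj g⁻¹).toMonoidHom
      simpa [hu, mul_assoc] using this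
    refine ⟨_, S.conj_of_N (hNa _ hc) hv, ?_⟩
    simp only [MulEquiv.coe_toMonoidHom, MulAut.conj_apply]
    group
  obtain ⟨y, hy, hny⟩ : ∃ y ∈ S.V, ¬ Commute (g * y * g⁻¹) a := by
    by_contra hall
    push Not at hall
    exact hg (S.weak hNa hall)
  set w := g * y * g⁻¹ with hw
  have hwW : w ∈ W := ⟨y, hy, rfl⟩
  have huW : u ∈ W := ⟨a, S.memAV, rfl⟩
  have hw2 : w * w = 1 := conj_sq' (S.V_sq hy) g
  have hu2 : u * u = 1 := conj_sq' ha2 g
  have w1 : w ≠ 1 := fun e => hny (e ▸ Commute.one_left a)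
  have u1 : u ≠ 1 := fun e => S.a_ne (conj_eq_one_iff.1 e)
  have hwu : w ≠ u := fun e => hny (e ▸ hua)
  have hcwu : w * u = u * w := by
    rw [hw, hu, ← conj_mul_eq, ← conj_mul_eq, (S.comA y (S.V_le hy)).eq]
  have img : ∀ {r}, Commute r u → r * w * r⁻¹ = w ∨ r * w * r⁻¹ = w * u := fun {r} hr => by
    rcases S.four hW4 hwW huW (movW hr hwW) w1 u1 hwu hw2 with e | e | e | e
    · exact absurd (conj_eq_one_iff.1 e) w1
    · exact Or.inl e
    · exact absurd (mul_left_cancel (mul_right_cancel (e.trans (conj_eq_iff.2 hr).symm))) hwu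
    · exact Or.inr e
  have haw : a * w * a⁻¹ = w * u := (img hua.symm).resolve_left fun e => hny (conj_eq_iff.1 e).symm
  have hwN : w ∈ normalizer (S.V : Set G) := by
    rcases img huz.symm with e | e
    · exact S.H_le_N (conj_eq_iff.1 e).symm
    · refine hNaz w (conj_eq_iff.1 ?_).symm
      rw [show a * z * w * (a * z)⁻¹ = a * (z * w * z⁻¹) * a⁻¹ by group, e, conj_mul_eq, haw,
        conj_eq_iff.2 hua.symm, mul_assoc, hu2, mul_one]
  refine hg (S.common hNa S.memAV S.a_ne ?_)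
  show u ∈ S.V
  have e2 : u = w⁻¹ * a * w⁻¹⁻¹ * a⁻¹ := by
    rw [inv_inv, show w⁻¹ * a * w * a⁻¹ = w⁻¹ * (a * w * a⁻¹) by group, haw, inv_mul_cancel_left]
  rw [e2]
  exact S.V.mul_mem (S.conj_of_N (inv_mem hwN) S.memAV) (S.V.inv_mem S.memAV)

theorem uniq_a {g : G} (h : g * a * g⁻¹ ∈ normalizer (S.V : Set G)) : g ∈ normalizer (S.V : Set G) := by
  obtain ⟨v, hv, h1, hc⟩ := S.fixes_one (conj_sq' S.sqa g) fun x hx => S.conj_of_N h hx
  obtain ⟨k, hk, hka⟩ := S.to_a hv h1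
  have := hc.map (MulAut.conj k).toMonoidHom
  simp only [MulEquiv.coe_toMonoidHom, MulAut.conj_apply, hka] at this
  rw [show k * (g * a * g⁻¹) * k⁻¹ = k * g * a * (k * g)⁻¹ by group] at this
  have h2 := mul_mem (inv_mem (S.H_le_N hk)) (S.a_class hNa hNaz this)
  rwa [inv_mul_cancel_left] at h2

theorem uniq_good {x : G} (hx : x * x = 1) (hC : ∀ h, Commute h x → h ∈ normalizer (S.V : Set G)) {g : G}
    (h : g * x * g⁻¹ ∈ normalizer (S.V : Set G)) : g ∈ normalizer (S.V : Set G) := by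
  obtain ⟨v, hv, h1, hc⟩ := S.fixes_one (conj_sq' hx g) fun x hx => S.conj_of_N h hx
  have := hc.symm.map (MulAut.conj g⁻¹).toMonoidHom
  simp only [MulEquiv.coe_toMonoidHom, MulAut.conj_apply, inv_inv,
    show g⁻¹ * (g * x * g⁻¹) * g = x by group] at this
  obtain ⟨k, hk, hka⟩ := S.to_a hv h1
  have h2 := hC _ this
  rw [show g⁻¹ * v * g = g⁻¹ * k⁻¹ * a * (g⁻¹ * k⁻¹)⁻¹ by rw [← hka]; group] at h2
  have h3 := mul_mem (inv_mem (S.H_le_N hk)) (inv_mem (S.uniq_a hNa hNaz h2))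
  rwa [show k⁻¹ * (g⁻¹ * k⁻¹)⁻¹ = g by group] at h3

/-- The four-group is normal. -/
theorem V_normal : S.V.Normal := by
  have hz2 : ∀ v ∈ S.V, (z * v) * (z * v) = 1 := fun v hv => S.ZJ_sq (mul_mem S.z_ZJ (S.V_le_ZJ hv))
  have hC : ∀ v ∈ S.V, v ≠ 1 → ∀ h, Commute h (z * v) → h ∈ normalizer (S.V : Set G) := by
    intro v hv h1 h hh
    obtain ⟨k, hk, hka⟩ := S.to_a hv h1
    have := hh.map (MulAut.conj k).toMonoidHom
    simp only [MulEquiv.coe_toMonoidHom, MulAut.conj_apply, conj_mul_eq k z v, hka, conj_eq_iff.2 hk,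
      ← (S.comA z S.memJ).eq] at this
    have h2 := mul_mem (mul_mem (inv_mem (S.H_le_N hk)) (hNaz _ this)) (S.H_le_N hk)
    rwa [show k⁻¹ * (k * h * k⁻¹) * k = h by group] at h2
  have htop := eq_top_of_two_classes (normalizer (S.V : Set G)) S.sqa S.z_sq (Subgroup.le_normalizer S.memAV)
    (S.H_le_N (Commute.refl z)) (fun g h => S.uniq_a hNa hNaz h)
    (fun g h => S.uniq_good hNa hNaz S.z_sq (fun _ h => S.H_le_N h) h) (fun k hk g h => by
      have hv := S.conj_of_N hk S.memAV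
      exact S.uniq_good hNa hNaz (hz2 _ hv) (hC _ hv fun e => S.a_ne (conj_eq_one_iff.1 e)) h)
  exact ⟨fun x hx g => S.conj_of_N (htop g) hx⟩

end Setting

end Cfsg.Lib.FiThree
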