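import Cfsg.Agent.USixType.Ext.Fixed.Module

/-!
# A commuting map of order three without fixed elements excludes fixed elements
-/

set_option autoImplicit false
set_option Elab.async false
set_option maxRecDepth 100000
set_option linter.style.haveILetI false

namespace Cfsg.Lib.FiThree

open Subgroup Cfsg.Lib.USixType

attribute [local irreducible] wordK ev grpMKey frameWord monoWord

/-- The image of a diagonal element under conjugation. -/
def imgD (a : Fin 27) : Fin 27 :=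
  ((List.finRange 27).find? fun a' =>
    mulK (wordK [0, 15]) (wordK (diagWord.getD a.val [])) == mulK (wordK (diagWord.getD a'.val [])) (wordK [0, 15])).getD 0

theorem imgD_ok : ∀ a : Fin 27, mulK (wordK [0, 15]) (wordK (diagWord.getD a.val [])) =
    mulK (wordK (diagWord.getD (imgD a).val [])) (wordK [0, 15]) ∧ inB 5 (imgD a) = inB 5 a := by decide +kernel

theorem imgD_inverts : ∃ d : Fin 27, inB 5 d = false ∧ inB 5 (dadd (imgD d) d) = true := by decide +kernel

theorem not_in_double : ∀ d : Fin 27, inB 5 d = false → inB 5 (dadd d d) = false := by decide +kernel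

/-- The eight-dimensional module with a commuting map of order three without fixed elements has no fixed element. -/
theorem nofix_of_scalar {V : Type*} [AddCommGroup V] [Finite V] (ρ : ↥U →* AddMonoid.End V) (hc : Nat.card V = 256)
    (h2 : ∀ v : V, v + v = 0) (hnt : ∃ g, ρ g ≠ 1) (C : V →+ V) (hC : ∀ g v, C (ρ g v) = ρ g (C v))
    (h3 : ∀ v, C (C (C v)) = v) (hf : ∀ v, C v = v → v = 0) : ∀ v, (∀ g, ρ g v = v) → v = 0 := by
  intro v₀ hv₀
  by_contra hne
  obtain ⟨ht, -⟩ := Ext.fixed_part ρ hc h2 hnt hne hv₀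
  have hsp := card_split ρ h2
  rw [prod_classes _ (card_rep ρ), hc, ht] at hsp
  have ge4 : ∀ B, Nat.card ↥(Wset ρ B) = 1 ∨ 4 ≤ Nat.card ↥(Wset ρ B) := fun B => by
    by_cases hB : Wset ρ B = ⊥
    · exact Or.inl (by rw [hB]; simp)
    · exact Or.inr (four_le ρ h2 hB)
  set n0 := Nat.card ↥(Wset ρ 0)
  set n2 := Nat.card ↥(Wset ρ 2)
  set n3 := Nat.card ↥(Wset ρ 12)
  have e3 : n3 = 1 := (ge4 12).resolve_right fun h => by
    have h6 : 4 ^ 6 ≤ n3 ^ 6 := Nat.pow_le_pow_left h 6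
    have : n3 ^ 6 ∣ 256 := ⟨4 * (n0 ^ 4 * n2 ^ 3), by rw [← hsp]; ring⟩
    have := Nat.le_of_dvd (by norm_num) this
    omega
  rw [e3, one_pow, mul_one] at hsp
  have e0 : n0 = 1 := (ge4 0).resolve_right fun h => by
    have h256 : 4 ^ 4 ≤ n0 ^ 4 := Nat.pow_le_pow_left h 4
    have p2 : 1 ≤ n2 ^ 3 := Nat.one_le_pow _ _ Nat.card_pos
    have hmul : 256 ≤ n0 ^ 4 * n2 ^ 3 := Nat.mul_le_mul h256 p2
    omega
  rw [e0, one_pow, one_mul] at hsp
  have e2 : n2 = 4 := Nat.pow_left_injective (n := 3) (by norm_num) (show n2 ^ 3 = 4 ^ 3 by omega)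
  have e5 : Nat.card ↥(Wset ρ 5) = 4 := by
    rw [card_rep ρ 5, show repB 5 = 2 by decide +kernel]
    exact e2
  obtain ⟨w, hw, hw0⟩ : ∃ w ∈ Wset ρ 5, w ≠ 0 := by
    by_contra hno
    push Not at hno
    rw [(AddSubgroup.eq_bot_iff_forall _).2 hno] at e5
    simp at e5
  obtain ⟨d, hd, hdd⟩ := imgD_inverts
  have hCW : ∀ u ∈ Wset ρ 5, C u ∈ Wset ρ 5 := fun u hu => ⟨fun a ha => by rw [← hC, hu.1 a ha], by
    have := congrArg C hu.2
    rw [map_zero] at this
    simpa only [NA, map_sum, hC] using this⟩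
  have hdW : ∀ a, ∀ u ∈ Wset ρ 5, ρ (dg a) u ∈ Wset ρ 5 := fun a u hu =>
    ⟨fun b hb => by rw [rho_dg, dadd_comm, ← rho_dg, hu.1 b hb], by rw [NA_absorb, hu.2]⟩
  have hgd : ∀ a, wU [0, 15] * dg a = dg (imgD a) * wU [0, 15] := fun a => fr_comm (imgD_ok a).1
  have hgW : ∀ u ∈ Wset ρ 5, ρ (wU [0, 15]) u ∈ Wset ρ 5 := fun u hu =>
    carries ρ _ imgD hgd 5 5 (fun a => (imgD_ok a).2) hu
  have hall : ∀ u ∈ Wset ρ 5, u = 0 ∨ u = w ∨ u = C w ∨ u = C (C w) := by
    have hC0 : C w ≠ 0 := fun e => hw0 (by have := h3 w; rw [e, map_zero, map_zero] at this; exact this.symm)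
    have hC1 : C (C w) ≠ 0 := fun e => hw0 (by have := h3 w; rw [e, map_zero] at this; exact this.symm)
    have n1 : C w ≠ w := fun e => hw0 (hf w e)
    have n2 : C (C w) ≠ C w := fun e => hC0 (hf _ e)
    have n3 : C (C w) ≠ w := fun e => hw0 (hf w (by have := h3 w; rwa [e] at this))
    let f : Fin 4 → ↥(Wset ρ 5) := ![0, ⟨w, hw⟩, ⟨_, hCW w hw⟩, ⟨_, hCW _ (hCW w hw)⟩]
    have hinj : Function.Injective f := by
      intro i j e
      have e' := congrArg Subtype.val e
      fin_cases i <;> fin_cases j <;>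
        simp [f, hw0, hw0.symm, hC0, hC0.symm, hC1, hC1.symm, n1, n1.symm, n2, n2.symm, n3, n3.symm] at e' ⊢
    have hbij := (Nat.bijective_iff_injective_and_card f).2 ⟨hinj, by simpa using e5.symm⟩
    intro u hu
    obtain ⟨i, hi⟩ := hbij.2 ⟨u, hu⟩
    have e' := congrArg Subtype.val hi
    fin_cases i <;> simp [f] at e' <;> simp [← e']
  -- both the diagonal element and the monomial element act as powers of the map
  have comm : ∀ {g h : ↥U}, ρ g w ∈ Wset ρ 5 → ρ h w ∈ Wset ρ 5 → ρ g (ρ h w) = ρ h (ρ g w) := by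
    intro g h hg hh
    rcases hall _ hg with e | e | e | e <;> rcases hall _ hh with e' | e' | e' | e' <;>
      simp only [e, e', map_zero, ← hC]
  have h1 := comm (hgW w hw) (hdW d w hw)
  rw [← rho_mul, hgd, rho_mul] at h1
  -- so the diagonal element fixes a vector
  have h4 : ρ (dg (dadd d d)) (ρ (wU [0, 15]) w) = ρ (wU [0, 15]) w := by
    rw [← rho_dg, ← h1, rho_dg, dadd_comm]
    exact (hgW w hw).1 _ hdd
  exact hw0 (rho_inj ρ (wU [0, 15]) (by rw [eq_zero_of_fix ρ h2 (not_in_double d hd) (hgW w hw) h4, map_zero]))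

end Cfsg.Lib.FiThree
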