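import Cfsg.Agent.FiThreeCentral.Basic
import Cfsg.Agent.FiThreeCentral.Module

/-!
# Coordinates on the centraliser of two central involutions
-/

set_option autoImplicit false
set_option Elab.async false
set_option maxRecDepth 100000
set_option linter.style.haveILetI false
set_option linter.unusedSectionVars false

namespace Cfsg.Lib.FiThree

open Subgroup Cfsg.Lib.USixType

universe u v

variable {G : Type u} [Group G] {P : Type v} [Group P]

theorem tv0_moves : ∃ v : Fin 256, tv (ctr 0) ⟨v⟩ ≠ (⟨v⟩ : Vt) := by decide +kernel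

/-- Coordinates: the core as an eightfold cover of the vectors. -/
structure NC {z a b c : G} {J E : Subgroup G} (S : Setting z a b c J E P) where
  /-- The vector of an element of the core. -/
  β : G → Vt
  /-- The map of an element of the centraliser of `z` and `a`. -/
  π : G → Equiv.Perm Vt
  β_mul : ∀ p ∈ J, ∀ q ∈ J, β (p * q) = β p + β q
  β_surj : ∀ v, ∃ q ∈ J, β q = v
  β_ker : ∀ q ∈ J, β q = 0 ↔ q ∈ S.ZJ
  sq : ∀ q ∈ J, q * q = zp z (Q (β q))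
  comm : ∀ p ∈ J, ∀ q ∈ J, p * q * p⁻¹ * q⁻¹ = zp z (B (β p) (β q))
  π_mem : ∀ h ∈ S.Ka, π h ∈ U ∨ Ext.Semi (π h)
  π_semi : ∀ h ∈ S.Ka, ∀ k ∈ S.Ka, π h ∉ U → π k ∉ U → π (h * k) ∈ U
  π_mul : ∀ h ∈ S.Ka, ∀ k ∈ S.Ka, π (h * k) = π h * π k
  π_ker : ∀ h ∈ S.Ka, π h = 1 ↔ h ∈ J
  π_inn : ∀ h ∈ S.Ka, π h ∈ U → h ∈ S.inner
  π_surj : ∀ g ∈ U, ∃ h ∈ S.inner, π h = g
  equiv : ∀ h ∈ S.Ka, ∀ q ∈ J, β (h * q * h⁻¹) = π h (β q)

namespace Setting

variable {z a b c : G} {J E : Subgroup G} (S : Setting z a b c J E P)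

instance normal_V [Finite G] : (S.V.subgroupOf S.Ka).Normal := ⟨fun x hx g => by
  rw [mem_subgroupOf] at hx ⊢
  exact S.conj_V (S.mem_Ka.1 g.2).1 hx⟩

include S

/-- Elements moving the core only within the eight central elements lie in it. -/
theorem mem_of_shift [Finite G] {h : G} (hh : h ∈ S.Ka) (hs : ∀ q ∈ J, h * q * h⁻¹ * q⁻¹ ∈ S.ZJ) : h ∈ J := by
  classical
  haveI := S.finiteP
  have hmv : ∀ p ∈ S.Ka, ∀ w ∈ S.ZJ, p * p * w * (p * p)⁻¹ = w := by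
    intro p hp w hw
    obtain ⟨pz, pa⟩ := S.mem_Ka.1 hp
    refine conj_eq_iff.2 (S.comm_Z (pz.mul_left pz) (pa.mul_left pa) (conj_eq_iff.1 ?_) hw)
    rw [show p * p * b * (p * p)⁻¹ = p * (p * b * p⁻¹) * p⁻¹ by group]
    rcases S.swap_b pz pa with e | e <;> rw [e]
    · exact e
    · rw [conj_mul_eq, conj_eq_iff.2 pa, e, ← mul_assoc, S.sqa, one_mul]
  let T : Subgroup G :=
    { carrier := {x | x ∈ S.Ka ∧ ∀ q ∈ J, x * q * x⁻¹ * q⁻¹ ∈ S.ZJ}
      one_mem' := ⟨one_mem _, fun q _ => by simp⟩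
      mul_mem' := fun {p r} hp hr => ⟨mul_mem hp.1 hr.1, fun q hq => by
        rw [show p * r * q * (p * r)⁻¹ * q⁻¹ = (p * (r * q * r⁻¹ * q⁻¹) * p⁻¹) * (p * q * p⁻¹ * q⁻¹) by group]
        exact mul_mem (S.conj_ZJ (S.mem_Ka.1 hp.1).1 (hr.2 q hq)) (hp.2 q hq)⟩
      inv_mem' := fun {p} hp => ⟨inv_mem hp.1, fun q hq => by
        have h1 := hp.2 _ (S.conj_J (S.mem_Ka.1 hp.1).1.inv_left hq)
        rw [show p * (p⁻¹ * q * p⁻¹⁻¹) * p⁻¹ * (p⁻¹ * q * p⁻¹⁻¹)⁻¹ = (p⁻¹ * q * p⁻¹⁻¹ * q⁻¹)⁻¹ by group] at h1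
        exact inv_mem_iff.1 h1⟩ }
  have hT : T ≤ S.Ka := fun x hx => hx.1
  let g : ↥T →* MulAut P := S.fa.comp (Subgroup.inclusion hT)
  have hp : IsPGroup 2 ↥T := fun t => ⟨3, by
    obtain ⟨ht, htq⟩ := t.2
    obtain ⟨tz, ta⟩ := S.mem_Ka.1 ht
    have h4 : ((t : G) * t) * ((t : G) * t) ∈ S.ZJ := by
      refine S.cent ((tz.mul_left tz).mul_left (tz.mul_left tz)) fun q hq => conj_eq_iff.1 ?_
      set w := (t : G) * q * (t : G)⁻¹ * q⁻¹ with hw
      have hwZ : w ∈ S.ZJ := htq q hq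
      have htw : (t : G) * w * (t : G)⁻¹ ∈ S.ZJ := S.conj_ZJ tz hwZ
      have e2 : (t : G) * t * q * ((t : G) * t)⁻¹ = ((t : G) * w * (t : G)⁻¹ * w) * q := by rw [hw]; group
      set x := (t : G) * w * (t : G)⁻¹ * w
      have hx : x ∈ S.ZJ := mul_mem htw hwZ
      rw [show (t : G) * t * ((t : G) * t) * q * ((t : G) * t * ((t : G) * t))⁻¹ =
          (t : G) * t * ((t : G) * t * q * ((t : G) * t)⁻¹) * ((t : G) * t)⁻¹ by group, e2, conj_mul_eq,
        hmv _ ht _ hx, e2, ← mul_assoc, S.ZJ_sq hx, one_mul]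
    refine Subtype.ext ?_
    rw [SubmonoidClass.coe_pow, OneMemClass.coe_one, show (2 : ℕ) ^ 3 = 2 * 2 * 2 from rfl, pow_mul, pow_mul,
      pow_two (t : G), pow_two ((t : G) * t), pow_two]
    exact S.ZJ_sq h4⟩
  have hnorm : ∀ g' ∈ (MulAut.conj : P →* MulAut P).range, ∀ x ∈ g.range, g' * x * g'⁻¹ ∈ g.range := by
    intro g' _ x hx
    obtain ⟨i, rfl⟩ := S.fa_surj g'
    obtain ⟨t, rfl⟩ := hx
    obtain ⟨iz, -⟩ := S.mem_Ka.1 i.2
    have hm : (i : G) * t * (i : G)⁻¹ ∈ T := ⟨mul_mem (mul_mem i.2 (hT t.2)) (inv_mem i.2), fun q hq => by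
      have h1 := S.conj_ZJ iz (t.2.2 _ (S.conj_J iz.inv_left hq))
      rwa [show (i : G) * ((t : G) * ((i : G)⁻¹ * q * (i : G)⁻¹⁻¹) * (t : G)⁻¹ * ((i : G)⁻¹ * q * (i : G)⁻¹⁻¹)⁻¹) *
        (i : G)⁻¹ = (i : G) * t * (i : G)⁻¹ * q * ((i : G) * t * (i : G)⁻¹)⁻¹ * q⁻¹ by group] at h1⟩
    refine ⟨⟨_, hm⟩, ?_⟩
    show S.fa ⟨_, _⟩ = S.fa i * S.fa (Subgroup.inclusion hT t) * (S.fa i)⁻¹
    rw [← map_inv, ← map_mul, ← map_mul]
    rfl
  exact (S.fa_ker ⟨h, hh⟩).1 (FiTwo.two_trivial S.iso.some g.range (IsPGroup.of_surjective hp g.rangeRestrict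
    g.rangeRestrict_surjective) hnorm _ ⟨⟨h, hh, hs⟩, rfl⟩)

theorem card_ZJ_eq [Finite G] : Nat.card ↥S.ZJ = 8 := by
  refine le_antisymm S.card_ZJ ?_
  let F : ↥S.V × ↥(zpowers z) → ↥S.ZJ := fun p => ⟨p.1 * p.2, mul_mem (S.V_le_ZJ p.1.2) (by
    rcases Ext.eq_one_or_of_zpowers S.z_sq p.2.2 with e | e <;> rw [e]
    exacts [one_mem _, S.z_ZJ])⟩
  have hF : Function.Injective F := by
    rintro ⟨x, e⟩ ⟨y, d⟩ h
    have h' : (x : G) * e = y * d := congrArg Subtype.val h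
    have hm : (y : G)⁻¹ * x ∈ zpowers z := by
      rw [show (y : G)⁻¹ * x = d * (e : G)⁻¹ by
        calc (y : G)⁻¹ * x = (y : G)⁻¹ * ((x : G) * e) * (e : G)⁻¹ := by group
          _ = _ := by rw [h']; group]
      exact mul_mem d.2 (inv_mem e.2)
    have hxy : (y : G) = x := by
      rcases Ext.eq_one_or_of_zpowers S.z_sq hm with r | r
      · exact inv_mul_eq_one.1 r
      · have h5 := S.V.mul_mem (S.V.inv_mem y.2) x.2
        rw [r] at h5
        exact absurd h5 S.z_notV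
    exact Prod.ext (Subtype.ext hxy.symm) (Subtype.ext (mul_left_cancel (hxy ▸ h' : (x : G) * e = x * d)))
  have := Nat.card_le_card_of_injective F hF
  rwa [Nat.card_prod, S.cardV, Nat.card_zpowers, S.order] at this

theorem c_solve {v : G} (hv : v ∈ S.V) : ∃ u ∈ S.V, c * u * c⁻¹ * u⁻¹ = v := by
  rcases S.mem_V.1 hv with e | e | e | e <;> rw [e]
  · exact ⟨1, one_mem _, by group⟩
  · exact ⟨b, S.memBV, by rw [S.cb, mul_inv_cancel_right]⟩
  · exact ⟨a * b, S.V.mul_mem S.memAV S.memBV, by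
      rw [S.c_ab, mul_inv_rev, S.a_inv, S.b_inv, ← S.comAB.eq, ← mul_assoc, S.sqa, one_mul]⟩
  · exact ⟨a, S.memAV, by rw [S.ca, S.a_inv, S.comAB.eq]⟩

/-- Only central elements are fixed by `c` modulo the central elements. -/
theorem c_fpf [Finite G] {q : G} (hq : q ∈ J) (h : c * q * c⁻¹ * q⁻¹ ∈ S.ZJ) : q ∈ S.ZJ := by
  obtain ⟨v, hv, hd⟩ := h
  obtain ⟨u, hu, huv⟩ := S.c_solve hv
  have huJ := S.V_le hu
  have hq' : u * q ∈ J := mul_mem huJ hq
  suffices h' : u * q ∈ S.ZJ by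
    have := S.ZJ.mul_mem (S.ZJ.inv_mem (S.V_le_ZJ hu)) h'
    rwa [inv_mul_cancel_left] at this
  have hx : c * (u * q) * c⁻¹ * (u * q)⁻¹ = (c * u * c⁻¹ * u⁻¹) * (c * q * c⁻¹ * q⁻¹) := by
    calc c * (u * q) * c⁻¹ * (u * q)⁻¹ = c * u * c⁻¹ * ((c * q * c⁻¹ * q⁻¹) * u⁻¹) := by group
      _ = c * u * c⁻¹ * (u⁻¹ * (c * q * c⁻¹ * q⁻¹)) := by
        rw [((S.comV hu (mul_mem (S.conj_J S.cz hq) (inv_mem hq))).inv_left).eq]
      _ = _ := by group
  have hone : c * (u * q) * c⁻¹ * (u * q)⁻¹ = 1 ∨ c * (u * q) * c⁻¹ * (u * q)⁻¹ = z := by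
    rw [hx, huv]
    rcases hd with e | e <;> rw [e]
    · exact Or.inl (S.V_sq hv)
    · exact Or.inr (by rw [← mul_assoc, S.V_sq hv, one_mul])
  rcases hone with e | e
  · rcases S.fpf _ hq' (mul_inv_eq_iff_eq_mul.1 (mul_inv_eq_one.1 e)) with r | r <;> rw [r]
    exacts [one_mem _, S.z_ZJ]
  · exfalso
    have e1 : c * (u * q) * c⁻¹ = z * (u * q) := mul_inv_eq_iff_eq_mul.1 e
    have e3 : c * c * c * (u * q) * (c * c * c)⁻¹ = z * (u * q) := by
      have hzc : c * z * c⁻¹ = z := conj_eq_iff.2 S.cz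
      have e2 : c * (z * (u * q)) * c⁻¹ = u * q := by
        rw [conj_mul_eq, hzc, e1, ← mul_assoc, S.z_sq, one_mul]
      calc c * c * c * (u * q) * (c * c * c)⁻¹ = c * (c * (c * (u * q) * c⁻¹) * c⁻¹) * c⁻¹ := by group
        _ = z * (u * q) := by rw [e1, e2, e1]
    rw [S.c3, one_mul, inv_one, mul_one] at e3
    exact S.z_ne (right_eq_mul.1 e3)

/-- The inner part has no fixed element modulo the centre. -/
theorem noFix [Finite G] {q : G} (hq : q ∈ J) (h : ∀ i ∈ S.inner, i * q * i⁻¹ * q⁻¹ ∈ S.ZJ) : q ∈ S.ZJ := by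
  classical
  obtain ⟨e⟩ := S.iso
  let Z0 : Subgroup ↥J := S.ZJ.subgroupOf J
  haveI hN : Z0.Normal := ⟨fun x hx y => by
    have hx' : (x : G) ∈ S.ZJ := hx
    show ((y : G) * x * (y : G)⁻¹) ∈ S.ZJ
    rw [(S.ZJ_comm hx' y.2).eq, mul_inv_cancel_right]
    exact hx'⟩
  letI : CommGroup (↥J ⧸ Z0) :=
    { (inferInstance : Group (↥J ⧸ Z0)) with
      mul_comm := fun x y => by
        induction x using QuotientGroup.induction_on with
        | H p =>
        induction y using QuotientGroup.induction_on with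
        | H r =>
        refine QuotientGroup.eq.2 ?_
        show ((p : G) * r)⁻¹ * ((r : G) * p) ∈ S.ZJ
        rw [show ((p : G) * r)⁻¹ * ((r : G) * p) = (r : G)⁻¹ * (p : G)⁻¹ * (r : G)⁻¹⁻¹ * (p : G)⁻¹⁻¹ by group]
        rcases S.comm (inv_mem r.2) (inv_mem p.2) with e | e <;> rw [e]
        exacts [one_mem _, S.z_ZJ] }
  let cl : ↥J → Additive (↥J ⧸ Z0) := fun p => Additive.ofMul (QuotientGroup.mk p)
  have hcl : ∀ p r : ↥J, cl p = cl r ↔ (p : G)⁻¹ * r ∈ S.ZJ := fun p r => by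
    show Additive.ofMul (QuotientGroup.mk p) = Additive.ofMul (QuotientGroup.mk r) ↔ _
    rw [Additive.ofMul.apply_eq_iff_eq, QuotientGroup.eq]
    rfl
  have hcl0 : ∀ p : ↥J, cl p = 0 ↔ (p : G) ∈ S.ZJ := fun p => by
    show Additive.ofMul (QuotientGroup.mk p) = Additive.ofMul 1 ↔ _
    rw [Additive.ofMul.apply_eq_iff_eq, QuotientGroup.eq_one_iff]
    rfl
  have cls : ∀ x, ∃ p, cl p = x := fun x => ⟨(Additive.toMul x).out, by simp [cl]⟩
  let conjJ : ∀ h : G, Commute h z → (↥J →* ↥J) := fun h hh =>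
    MonoidHom.mk' (fun p => ⟨h * p * h⁻¹, S.conj_J hh p.2⟩) fun p r => Subtype.ext (conj_mul_eq h p r)
  let act : ∀ h : G, Commute h z → (Additive (↥J ⧸ Z0) →+ Additive (↥J ⧸ Z0)) := fun h hh =>
    MonoidHom.toAdditive (QuotientGroup.map Z0 Z0 (conjJ h hh) fun p hp => S.conj_ZJ hh hp)
  have act_cl : ∀ h hh p, act h hh (cl p) = cl ⟨h * p * h⁻¹, S.conj_J hh p.2⟩ := fun h hh p => rfl
  have act_congr : ∀ h k hh hk, h⁻¹ * k ∈ J → act h hh = act k hk := by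
    intro h k hh hk hj
    refine AddMonoidHom.ext fun x => ?_
    obtain ⟨p, rfl⟩ := cls x
    rw [act_cl h hh, act_cl k hk, hcl]
    show (h * p * h⁻¹)⁻¹ * (k * p * k⁻¹) ∈ S.ZJ
    rw [show (h * p * h⁻¹)⁻¹ * (k * p * k⁻¹) = h * ((p : G)⁻¹ * ((h⁻¹ * k) * p * (h⁻¹ * k)⁻¹)) * h⁻¹ by group]
    rcases S.conj_cases hj p.2 with r | r
    · rw [r, inv_mul_cancel, mul_one, mul_inv_cancel]
      exact one_mem _
    · rw [r, inv_mul_cancel_left]
      exact S.conj_ZJ hh S.z_ZJ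
  have lift : ∀ g : ↥U, ∃ i : ↥S.Ka, (i : G) ∈ S.inner ∧ S.fa i = MulAut.conj (e g) := fun g => by
    obtain ⟨i, hi⟩ := S.fa_surj (MulAut.conj (e g))
    exact ⟨i, (S.inner_iff i).2 (hi ▸ ⟨_, rfl⟩), hi⟩
  choose L hL hL' using lift
  have Lz : ∀ g, Commute (L g : G) z := fun g => (S.mem_Ka.1 (L g).2).1
  have sameJ : ∀ {i k : ↥S.Ka}, S.fa i = S.fa k → (i : G)⁻¹ * k ∈ J := fun {i k} h =>
    (S.fa_ker (i⁻¹ * k)).1 (by rw [map_mul, map_inv, h, inv_mul_cancel])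
  have act_mul : ∀ h k hh hk x, act (h * k) (hh.mul_left hk) x = act h hh (act k hk x) := by
    intro h k hh hk x
    obtain ⟨p, rfl⟩ := cls x
    rw [act_cl (h * k) (hh.mul_left hk), act_cl k hk, act_cl h hh]
    congr 2
    show h * k * p * (h * k)⁻¹ = h * (k * p * k⁻¹) * h⁻¹
    group
  let ρ : ↥U →* AddMonoid.End (Additive (↥J ⧸ Z0)) :=
    { toFun := fun g => act (L g) (Lz g)
      map_one' := by
        refine AddMonoidHom.ext fun x => ?_
        rw [act_congr (L 1) 1 (Lz 1) (Commute.one_left z) (sameJ (k := 1) (by rw [hL', map_one, map_one, map_one]))]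
        obtain ⟨p, rfl⟩ := cls x
        rw [act_cl 1 (Commute.one_left z)]
        exact congrArg cl (Subtype.ext (by group))
      map_mul' := fun g g' => by
        refine AddMonoidHom.ext fun x => ?_
        rw [act_congr (L (g * g')) ((L g : G) * L g') (Lz _) ((Lz g).mul_left (Lz g'))
          (sameJ (k := L g * L g') (by rw [hL', map_mul, map_mul, map_mul, hL', hL']))]
        exact act_mul _ _ (Lz g) (Lz g') x }
  let C : Additive (↥J ⧸ Z0) →+ Additive (↥J ⧸ Z0) := act c S.cz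
  have hcard : Nat.card (Additive (↥J ⧸ Z0)) = 256 := by
    rw [show Nat.card (Additive (↥J ⧸ Z0)) = Nat.card (↥J ⧸ Z0) from rfl]
    have := Subgroup.card_eq_card_quotient_mul_card_subgroup Z0
    rw [S.cardJ, Nat.card_congr (Subgroup.subgroupOfEquivOfLe S.ZJ_le).toEquiv, S.card_ZJ_eq] at this
    omega
  have h2 : ∀ x : Additive (↥J ⧸ Z0), x + x = 0 := fun x => by
    obtain ⟨p, rfl⟩ := cls x
    show cl (p * p) = 0
    rw [hcl0]
    rcases S.sq p.2 with r | r <;> (show (p : G) * p ∈ S.ZJ) <;> rw [r]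
    exacts [one_mem _, S.z_ZJ]
  have hnt : ∃ g, ρ g ≠ 1 := by
    by_contra hall
    push Not at hall
    have : ∀ i ∈ S.inner, i ∈ J := fun i hi => by
      obtain ⟨p, hp⟩ := (S.inner_iff ⟨i, S.inner_le_Ka hi⟩).1 hi
      refine S.mem_of_shift (S.inner_le_Ka hi) fun r hr => ?_
      have hiz := (S.mem_inner.1 hi).1
      have e1 : act i hiz = ρ (e.symm p) := act_congr i (L (e.symm p)) hiz (Lz _) (sameJ (i := ⟨i, S.inner_le_Ka hi⟩)
        (by rw [hL', MulEquiv.apply_symm_apply]; exact hp.symm))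
      have e2 : act i hiz (cl ⟨r, hr⟩) = cl ⟨r, hr⟩ := by rw [e1, hall]; rfl
      rw [act_cl i hiz, hcl] at e2
      have h3 := S.ZJ.inv_mem (S.conj_ZJ (S.commJ hr) e2)
      convert h3 using 1
      group
    obtain ⟨k, hk⟩ := S.fa_surj (MulAut.conj (e ⟨tvP 0, tvP_mem 0⟩))
    have h1 := (S.fa_ker k).2 (this k ((S.inner_iff k).2 (hk ▸ ⟨_, rfl⟩)))
    rw [hk, ← map_one (MulAut.conj : P →* MulAut P)] at h1
    have h3 := congrArg Subtype.val (e.injective ((FiTwo.conj_injective e h1).trans e.map_one.symm))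
    obtain ⟨v, hv⟩ := tv0_moves
    exact hv (by rw [← tvP_apply]; exact congrArg (fun g : Equiv.Perm Vt => g ⟨v⟩) h3)
  have hC : ∀ g x, C (ρ g x) = ρ g (C x) := fun g x => by
    obtain ⟨p, rfl⟩ := cls x
    show act c S.cz (act (L g) (Lz g) (cl p)) = act (L g) (Lz g) (act c S.cz (cl p))
    rw [← act_mul _ _ S.cz (Lz g), ← act_mul _ _ (Lz g) S.cz]
    refine DFunLike.congr_fun (act_congr (c * (L g : G)) ((L g : G) * c) (S.cz.mul_left (Lz g))
      ((Lz g).mul_left S.cz) ?_) _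
    have hj := S.c_inner (hL g)
    have := S.conj_J ((Lz g).inv_left.mul_left S.cz.inv_left) (inv_mem hj)
    convert this using 1
    group
  have h3 : ∀ x, C (C (C x)) = x := fun x => by
    obtain ⟨p, rfl⟩ := cls x
    show act c S.cz (act c S.cz (act c S.cz (cl p))) = cl p
    rw [act_cl c S.cz, act_cl c S.cz, act_cl c S.cz]
    refine congrArg cl (Subtype.ext ?_)
    show c * (c * (c * p * c⁻¹) * c⁻¹) * c⁻¹ = (p : G)
    calc c * (c * (c * p * c⁻¹) * c⁻¹) * c⁻¹ = c * c * c * p * (c * c * c)⁻¹ := by group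
      _ = _ := by rw [S.c3]; group
  have hf : ∀ x, C x = x → x = 0 := fun x hx => by
    obtain ⟨p, rfl⟩ := cls x
    change act c S.cz (cl p) = cl p at hx
    rw [act_cl c S.cz, hcl] at hx
    rw [hcl0]
    refine S.c_fpf p.2 ?_
    have h4 := S.ZJ.inv_mem (S.conj_ZJ (S.commJ p.2) hx)
    convert h4 using 1
    group
  have hfix := nofix_of_scalar ρ hcard h2 hnt C hC h3 hf (cl ⟨q, hq⟩) fun g => by
    show act (L g) (Lz g) (cl ⟨q, hq⟩) = _
    rw [act_cl (L g) (Lz g), hcl]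
    have h4 := S.conj_ZJ (S.commJ hq).inv_left (S.ZJ.inv_mem (h _ (hL g)))
    convert h4 using 1
    group
  exact (hcl0 _).1 hfix

end Setting

end Cfsg.Lib.FiThree
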