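import Cfsg.Agent.FiThreeCentral.Tri
import Cfsg.Agent.FiTwoCentral.Fusion

/-!
# The conjugates of the central involutions
-/

set_option autoImplicit false
set_option Elab.async false
set_option maxRecDepth 100000
set_option linter.style.haveILetI false
set_option linter.unusedSectionVars false

namespace Cfsg.Lib.FiThree

open Subgroup Cfsg.Lib.USixType
open Cfsg.Lib.FiTwo (Iso)

universe u v

variable {G : Type u} [Group G] [Finite G] {P : Type v} [Group P] {z a b c : G} {J E : Subgroup G}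

namespace Setting

variable (S : Setting z a b c J E P)
include S

theorem J_two : IsPGroup 2 ↥J := IsPGroup.of_card (n := 11) S.cardJ

theorem az_ne : a * z ≠ 1 ∧ a * z ≠ z := by
  refine ⟨fun e => S.z_notV ?_, fun e => S.a_ne (mul_eq_right.1 e)⟩
  have e' : z = a⁻¹ := eq_inv_of_mul_eq_one_right e
  have h := S.V.inv_mem S.memAV
  rwa [← e'] at h

theorem z_ne_a : a ≠ z := fun e => S.z_notV (e ▸ S.memAV)

theorem comm_az {h : G} (hh : h ∈ S.Ka) : Commute h (a * z) :=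
  (S.mem_Ka.1 hh).2.mul_right (S.mem_Ka.1 hh).1

theorem Ka_of_az {h : G} (hz : Commute h z) (h' : Commute h (a * z)) : h ∈ S.Ka := by
  refine S.mem_Ka.2 ⟨hz, ?_⟩
  have := h'.mul_right hz
  rwa [mul_assoc, S.z_sq, mul_one] at this

theorem nonabelian : ∃ p ∈ J, ∃ q ∈ J, p * q * p⁻¹ * q⁻¹ = z := by
  by_contra hc
  push Not at hc
  have hle : J ≤ S.ZJ := fun x hx => S.central hx fun q hq =>
    mul_inv_eq_iff_eq_mul.1 (mul_inv_eq_one.1 ((S.comm hx hq).resolve_right (hc x hx q hq)))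
  have h1 := Subgroup.card_le_of_le hle
  rw [S.cardJ] at h1
  have := S.card_ZJ
  omega

/-- The centraliser of `a` has index three. -/
theorem index_Ka : (S.Ka.subgroupOf (centralizer ({z} : Set G))).index = 3 := by
  classical
  set C := centralizer ({z} : Set G)
  set T := S.Ka.subgroupOf C
  let F : Fin 3 → ↥C ⧸ T := ![((1 : ↥C) : ↥C ⧸ T), ((⟨c, memC S.cz⟩ : ↥C) : ↥C ⧸ T),
    ((⟨c, memC S.cz⟩ * ⟨c, memC S.cz⟩ : ↥C) : ↥C ⧸ T)]
  have hF : Function.Surjective F := fun x => by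
    obtain ⟨⟨h, hh⟩, rfl⟩ := QuotientGroup.mk_surjective x
    have hz : Commute h z := comm_of_mem hh
    have key : ∀ {k : G}, Commute k z → k * a * k⁻¹ = h * a * h⁻¹ → k⁻¹ * h ∈ S.Ka := fun {k} hk e =>
      S.mem_Ka.2 ⟨hk.inv_left.mul_left hz, conj_eq_iff.1 (by
        rw [show k⁻¹ * h * a * (k⁻¹ * h)⁻¹ = k⁻¹ * (h * a * h⁻¹) * k by group, ← e]; group)⟩
    rcases S.mem_V.1 (S.conj_V hz S.memAV) with r | r | r | r
    · exact absurd (conj_eq_one_iff.1 r) S.a_ne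
    · exact ⟨0, QuotientGroup.eq.2 (key (k := 1) (Commute.one_left z) (by rw [r]; group))⟩
    · exact ⟨1, QuotientGroup.eq.2 (key S.cz (by rw [r, S.ca]))⟩
    · exact ⟨2, QuotientGroup.eq.2 (key (k := c * c) (S.cz.mul_left S.cz)
        (by rw [r, show c * c * a * (c * c)⁻¹ = c * (c * a * c⁻¹) * c⁻¹ by group, S.ca, S.cb]))⟩
  have hle := Nat.card_le_card_of_surjective F hF
  rw [Nat.card_fin] at hle
  have hc : (⟨c, memC S.cz⟩ : ↥C) ∉ T := fun e => S.ab_ne (by
    have h2 : c * a * c⁻¹ = a := conj_eq_iff.2 (S.mem_Ka.1 e).2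
    rw [S.ca] at h2
    exact h2)
  have h2 : T.index ≠ 2 := fun e => hc (by
    have h3 : (⟨c, memC S.cz⟩ : ↥C) = (⟨c, memC S.cz⟩ * ⟨c, memC S.cz⟩) * (⟨c, memC S.cz⟩ * ⟨c, memC S.cz⟩) :=
      Subtype.ext (by show c = c * c * (c * c); rw [← mul_assoc, S.c3, one_mul])
    rw [h3]
    exact T.mul_mem (T.mul_self_mem_of_index_two e _) (T.mul_self_mem_of_index_two e _))
  have h1 : T.index ≠ 1 := fun e => hc (by rw [Subgroup.index_eq_one.1 e]; exact Subgroup.mem_top _)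
  have h0 := Subgroup.index_ne_zero_of_finite (H := T)
  have hidx : T.index = Nat.card (↥C ⧸ T) := rfl
  omega

/-- The involution is not conjugate to a central involution above it. -/
theorem not_conj_of {w : G} (hw : ∀ h ∈ S.Ka, Commute h w) (h1 : w ≠ 1) (hz : w ≠ z) (g : G) :
    g * z * g⁻¹ ≠ w := by
  intro e
  classical
  haveI : Fact (Nat.Prime 2) := ⟨Nat.prime_two⟩
  set C := centralizer ({z} : Set G)
  have hback : ∀ k ∈ S.Ka, Commute (g⁻¹ * k * g) z := fun k hk => by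
    have := (hw k hk).map (MulAut.conj g⁻¹).toMonoidHom
    rw [← e] at this
    simpa [mul_assoc] using this
  let φ : ↥S.Ka →* ↥C :=
    { toFun := fun k => ⟨g⁻¹ * k * g, memC (hback k k.2)⟩
      map_one' := Subtype.ext (by simp)
      map_mul' := fun p q => Subtype.ext (by simp only [Subgroup.coe_mul]; group) }
  have hinj : Function.Injective φ := fun p q e' => Subtype.ext (mul_left_cancel (mul_right_cancel
    (congrArg Subtype.val e' : g⁻¹ * (p : G) * g = g⁻¹ * q * g)))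
  have hidx : φ.range.index = 3 := by
    have h1 := φ.range.card_mul_index
    rw [← Nat.card_congr (MonoidHom.ofInjective hinj).toEquiv] at h1
    have h2 := (S.Ka.subgroupOf C).card_mul_index
    rw [Nat.card_congr (Subgroup.subgroupOfEquivOfLe (show S.Ka ≤ C from inf_le_left)).toEquiv, S.index_Ka,
      ← h1] at h2
    exact (Nat.eq_of_mul_eq_mul_left Nat.card_pos h2).symm
  set JC := J.subgroupOf C
  have hJC : IsPGroup 2 ↥JC := S.J_two.of_equiv (Subgroup.subgroupOfEquivOfLe S.le).symm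
  have hmod := hJC.card_modEq_card_fixedPoints (↥C ⧸ φ.range)
  have hne : (MulAction.fixedPoints ↥JC (↥C ⧸ φ.range)).Nonempty := by
    by_contra hh
    rw [Set.not_nonempty_iff_eq_empty] at hh
    rw [show Nat.card (↥C ⧸ φ.range) = 3 from hidx, hh] at hmod
    simp [Nat.ModEq] at hmod
  obtain ⟨x, hx⟩ := hne
  obtain ⟨h, rfl⟩ := QuotientGroup.mk_surjective x
  have hJ : ∀ q ∈ J, ∃ k ∈ S.Ka, g⁻¹ * k * g = q := by
    intro q hq
    have hq' : (h : G) * q * (h : G)⁻¹ ∈ J := S.conj_J (comm_of_mem h.2) hq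
    have h3 : ((⟨_, S.le hq'⟩ : ↥C) * h)⁻¹ * h ∈ φ.range :=
      QuotientGroup.eq.1 (hx (⟨⟨_, S.le hq'⟩, hq'⟩ : ↥JC))
    obtain ⟨k, hk⟩ := φ.range.inv_mem h3
    refine ⟨k, k.2, ?_⟩
    have := congrArg Subtype.val hk
    simp only [Subgroup.coe_inv, Subgroup.coe_mul, smul_eq_mul, mul_inv_rev, inv_inv] at this
    rw [show g⁻¹ * (k : G) * g = ((φ k : ↥C) : G) from rfl, this]
    group
  let J1 : Subgroup ↥S.Ka := JC.comap φ
  have hJ1 : IsPGroup 2 ↥J1 := hJC.comap_of_injective φ hinj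
  have hn1 : J1.Normal := by
    haveI : JC.Normal := ⟨fun q hq y => S.conj_J (comm_of_mem y.2) hq⟩
    exact Subgroup.Normal.comap inferInstance φ
  haveI := S.finiteP
  have htriv := FiTwo.two_trivial S.iso.some (J1.map S.fa) (hJ1.map _) fun g' _ x hx => by
    haveI : (J1.map S.fa).Normal := hn1.map _ S.fa_surj
    exact Subgroup.Normal.conj_mem inferInstance x hx g'
  have hsub : ∀ k : ↥S.Ka, g⁻¹ * (k : G) * g ∈ J → (k : G) ∈ J := fun k hk =>
    (S.fa_ker k).1 (htriv _ ⟨k, hk, rfl⟩)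
  obtain ⟨p, hp, q, hq, hpq⟩ := S.nonabelian
  obtain ⟨p', hp', ep⟩ := hJ p hp
  obtain ⟨q', hq', eq'⟩ := hJ q hq
  have e2 : w = p' * q' * p'⁻¹ * q'⁻¹ := by rw [← e, ← hpq, ← ep, ← eq']; group
  rcases S.comm (hsub ⟨p', hp'⟩ (ep ▸ hp)) (hsub ⟨q', hq'⟩ (eq' ▸ hq)) with r | r
  · exact h1 (e2.trans r)
  · exact hz (e2.trans r)

theorem not_conj_a (g : G) : g * z * g⁻¹ ≠ a := S.not_conj_of (fun _ hh => (S.mem_Ka.1 hh).2) S.a_ne S.z_ne_a g

theorem not_conj_az (g : G) : g * z * g⁻¹ ≠ a * z := S.not_conj_of (fun _ hh => S.comm_az hh) S.az_ne.1 S.az_ne.2 g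

/-- The central elements other than `z` are moved to `a` or `a z`. -/
theorem to_a_az {w : G} (hw : w ∈ S.ZJ) (h1 : w ≠ 1) (hz : w ≠ z) :
    ∃ k, Commute k z ∧ (k * w * k⁻¹ = a ∨ k * w * k⁻¹ = a * z) := by
  obtain ⟨v, hv, e⟩ := hw
  have hv1 : v ≠ 1 := by
    rintro rfl
    rcases e with e | e
    · exact h1 e
    · exact hz (e.trans (one_mul z))
  obtain ⟨k, hk, hka⟩ := S.to_a hv hv1
  refine ⟨k, hk, ?_⟩
  rcases e with e | e <;> rw [e]
  · exact Or.inl hka
  · exact Or.inr (by rw [conj_mul_eq, hka, conj_eq_iff.2 hk])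

/-- The involution is its only conjugate among the central elements. -/
theorem eq_z_of_ZJ {g : G} (h : g * z * g⁻¹ ∈ S.ZJ) : g * z * g⁻¹ = z := by
  by_contra hz
  obtain ⟨k, hk, e | e⟩ := S.to_a_az h (fun e => S.z_ne (conj_eq_one_iff.1 e)) hz
  · exact S.not_conj_a (k * g) (by rw [← e]; group)
  · exact S.not_conj_az (k * g) (by rw [← e]; group)

/-- A subgroup between the core and the centraliser is normalised only from the centraliser. -/
theorem norm_fix {R : Subgroup G} (hR : R ≤ centralizer ({z} : Set G)) (hJ : J ≤ R) {n : G}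
    (h1 : ∀ t ∈ R, n * t * n⁻¹ ∈ R) (h2 : ∀ t ∈ R, n⁻¹ * t * n ∈ R) : Commute n z := by
  have hy : n * z * n⁻¹ ∈ R := h1 z (hJ S.memJ)
  refine conj_eq_iff.1 (S.eq_z_of_ZJ (S.cent (comm_of_mem (hR hy)) fun q hq => ?_))
  have := ((comm_of_mem (hR (h2 q (hJ hq)))).symm).map (MulAut.conj n).toMonoidHom
  simpa [mul_assoc] using this

/-- A two-group of the centraliser of `a` containing Sylow groups of the centralisers above. -/
theorem exists_R : ∃ R : Subgroup G, R ≤ S.Ka ∧ J ≤ R ∧ IsPGroup 2 ↥R ∧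
    ∀ w : G, (∀ h ∈ S.Ka, Commute h w) → (∀ h, Commute h z → Commute h w → h ∈ S.Ka) →
      ∀ Q : Subgroup G, IsPGroup 2 ↥Q → (∀ q ∈ Q, Commute q w) →
        ∃ h, Commute h w ∧ ∀ q ∈ Q, h * q * h⁻¹ ∈ R := by
  classical
  haveI : Fact (Nat.Prime 2) := ⟨Nat.prime_two⟩
  obtain ⟨R, hR, hRp, hmax, hnorm⟩ := FiTwo.exists_max_two S.Ka
  have hJ : J ≤ R := hnorm J S.J_le_Ka S.J_two fun x hx q hq => S.conj_J (S.mem_Ka.1 hx).1 hq
  refine ⟨R, hR, hJ, hRp, fun w hw hback Q hQ hQw => ?_⟩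
  set X := centralizer ({w} : Set G)
  have hRX : R ≤ X := fun r hr => mem_centralizer_singleton_iff.2 (hw r (hR hr)).eq
  obtain ⟨T, hT⟩ := (hRp.of_equiv (Subgroup.subgroupOfEquivOfLe hRX).symm).exists_le_sylow
  set T' := (T : Subgroup ↥X).map X.subtype with hT'
  have hRT : R ≤ T' := fun r hr => ⟨⟨r, hRX hr⟩, hT hr, rfl⟩
  have hTR : T' ≤ R := by
    by_contra hne
    obtain ⟨n, hnT, hnR, hn⟩ := FiTwo.exists_normalizing (T.isPGroup'.map _) hRT hne
    have hz := S.norm_fix (le_trans hR inf_le_left) hJ (fun t ht => (hn t ht).1) fun t ht => (hn t ht).2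
    have hnX : n ∈ X := Subgroup.map_subtype_le _ hnT
    have hnK : n ∈ S.Ka := hback n hz (mem_centralizer_singleton_iff.1 hnX)
    exact hnR (hmax (T' ⊓ S.Ka) inf_le_right ((T.isPGroup'.map _).to_le inf_le_left) (le_inf hRT hR) ⟨hnT, hnK⟩)
  have hQX : Q ≤ X := fun q hq => mem_centralizer_singleton_iff.2 (hQw q hq).eq
  obtain ⟨T1, hT1⟩ := (hQ.of_equiv (Subgroup.subgroupOfEquivOfLe hQX).symm).exists_le_sylow
  obtain ⟨h, hh⟩ := MulAction.exists_smul_eq ↥X T1 T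
  refine ⟨h, mem_centralizer_singleton_iff.1 h.2, fun q hq => hTR ?_⟩
  have h1 : h * ⟨q, hQX hq⟩ * h⁻¹ ∈ ((h • T1 : Sylow 2 ↥X) : Subgroup ↥X) := ⟨⟨q, hQX hq⟩, hT1 hq, rfl⟩
  rw [hh] at h1
  exact ⟨_, h1, rfl⟩

/-- The two kinds of central involutions are not conjugate. -/
theorem a_not_az (g : G) : g * a * g⁻¹ ≠ a * z := by
  intro hg
  obtain ⟨R, hR, hJ, hRp, hsyl⟩ := S.exists_R
  obtain ⟨h, hh, hmem⟩ := hsyl (a * z) (fun _ hk => S.comm_az hk) (fun _ hk hk' => S.Ka_of_az hk hk')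
    (R.map (MulAut.conj g).toMonoidHom) (hRp.map _) (by
      rintro _ ⟨r, hr, rfl⟩
      have := ((S.mem_Ka.1 (hR hr)).2).map (MulAut.conj g).toMonoidHom
      rw [← hg]
      simpa using this)
  set n := h * g with hn
  have h1 : ∀ t ∈ R, n * t * n⁻¹ ∈ R := fun t ht => by
    have := hmem _ ⟨t, ht, rfl⟩
    rw [MulEquiv.coe_toMonoidHom, MulAut.conj_apply] at this
    rwa [show n * t * n⁻¹ = h * (g * t * g⁻¹) * h⁻¹ by rw [hn]; group]
  have heq : R.map (MulAut.conj n).toMonoidHom = R := Subgroup.eq_of_le_of_card_ge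
    (by rintro _ ⟨t, ht, rfl⟩; exact h1 t ht)
    (by rw [Subgroup.card_map_of_injective (MulAut.conj n).injective])
  have hnz := S.norm_fix (le_trans hR inf_le_left) hJ h1 fun t ht => by
    obtain ⟨s, hs, rfl⟩ := heq.symm.le ht
    rw [MulEquiv.coe_toMonoidHom, MulAut.conj_apply]
    rwa [show n⁻¹ * (n * s * n⁻¹) * n = s by group]
  have hv := S.conj_V hnz S.memAV
  rw [show n * a * n⁻¹ = a * z by
    rw [show n * a * n⁻¹ = h * (g * a * g⁻¹) * h⁻¹ by rw [hn]; group, hg]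
    exact conj_eq_iff.2 hh] at hv
  have := S.V.mul_mem (S.V.inv_mem S.memAV) hv
  rw [inv_mul_cancel_left] at this
  exact S.z_notV this

/-- A conjugate of `a` among the central elements is in the four-group. -/
theorem a_ZJ {g : G} (h : g * a * g⁻¹ ∈ S.ZJ) : g * a * g⁻¹ ∈ S.V := by
  have h1 : g * a * g⁻¹ ≠ 1 := fun e => S.a_ne (conj_eq_one_iff.1 e)
  have hz : g * a * g⁻¹ ≠ z := fun e => S.not_conj_a g⁻¹ (by rw [← e]; group)
  obtain ⟨k, hk, e | e⟩ := S.to_a_az h h1 hz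
  · have := S.conj_V hk.inv_left S.memAV
    have e2 : k⁻¹ * a * k⁻¹⁻¹ = g * a * g⁻¹ :=
      calc k⁻¹ * a * k⁻¹⁻¹ = k⁻¹ * (k * (g * a * g⁻¹) * k⁻¹) * k⁻¹⁻¹ := by rw [e]
        _ = _ := by group
    rwa [e2] at this
  · exact absurd (show k * g * a * (k * g)⁻¹ = a * z by rw [← e]; group) (S.a_not_az _)

/-- An element of odd order commuting with an involution and fixing its centraliser in the core centralises the
core. -/
theorem fixes_core {l v : G} (hl : Commute l z) (hodd : Odd (orderOf l)) (hv : Commute v z)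
    (hv2 : v * v = 1) (hlv : Commute l v) (hfix : ∀ q ∈ J, Commute v q → Commute l q) :
    ∀ q ∈ J, Commute l q := by
  have step : ∀ q ∈ J, Commute l (v * q * v⁻¹ * q⁻¹) → Commute l q := by
    intro q hq hm
    set m := v * q * v⁻¹ * q⁻¹ with hm'
    have evq : v * q * v⁻¹ = m * q := by rw [hm', inv_mul_cancel_right]
    set d := q⁻¹ * (l * q * l⁻¹)
    have hcJ : d ∈ J := mul_mem (inv_mem hq) (S.conj_J hl hq)
    have elq : l * q * l⁻¹ = q * d := (mul_inv_cancel_left q _).symm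
    have evlq : v * (l * q * l⁻¹) * v⁻¹ = m * (l * q * l⁻¹) := by
      calc v * (l * q * l⁻¹) * v⁻¹ = (v * l) * q * (v * l)⁻¹ := by group
        _ = (l * v) * q * (l * v)⁻¹ := by rw [hlv.eq]
        _ = l * (v * q * v⁻¹) * l⁻¹ := by group
        _ = (l * m * l⁻¹) * (l * q * l⁻¹) := by rw [evq]; group
        _ = _ := by rw [hm.eq, mul_inv_cancel_right]
    have hvc : Commute v d := by
      refine mul_inv_eq_iff_eq_mul.1 ?_
      calc v * d * v⁻¹ = (v * q * v⁻¹)⁻¹ * (v * (l * q * l⁻¹) * v⁻¹) := by show v * (q⁻¹ * _) * v⁻¹ = _; group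
        _ = _ := by rw [evq, evlq]; show (m * q)⁻¹ * (m * (l * q * l⁻¹)) = q⁻¹ * (l * q * l⁻¹); group
    have hlc := hfix d hcJ hvc
    have hpow : ∀ n : ℕ, l ^ n * q * (l ^ n)⁻¹ = q * d ^ n := fun n => by
      induction n with
      | zero => simp
      | succ n ih =>
        calc l ^ (n + 1) * q * (l ^ (n + 1))⁻¹ = l * (l ^ n * q * (l ^ n)⁻¹) * l⁻¹ := by rw [pow_succ']; group
          _ = (l * q * l⁻¹) * (l * d ^ n * l⁻¹) := by rw [ih]; group
          _ = q * d ^ (n + 1) := by rw [elq, (hlc.pow_right n).eq, mul_inv_cancel_right, mul_assoc, ← pow_succ']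
    have hn := hpow (orderOf l)
    rw [pow_orderOf_eq_one, one_mul, inv_one, mul_one, eq_comm, mul_eq_left] at hn
    have hc1 : d = 1 := by
      rw [← orderOf_eq_one_iff]
      exact Nat.eq_one_of_dvd_coprimes ((Nat.coprime_two_right.2 hodd).pow_right 2)
        (orderOf_dvd_of_pow_eq_one hn) (orderOf_dvd_of_pow_eq_one (S.pow_four hcJ))
    rw [hc1, mul_one] at elq
    exact mul_inv_eq_iff_eq_mul.1 elq
  intro q hq
  refine step q hq ?_
  set m := v * q * v⁻¹ * q⁻¹ with hm'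
  have hmJ : m ∈ J := mul_mem (S.conj_J hv hq) (inv_mem hq)
  refine step m hmJ ?_
  have e : v * m * v⁻¹ * m⁻¹ = (m * m)⁻¹ := by
    rw [hm']
    simp only [inv_eq_of_mul_eq_one_left hv2, mul_inv_rev, inv_inv, mul_assoc]
    simp only [← mul_assoc, hv2, one_mul]
  rw [e]
  rcases S.sq hmJ with h | h <;> rw [h]
  · simp
  · rw [S.z_inv]; exact hl

/-- An involution isolated under the centraliser of `v` is central in its part of the centraliser of `z`. -/
theorem central_part {y v : G} (hyz : Commute y z) (hy : orderOf y = 2) (hvz : Commute v z)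
    (hv : v * v = 1) (hyv : Commute y v) (hi : Iso y v) {k : G} (hk : Commute k z) (hkv : Commute k v) :
    Commute y k := by
  set K := centralizer ({v} : Set G)
  let yK : ↥K := ⟨y, mem_centralizer_singleton_iff.2 hyv.eq⟩
  have hiso : Cfsg.IsIsolatedInvolution yK := by
    refine ⟨by rw [← hy]; exact (orderOf_injective K.subtype K.subtype_injective yK).symm, fun g hg => Subtype.ext ?_⟩
    exact hi g (mem_centralizer_singleton_iff.1 g.2) (congrArg Subtype.val hg).symm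
  have hl := Cfsg.Lib.ZStarApps.zstarProp hiso ⟨k, mem_centralizer_singleton_iff.2 hkv.eq⟩
  set lK := yK * (⟨k, mem_centralizer_singleton_iff.2 hkv.eq⟩ : ↥K) * yK⁻¹ *
    (⟨k, mem_centralizer_singleton_iff.2 hkv.eq⟩ : ↥K)⁻¹ with hlK
  set l := y * k * y⁻¹ * k⁻¹ with hl'
  have hlz : Commute l z := ((hyz.mul_left hk).mul_left hyz.inv_left).mul_left hk.inv_left
  have hlv : Commute l v := ((hyv.mul_left hkv).mul_left hyv.inv_left).mul_left hkv.inv_left
  have oddof : ∀ x : ↥K, x ∈ Cfsg.pPrimeCore 2 ↥K → Odd (orderOf (x : G)) := fun x hx => by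
    rw [show orderOf (x : G) = orderOf (⟨x, hx⟩ : ↥(Cfsg.pPrimeCore 2 ↥K)) from
      (orderOf_injective K.subtype K.subtype_injective x).trans
        (orderOf_injective (Cfsg.pPrimeCore 2 ↥K).subtype (Subgroup.subtype_injective _) ⟨x, hx⟩)]
    exact (Cfsg.Lib.ZStarApps.odd_card_pPrimeCore (G := ↥K)).of_dvd_nat (orderOf_dvd_natCard _)
  have hfix : ∀ q ∈ J, Commute l q := by
    refine S.fixes_core hlz (oddof _ hl) hvz hv hlv fun q hq hqv => ?_
    let qK : ↥K := ⟨q, mem_centralizer_singleton_iff.2 hqv.eq.symm⟩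
    have hm : lK * qK * lK⁻¹ * qK⁻¹ ∈ Cfsg.pPrimeCore 2 ↥K := by
      rw [show lK * qK * lK⁻¹ * qK⁻¹ = lK * (qK * lK⁻¹ * qK⁻¹) by group]
      exact mul_mem hl (Subgroup.Normal.conj_mem inferInstance _ (inv_mem hl) _)
    have hr : l * q * l⁻¹ * q⁻¹ ∈ J := mul_mem (S.conj_J hlz hq) (inv_mem hq)
    have h1 : orderOf (l * q * l⁻¹ * q⁻¹) = 1 := Nat.eq_one_of_dvd_coprimes
      ((Nat.coprime_two_right.2 (oddof _ hm)).pow_right 2) dvd_rfl (orderOf_dvd_of_pow_eq_one (S.pow_four hr))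
    exact mul_inv_eq_iff_eq_mul.1 (mul_inv_eq_one.1 (orderOf_eq_one_iff.1 h1))
  have hl1 : l = 1 := by
    have hodd := oddof _ hl
    have h2 : l * l = 1 := S.ZJ_sq (S.cent hlz hfix)
    exact orderOf_eq_one_iff.1 (Nat.eq_one_of_dvd_coprimes ((Nat.coprime_two_right.2 hodd).pow_right 1) dvd_rfl
      (orderOf_dvd_of_pow_eq_one (by rw [pow_one, pow_two]; exact h2)))
  exact mul_inv_eq_iff_eq_mul.1 (mul_inv_eq_one.1 hl1)

/-- No conjugate of the four-group commutes with `z` and `a` outside the centre under this hypothesis. -/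
theorem no_conj (g : G) (hK : ∀ x ∈ S.V, g * x * g⁻¹ ∈ S.Ka) (hn : ∀ x ∈ S.V, x ≠ 1 → g * x * g⁻¹ ∉ S.ZJ)
    (hnorm : ∀ r ∈ S.Ka, ∀ x ∈ S.V, x ≠ 1 → Commute r (g * x * g⁻¹) →
      ∀ x' ∈ S.V, ∃ x'' ∈ S.V, r * (g * x' * g⁻¹) * r⁻¹ = g * x'' * g⁻¹) : False := by
  obtain ⟨d⟩ := S.exists_nc
  have hab : g * a * g⁻¹ * (g * b * g⁻¹) = g * (a * b) * g⁻¹ := (conj_mul_eq g a b).symm
  have act : ∀ r ∈ S.Ka, ∀ x ∈ S.V, x ≠ 1 → Commute r (g * x * g⁻¹) → ∀ x' ∈ S.V, x' ≠ 1 → x' ≠ x →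
      ∃ x'' ∈ S.V, x'' ≠ 1 ∧ x'' ≠ x ∧ r * (g * x' * g⁻¹) * r⁻¹ = g * x'' * g⁻¹ := by
    intro r hr x hx hx1 hrx x' hx' h1 h2
    obtain ⟨x'', hx'', e⟩ := hnorm r hr x hx hx1 hrx x' hx'
    refine ⟨x'', hx'', fun e' => ?_, fun e' => ?_, e⟩
    · rw [e', mul_one, mul_inv_cancel, conj_eq_one_iff, conj_eq_one_iff] at e
      exact h1 e
    · rw [e', ← conj_eq_iff.2 hrx] at e
      exact h2 (mul_left_cancel (mul_right_cancel (mul_left_cancel (mul_right_cancel e))))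
  have hneB : b ≠ a * b := fun e => S.a_ne (right_eq_mul.1 e)
  have hneA : a ≠ a * b := fun e => S.b_ne (left_eq_mul.1 e)
  have hab' : a * b ∈ S.V := S.V.mul_mem S.memAV S.memBV
  refine S.no_ctx d (x := g * a * g⁻¹) (y := g * b * g⁻¹)
    { xK := hK a S.memAV
      yK := hK b S.memBV
      xy := S.comAB.map (MulAut.conj g).toMonoidHom
      x2 := conj_sq' S.sqa g
      y2 := conj_sq' S.sqb g
      nx := hn a S.memAV S.a_ne
      ny := hn b S.memBV S.b_ne
      nxy := by rw [hab]; exact hn _ hab' S.abp_ne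
      fx := fun r hr h => ?_
      fy := fun r hr h => ?_
      fxy := fun r hr h => ?_ }
  · rw [hab]
    obtain ⟨x'', hx'', n1, n2, e⟩ := act r hr a S.memAV S.a_ne h b S.memBV S.b_ne S.ab_ne
    rcases S.mem_V.1 hx'' with q | q | q | q <;> subst q
    exacts [absurd rfl n1, absurd rfl n2, Or.inl e, Or.inr e]
  · rw [hab]
    obtain ⟨x'', hx'', n1, n2, e⟩ := act r hr b S.memBV S.b_ne h a S.memAV S.a_ne S.ab_ne.symm
    rcases S.mem_V.1 hx'' with q | q | q | q <;> subst q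
    exacts [absurd rfl n1, Or.inl e, absurd rfl n2, Or.inr e]
  · rw [hab] at h
    obtain ⟨x'', hx'', n1, n2, e⟩ := act r hr (a * b) hab' S.abp_ne h a S.memAV S.a_ne hneA
    rcases S.mem_V.1 hx'' with q | q | q | q <;> subst q
    exacts [absurd rfl n1, Or.inl e, Or.inr e, absurd rfl n2]

end Setting

end Cfsg.Lib.FiThree
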