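import Cfsg.Agent.FiThreeCentral.Coords

/-!
# Coordinates exist
-/

set_option autoImplicit false
set_option Elab.async false
set_option maxRecDepth 100000
set_option linter.style.haveILetI false
set_option linter.unusedSectionVars false

namespace Cfsg.Lib.FiThree

open Subgroup Cfsg.Lib.USixType

universe u v

variable {G : Type u} [Group G] [Finite G] {P : Type v} [Group P]

/-- The centraliser of `z` and `a` modulo the four-group. -/
abbrev KV {z a b c : G} {J E : Subgroup G} (S : Setting z a b c J E P) : Type u :=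
  ↥S.Ka ⧸ S.V.subgroupOf S.Ka

open _root_.Classical in
/-- The image of an element. -/
noncomputable def qb {z a b c : G} {J E : Subgroup G} (S : Setting z a b c J E P) (x : G) : KV S :=
  if h : x ∈ S.Ka then QuotientGroup.mk ⟨x, h⟩ else 1

namespace Setting

variable {z a b c : G} {J E : Subgroup G} (S : Setting z a b c J E P)

/-- The core modulo the four-group. -/
noncomputable def JV : Subgroup (KV S) := (J.subgroupOf S.Ka).map (QuotientGroup.mk' _)

include S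

theorem qb_def {x : G} (h : x ∈ S.Ka) : qb S x = QuotientGroup.mk ⟨x, h⟩ := dif_pos h

theorem qb_surj (k : KV S) : ∃ x ∈ S.Ka, qb S x = k := by
  obtain ⟨x, rfl⟩ := QuotientGroup.mk_surjective k
  exact ⟨x, x.2, S.qb_def x.2⟩

theorem qb_mul {x y : G} (hx : x ∈ S.Ka) (hy : y ∈ S.Ka) : qb S (x * y) = qb S x * qb S y := by
  rw [S.qb_def (mul_mem hx hy), S.qb_def hx, S.qb_def hy]
  rfl

theorem qb_inv {x : G} (hx : x ∈ S.Ka) : qb S x⁻¹ = (qb S x)⁻¹ := by
  rw [S.qb_def (inv_mem hx), S.qb_def hx]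
  rfl

theorem qb_one : qb S (1 : G) = 1 := by rw [S.qb_def (one_mem _)]; rfl

theorem qb_conj {x y : G} (hx : x ∈ S.Ka) (hy : y ∈ S.Ka) :
    qb S (x * y * x⁻¹) = qb S x * qb S y * (qb S x)⁻¹ := by
  rw [S.qb_mul (mul_mem hx hy) (inv_mem hx), S.qb_mul hx hy, S.qb_inv hx]

theorem qb_comm {x y : G} (hx : x ∈ S.Ka) (hy : y ∈ S.Ka) :
    qb S (x * y * x⁻¹ * y⁻¹) = qb S x * qb S y * (qb S x)⁻¹ * (qb S y)⁻¹ := by
  rw [S.qb_mul (mul_mem (mul_mem hx hy) (inv_mem hx)) (inv_mem hy), S.qb_conj hx hy, S.qb_inv hy]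

theorem qb_eq_one {x : G} (hx : x ∈ S.Ka) : qb S x = 1 ↔ x ∈ S.V := by
  rw [S.qb_def hx, QuotientGroup.eq_one_iff]
  exact Iff.rfl

theorem qb_eq {x y : G} (hx : x ∈ S.Ka) (hy : y ∈ S.Ka) : qb S x = qb S y ↔ x⁻¹ * y ∈ S.V := by
  rw [← inv_mul_eq_one, ← S.qb_inv hx, ← S.qb_mul (inv_mem hx) hy, S.qb_eq_one (mul_mem (inv_mem hx) hy)]

theorem z_Ka : z ∈ S.Ka := S.J_le_Ka S.memJ

theorem qb_z_ne : qb S z ≠ 1 := fun e => S.z_notV ((S.qb_eq_one S.z_Ka).1 e)

theorem qb_z_sq : qb S z * qb S z = 1 := by rw [← S.qb_mul S.z_Ka S.z_Ka, S.z_sq, S.qb_one]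

theorem qb_z_iff {x : G} (hx : x ∈ S.Ka) : qb S x = 1 ∨ qb S x = qb S z ↔ x ∈ S.ZJ := by
  rw [S.qb_eq_one hx, eq_comm (a := qb S x), S.qb_eq S.z_Ka hx, S.z_inv]
  constructor
  · rintro (h | h)
    · exact S.V_le_ZJ h
    · have := S.ZJ.mul_mem S.z_ZJ (S.V_le_ZJ h)
      rwa [← mul_assoc, S.z_sq, one_mul] at this
  · rintro ⟨v, hv, e | e⟩ <;> rw [e]
    · exact Or.inl hv
    · refine Or.inr ?_
      rw [← (S.commJ (mul_mem (S.V_le hv) S.memJ)).eq, mul_assoc, S.z_sq, mul_one]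
      exact hv

theorem qb_mem_JV {q : G} (hq : q ∈ J) : qb S q ∈ S.JV := ⟨⟨q, S.J_le_Ka hq⟩, hq, (S.qb_def _).symm⟩

theorem exists_qb {k : KV S} (hk : k ∈ S.JV) : ∃ q ∈ J, qb S q = k := by
  obtain ⟨q, hq, rfl⟩ := hk
  exact ⟨q, hq, S.qb_def q.2⟩

theorem mem_of_qb {x : G} (hx : x ∈ S.Ka) (h : qb S x ∈ S.JV) : x ∈ J := by
  obtain ⟨q, hq, e⟩ := S.exists_qb h
  have h1 := mul_mem hq (S.V_le ((S.qb_eq (S.J_le_Ka hq) hx).1 e))
  rwa [mul_inv_cancel_left] at h1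

theorem cent_all (k : KV S) : Commute k (qb S z) := by
  obtain ⟨x, hx, rfl⟩ := S.qb_surj k
  show _ * _ = _ * _
  rw [← S.qb_mul hx S.z_Ka, ← S.qb_mul S.z_Ka hx, (S.mem_Ka.1 hx).1.eq]

/-- The core below is isomorphic to the complement. -/
noncomputable def equivE : ↥E ≃* ↥S.JV :=
  MulEquiv.ofBijective
    ({ toFun := fun e => ⟨qb S (e : G), S.qb_mem_JV (S.leE e.2)⟩
       map_one' := Subtype.ext S.qb_one
       map_mul' := fun p q => Subtype.ext (S.qb_mul (S.J_le_Ka (S.leE p.2)) (S.J_le_Ka (S.leE q.2))) } : ↥E →* ↥S.JV)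
    ⟨fun p q e => Subtype.ext (inv_mul_eq_one.1 (S.mem_E_of ((S.qb_eq (S.J_le_Ka (S.leE p.2))
        (S.J_le_Ka (S.leE q.2))).1 (congrArg Subtype.val e)) (mul_mem (inv_mem p.2) q.2))),
      fun k => by
        obtain ⟨q, hq, e⟩ := S.exists_qb k.2
        obtain ⟨x, hx, f, hf, rfl⟩ := S.exE hq
        refine ⟨⟨f, hf⟩, Subtype.ext ?_⟩
        show qb S f = _
        rw [← e, S.qb_mul (S.J_le_Ka (S.V_le hx)) (S.J_le_Ka (S.leE hf)), (S.qb_eq_one (S.J_le_Ka (S.V_le hx))).2 hx,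
          one_mul]⟩

/-- The map to the automorphisms below. -/
noncomputable def fV : KV S →* MulAut P :=
  QuotientGroup.lift _ S.fa fun x hx => (S.fa_ker x).2 (S.V_le hx)

theorem fV_qb {x : G} (hx : x ∈ S.Ka) : S.fV (qb S x) = S.fa ⟨x, hx⟩ := by
  rw [S.qb_def hx]
  rfl

/-- The hypotheses below. -/
noncomputable def outerSetting : Ext.OuterSetting (qb S z) S.JV P where
  order := orderOf_eq_prime (by rw [pow_two, S.qb_z_sq]) S.qb_z_ne
  le := fun k _ => mem_centralizer_singleton_iff.2 (S.cent_all k).eq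
  norm := fun k _ => Cfsg.Lib.ZStarApps.mem_normalizer_of_maps fun d hd => by
    obtain ⟨x, hx, rfl⟩ := S.qb_surj k
    obtain ⟨q, hq, rfl⟩ := S.exists_qb hd
    rw [← S.qb_conj hx (S.J_le_Ka hq)]
    exact S.qb_mem_JV (S.conj_J (S.mem_Ka.1 hx).1 hq)
  extra := Ext.extraspecial_congr S.equivE S.extra
  card := by rw [← Nat.card_congr S.equivE.toEquiv, S.cardE]
  mem := S.qb_mem_JV S.memJ
  self := fun k _ h => by
    obtain ⟨x, hx, rfl⟩ := S.qb_surj k
    refine S.qb_mem_JV (S.mem_of_shift hx fun q hq => S.V_le_ZJ ?_)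
    rw [← S.qb_eq_one (mul_mem (mul_mem (mul_mem hx (S.J_le_Ka hq)) (inv_mem hx)) (inv_mem (S.J_le_Ka hq))),
      S.qb_comm hx (S.J_le_Ka hq), h _ (S.qb_mem_JV hq), mul_inv_cancel_right, mul_inv_cancel]
  iso := S.iso
  autCard := S.autCard
  f := S.fV.comp (Subgroup.subtype _)
  surj := fun g => by
    obtain ⟨x, rfl⟩ := S.fa_surj g
    exact ⟨⟨qb S (x : G), mem_centralizer_singleton_iff.2 (S.cent_all _).eq⟩, S.fV_qb x.2⟩
  ker := fun k => by
    obtain ⟨x, hx, e⟩ := S.qb_surj (k : KV S)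
    show S.fV (k : KV S) = 1 ↔ _
    rw [← e, S.fV_qb hx, S.fa_ker]
    exact ⟨S.qb_mem_JV, S.mem_of_qb hx⟩

theorem outer_noFix : S.outerSetting.NoFix := by
  intro k hk h
  obtain ⟨q, hq, rfl⟩ := S.exists_qb hk
  have hz : ∀ {w : KV S}, w ∈ zpowers (qb S z) ↔ w = 1 ∨ w = qb S z := fun {w} =>
    ⟨fun hw => Ext.eq_one_or_of_zpowers S.qb_z_sq hw, fun hw => hw.elim (fun e => e ▸ one_mem _)
      fun e => e ▸ mem_zpowers _⟩
  refine hz.2 ((S.qb_z_iff (S.J_le_Ka hq)).2 (S.noFix hq fun i hi => ?_))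
  have hiK := S.inner_le_Ka hi
  refine (S.qb_z_iff (mul_mem (mul_mem (mul_mem hiK (S.J_le_Ka hq)) (inv_mem hiK)) (inv_mem (S.J_le_Ka hq)))).1 ?_
  rw [S.qb_comm hiK (S.J_le_Ka hq)]
  refine hz.1 (h _ ⟨⟨qb S i, mem_centralizer_singleton_iff.2 (S.cent_all _).eq⟩, ?_, rfl⟩)
  show S.fV (qb S i) ∈ (MulAut.conj : P →* MulAut P).range
  rw [S.fV_qb hiK]
  exact (S.inner_iff ⟨i, hiK⟩).1 hi

theorem eq_zp {w : G} (hw : w = 1 ∨ w = z) {s : Bool} (e : qb S w = zp (qb S z) s) : w = zp z s := by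
  rcases hw with rfl | rfl <;> cases s <;> simp only [zp, if_true, Bool.false_eq_true, if_false] at e ⊢
  · exact absurd (S.qb_one.symm.trans e) S.qb_z_ne.symm
  · exact absurd e S.qb_z_ne

/-- Coordinates exist. -/
theorem exists_nc : Nonempty (NC S) := by
  classical
  obtain ⟨d⟩ := Ext.exists_ecoord S.outerSetting S.outer_noFix
  have hC : ∀ x, Commute (qb S x) (qb S z) := fun x => S.cent_all _
  have hmul : ∀ h ∈ S.Ka, ∀ k ∈ S.Ka, d.π (qb S (h * k)) = d.π (qb S h) * d.π (qb S k) := fun h hh k hk => by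
    rw [S.qb_mul hh hk, d.π_mul _ _ (hC h) (hC k)]
  have hker : ∀ h ∈ S.Ka, d.π (qb S h) = 1 ↔ h ∈ J := fun h hh =>
    (d.π_ker _ (hC h)).trans ⟨S.mem_of_qb hh, S.qb_mem_JV⟩
  have hone : d.π (qb S 1) = 1 := (hker 1 (one_mem _)).2 (one_mem _)
  haveI := S.finiteP
  haveI : Finite (MulAut P) := Finite.of_injective (fun a : MulAut P => (a : P → P)) DFunLike.coe_injective
  let Q : Subgroup ↥S.Ka :=
    { carrier := {h | d.π (qb S (h : G)) ∈ U}
      one_mem' := by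
        show d.π (qb S 1) ∈ U
        rw [hone]; exact one_mem U
      mul_mem' := fun {p q} hp hq => by
        show d.π (qb S ((p : G) * q)) ∈ U
        rw [hmul _ p.2 _ q.2]; exact mul_mem hp hq
      inv_mem' := fun {p} hp => by
        show d.π (qb S (p : G)⁻¹) ∈ U
        have e := hmul _ (inv_mem p.2) _ p.2
        rw [inv_mul_cancel, hone] at e
        rw [eq_inv_of_mul_eq_one_left e.symm]
        exact inv_mem hp }
  have hQidx : Q.index = 2 := by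
    obtain ⟨k, -, hk, -, -⟩ := d.outer
    obtain ⟨o, ho, rfl⟩ := S.qb_surj k
    have hno : d.π (qb S o) ∉ U := fun e => Ext.not_lin_semi (lin_of_mem e) hk
    refine Subgroup.index_eq_two_iff.2 ⟨⟨o, ho⟩, fun h => ?_⟩
    show Xor (d.π (qb S ((h : G) * o)) ∈ U) (d.π (qb S (h : G)) ∈ U)
    by_cases hh : d.π (qb S (h : G)) ∈ U
    · refine Or.inr ⟨hh, fun e => hno ?_⟩
      rw [hmul _ h.2 _ ho] at e
      exact (U.mul_mem_cancel_left hh).1 e
    · refine Or.inl ⟨?_, hh⟩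
      rw [S.qb_mul h.2 ho]
      exact d.π_semi _ _ (hC _) (hC _) hh hno
  have hkerQ : S.fa.ker ≤ Q := fun q hq => by
    show d.π (qb S (q : G)) ∈ U
    rw [(hker _ q.2).2 ((S.fa_ker q).1 hq)]
    exact one_mem U
  have hQ : ∀ h : ↥S.Ka, h ∈ Q ↔ (h : G) ∈ S.inner := fun h => by
    have heq : (MulAut.conj : P →* MulAut P).range = Q.map S.fa := by
      refine Subgroup.eq_of_le_of_card_ge
        (FiTwo.inner_le S.iso.some ((Q.index_map_eq S.fa_surj hkerQ).trans hQidx).le) ?_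
      have h1 := (Q.map S.fa).card_mul_index
      rw [Q.index_map_eq S.fa_surj hkerQ, hQidx, S.autCard] at h1
      rw [FiTwo.card_inner S.iso.some]
      omega
    rw [S.inner_iff h, heq, ← Subgroup.mem_comap, Subgroup.comap_map_eq, sup_eq_left.2 hkerQ]
  exact ⟨
    { β := fun q => d.β (qb S q)
      π := fun h => d.π (qb S h)
      β_mul := fun p hp q hq => by
        show d.β (qb S (p * q)) = _
        rw [S.qb_mul (S.J_le_Ka hp) (S.J_le_Ka hq), d.β_mul _ (S.qb_mem_JV hp) _ (S.qb_mem_JV hq)]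
      β_surj := fun v => by
        obtain ⟨k, hk, e⟩ := d.β_surj v
        obtain ⟨q, hq, rfl⟩ := S.exists_qb hk
        exact ⟨q, hq, e⟩
      β_ker := fun q hq => by
        show d.β (qb S q) = 0 ↔ _
        rw [d.β_ker _ (S.qb_mem_JV hq), S.qb_z_iff (S.J_le_Ka hq)]
      sq := fun q hq => S.eq_zp (S.sq hq) (by
        rw [S.qb_mul (S.J_le_Ka hq) (S.J_le_Ka hq), d.sq _ (S.qb_mem_JV hq)])
      comm := fun p hp q hq => S.eq_zp (S.comm hp hq) (by
        rw [S.qb_comm (S.J_le_Ka hp) (S.J_le_Ka hq), d.comm _ (S.qb_mem_JV hp) _ (S.qb_mem_JV hq)])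
      π_mem := fun h _ => d.π_mem _ (hC h)
      π_semi := fun h hh k hk e e' => by
        show d.π (qb S (h * k)) ∈ U
        rw [S.qb_mul hh hk]
        exact d.π_semi _ _ (hC h) (hC k) e e'
      π_mul := hmul
      π_ker := hker
      π_inn := fun h hh e => (hQ ⟨h, hh⟩).1 e
      π_surj := fun g hg => by
        obtain ⟨k, -, e⟩ := d.π_surj g hg
        obtain ⟨x, hx, rfl⟩ := S.qb_surj k
        refine ⟨x, (hQ ⟨x, hx⟩).1 ?_, e⟩
        show d.π (qb S x) ∈ U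
        rw [e]; exact hg
      equiv := fun h hh q hq => by
        show d.β (qb S (h * q * h⁻¹)) = _
        rw [S.qb_conj hh (S.J_le_Ka hq)]
        exact d.equiv _ (hC h) _ (S.qb_mem_JV hq) }⟩

end Setting

end Cfsg.Lib.FiThree
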