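import Cfsg.Agent.FiThreeCentral.Struct
import Cfsg.Agent.FiThreeCentral.Build

/-!
# Four-group times extraspecial core below the automorphisms of the symplectic group
-/

set_option autoImplicit false
set_option Elab.async false
set_option linter.style.haveILetI false
set_option linter.unusedSectionVars false

namespace Cfsg.Lib.FiThree

open Subgroup Cfsg.Lib.USixType
open Cfsg.Lib.FiTwo (Iso)

universe u v w

variable {G : Type u} [Group G] [Finite G]

/-- The three conclusions in a setting. -/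
theorem outcome {F : Type v} [Field F] [Fintype F] (hF : Fintype.card F = 3) {K : Type w} [Field K] [Fintype K]
    (hK : Fintype.card K = 4) {z a b c : G} {J E : Subgroup G} (S : Setting z a b c J E (Cfsg.PSp 2 F)) :
    centralizer ({z} : Set G) ⊔ Cfsg.oddCore G = ⊤ ∨ Cfsg.Spor.IsoFi23 G ∨
      (∃ (W : Subgroup G) (hW : W.Normal), Nat.card ↥W = 4 ∧ (∀ w ∈ W, w ^ 2 = 1) ∧
        Nonempty ((G ⧸ W) ≃* MulAut (Cfsg.PSU 6 K 2))) := by
  have caseA : Iso z a → Iso z (a * z) → centralizer ({z} : Set G) ⊔ Cfsg.oddCore G = ⊤ := fun h1 h2 =>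
    Ext.sup_oddCore ⟨S.order, fun g hg => S.isolated h1 h2 g hg.symm⟩
  rcases S.reduce hF hK (v := a * z) (Or.inr rfl) with hz' | ⟨x, hx, h1, h2, hall, -⟩ | h
  · have hiaz : Iso z (a * z) := S.iso_of_sup (Or.inr rfl) hz'
    rcases S.reduce hF hK (v := a) (Or.inl rfl) with h | ⟨x, hx, h1, h2, hall, G₀, hG, hidx, hn, hiso⟩ | h
    · exact Or.inl (caseA (S.iso_of_sup (Or.inl rfl) h) hiaz)
    · rcases S.two_a hiaz hx h1 h2 hall G₀ hG hidx hn hiso with h | ⟨hNa, G₁, hb, hi, hn', ⟨i⟩⟩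
      · exact Or.inl (caseA h hiaz)
      · exact Or.inr (Or.inr (S.structureB hK hNa (fun g hg => S.N_az hNa hz' hg) G₁ hb hi hn' i))
    · exact Or.inr (Or.inl (Setting.fi23 S (Or.inl rfl) h))
  · exact (S.no_two rfl hx h1 h2 hall).elim
  · exact Or.inr (Or.inl (Setting.fi23 S (Or.inr rfl) h))

end Cfsg.Lib.FiThree
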