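import Cfsg.Agent.FiThreeCentral.CaseB
import Cfsg.Agent.FiTwoCentral.Main
import Cfsg.Agent.FiTwoCentral.Recog
import Cfsg.Agent.M23Rec.Main
import Cfsg.Agent.FiPres.Simple
import Cfsg.Agent.Components.Cores
import Cfsg.Agent.S0058

/-!
# The centralisers of the central involutions modulo them
-/

set_option autoImplicit false
set_option Elab.async false
set_option maxRecDepth 100000
set_option linter.style.haveILetI false
set_option linter.unusedSectionVars false

namespace Cfsg.Lib.FiThree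

open Subgroup Cfsg.Lib.USixType
open Cfsg.Lib.FiTwo (Iso KQ bar bar_def bar_surj bar_mul bar_inv bar_one bar_comm bar_conj bar_eq bar_eq_one)

universe u v w

variable {G : Type u} [Group G] [Finite G] {z a b c : G} {J E : Subgroup G}

namespace Setting

section
variable {P : Type v} [Group P] (S : Setting z a b c J E P) {v : G} (hv : v = a ∨ v = a * z)
include S hv

theorem v_ZJ : v ∈ S.ZJ := by
  rcases hv with e | e <;> rw [e]
  exacts [S.V_le_ZJ S.memAV, S.ZJ.mul_mem (S.V_le_ZJ S.memAV) S.z_ZJ]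

theorem v_J : v ∈ J := S.ZJ_le (S.v_ZJ hv)

theorem v_sq : v * v = 1 := S.ZJ_sq (S.v_ZJ hv)

theorem v_comm {q : G} (hq : q ∈ J) : Commute q v := S.ZJ_comm (S.v_ZJ hv) hq

theorem v_ne : v ≠ 1 ∧ v ≠ z := by
  rcases hv with e | e <;> rw [e]
  exacts [⟨S.a_ne, S.z_ne_a⟩, S.az_ne]

theorem v_Ka {h : G} (hh : h ∈ S.Ka) : Commute h v := by
  rcases hv with e | e <;> rw [e]
  exacts [(S.mem_Ka.1 hh).2, S.comm_az hh]

theorem v_back {h : G} (hz : Commute h z) (h' : Commute h v) : h ∈ S.Ka := by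
  rcases hv with e | e <;> rw [e] at h'
  exacts [S.mem_Ka.2 ⟨hz, h'⟩, S.Ka_of_az hz h']

theorem not_zv (g : G) : g * z * g⁻¹ ≠ z * v := by
  rcases hv with e | e <;> rw [e]
  · rw [← (S.comA z S.memJ).eq]
    exact S.not_conj_az g
  · rw [(S.comA z S.memJ).eq, ← mul_assoc, S.z_sq, one_mul]
    exact S.not_conj_a g

theorem v_notE : v ∉ E := by
  intro h
  rcases hv with e | e <;> rw [e] at h
  · exact S.a_ne (S.disj a S.memAV h)
  · refine S.a_ne (S.disj a S.memAV ?_)
    have := mul_mem h S.memE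
    rwa [mul_assoc, S.z_sq, mul_one] at this

theorem bv_notE : b * v ∉ E := by
  intro h
  rcases hv with e | e <;> rw [e] at h
  · rw [← S.comAB.eq] at h
    exact S.abp_ne (S.disj _ (S.V.mul_mem S.memAV S.memBV) h)
  · refine S.abp_ne (S.disj _ (S.V.mul_mem S.memAV S.memBV) ?_)
    have := mul_mem h S.memE
    rwa [← mul_assoc b a z, mul_assoc _ z z, S.z_sq, mul_one, ← S.comAB.eq] at this

theorem bar_commute {x : G} (hx : Commute x v) : Commute (bar v x) (bar v z) ↔ Commute x z := by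
  have hzv : Commute z v := (S.v_comm hv S.memJ)
  refine ⟨fun h => ?_, fun h => ?_⟩
  · have e : bar v z = bar v (x * z * x⁻¹) := by
      rw [bar_conj hx hzv, h.eq, mul_inv_cancel_right]
    rcases (bar_eq (S.v_sq hv) hzv ((hx.mul_left hzv).mul_left hx.inv_left)).1 e with h' | h'
    · exact mul_inv_eq_iff_eq_mul.1 h'
    · exact absurd h' (S.not_zv hv x)
  · show bar v x * bar v z = bar v z * bar v x
    rw [← bar_mul hx hzv, ← bar_mul hzv hx, h.eq]

theorem bar_z_order : orderOf (bar v z) = 2 := by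
  refine orderOf_eq_prime (by rw [pow_two, ← bar_mul (S.v_comm hv S.memJ) (S.v_comm hv S.memJ), S.z_sq, bar_one])
    fun e => ?_
  rcases (bar_eq_one (S.v_sq hv) (S.v_comm hv S.memJ)).1 e with h | h
  · exact S.z_ne h
  · exact (S.v_ne hv).2 h.symm

/-- An isolated image gives isolation under the centraliser. -/
theorem iso_of_sup (h : centralizer ({bar v z} : Set (KQ v)) ⊔ Cfsg.oddCore (KQ v) = ⊤) : Iso z v := by
  intro g hg hc
  have hzv : Commute z v := S.v_comm hv S.memJ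
  have hcv : Commute (g * z * g⁻¹) v := (hg.mul_left hzv).mul_left hg.inv_left
  have := FiTwo.isolated_of_sup (S.bar_z_order hv) h (bar v g) (by
    rw [← bar_conj hg hzv]
    exact (S.bar_commute hv hcv).2 hc)
  rw [← bar_conj hg hzv] at this
  rcases (bar_eq (S.v_sq hv) hzv hcv).1 this.symm with e | e
  · exact e
  · exact absurd e (S.not_zv hv g)

end

section
variable {F : Type v} [Field F] [Fintype F] {K : Type w} [Field K] [Fintype K]

set_option maxHeartbeats 1000000 in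
/-- The three outcomes modulo one of the central involutions. -/
theorem reduce (S : Setting z a b c J E (Cfsg.PSp 2 F)) (hF : Fintype.card F = 3) (hK : Fintype.card K = 4) {v : G}
    (hv : v = a ∨ v = a * z) :
    centralizer ({bar v z} : Set (KQ v)) ⊔ Cfsg.oddCore (KQ v) = ⊤ ∨
      (∃ x ∈ S.ZJ, bar v x ≠ 1 ∧ bar v x ≠ bar v z ∧
        (∀ g, Commute g v → g * x * g⁻¹ = x ∨ g * x * g⁻¹ = x * v) ∧
        ∃ G₀ : Subgroup (KQ v), bar v x ∈ G₀ ∧ G₀.index = 2 ∧
          ∃ _ : ((zpowers (bar v x)).subgroupOf G₀).Normal,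
            Nonempty ((↥G₀ ⧸ (zpowers (bar v x)).subgroupOf G₀) ≃* Cfsg.PSU 6 K 2)) ∨
      Cfsg.Spor.IsoFi22 (KQ v) := by
  classical
  haveI : Fact (Nat.Prime 2) := ⟨Nat.prime_two⟩
  set Cb := centralizer ({bar v z} : Set (KQ v)) with hCb
  let φ : ↥S.Ka →* ↥Cb :=
    { toFun := fun k => ⟨bar v k, mem_centralizer_singleton_iff.2
        ((S.bar_commute hv (S.v_Ka hv k.2)).2 (S.mem_Ka.1 k.2).1).eq⟩
      map_one' := Subtype.ext (bar_one v)
      map_mul' := fun p q => Subtype.ext (bar_mul (S.v_Ka hv p.2) (S.v_Ka hv q.2)) }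
  have hφ : Function.Surjective φ := fun y => by
    obtain ⟨x, hx, e⟩ := bar_surj v (y : KQ v)
    have hxz : Commute x z := (S.bar_commute hv hx).1 (by rw [e]; exact mem_centralizer_singleton_iff.1 y.2)
    exact ⟨⟨x, S.v_back hv hxz hx⟩, Subtype.ext e⟩
  have hle : φ.ker ≤ S.fa.ker := fun k hk => by
    refine (S.fa_ker k).2 ?_
    rcases (bar_eq_one (S.v_sq hv) (S.v_Ka hv k.2)).1 (congrArg Subtype.val hk) with e | e <;> rw [e]
    exacts [one_mem J, S.v_J hv]
  let ψ : ↥Cb →* MulAut (Cfsg.PSp 2 F) := φ.liftOfSurjective hφ ⟨S.fa, hle⟩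
  have hψ : ∀ k, ψ (φ k) = S.fa k := fun k => MonoidHom.liftOfRightInverse_comp_apply _ _ _ _ k
  have hψs : Function.Surjective ψ := fun g => by
    obtain ⟨k, hk⟩ := S.fa_surj g
    exact ⟨φ k, (hψ k).trans hk⟩
  set JB := (J.subgroupOf S.Ka).map φ with hJB
  haveI hJn : (J.subgroupOf S.Ka).Normal := ⟨fun q hq y => S.conj_J (S.mem_Ka.1 y.2).1 hq⟩
  have hJ2 : IsPGroup 2 ↥JB := (S.J_two.of_equiv (Subgroup.subgroupOfEquivOfLe S.J_le_Ka).symm).map _
  haveI hJBn : JB.Normal := hJn.map _ hφ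
  have hkerψ : ∀ y, ψ y = 1 ↔ y ∈ JB := fun y => by
    obtain ⟨k, rfl⟩ := hφ y
    rw [hψ, S.fa_ker]
    refine ⟨fun h => ⟨k, h, rfl⟩, fun ⟨q, hq, e⟩ => (S.fa_ker k).1 ?_⟩
    rw [← hψ k, ← e, hψ, S.fa_ker]
    exact hq
  haveI := S.finiteP
  have hcore : Cfsg.pCore 2 ↥Cb = JB := by
    refine le_antisymm (fun y hy => (hkerψ y).1 ?_) (Cfsg.Lib.Components.le_pCore hJ2)
    haveI : ((Cfsg.pCore 2 ↥Cb).map ψ).Normal := (inferInstance : (Cfsg.pCore 2 ↥Cb).Normal).map _ hψs
    exact FiTwo.two_trivial S.iso.some _ ((Cfsg.Lib.Components.isPGroup_pCore 2).map ψ)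
      (fun g _ x hx => Subgroup.Normal.conj_mem inferInstance x hx g) _ ⟨y, hy, rfl⟩
  let χ : ↥E →* ↥Cb := φ.comp (Subgroup.inclusion (le_trans S.leE S.J_le_Ka))
  have hχ : Function.Injective χ := fun p q e => by
    rcases (bar_eq (S.v_sq hv) (S.v_comm hv (S.leE p.2)) (S.v_comm hv (S.leE q.2))).1
      (congrArg Subtype.val e) with h | h
    · exact Subtype.ext h.symm
    · exfalso
      refine S.v_notE hv ?_
      rw [show v = (p : G)⁻¹ * q by rw [h, inv_mul_cancel_left]]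
      exact mul_mem (inv_mem p.2) q.2
  let bC : ↥Cb := φ ⟨b, S.J_le_Ka S.memB⟩
  let zc : ↥Cb := φ ⟨z, S.J_le_Ka S.memJ⟩
  have hb2 : orderOf bC = 2 := by
    refine orderOf_eq_prime ?_ fun e => ?_
    · rw [pow_two, ← map_mul, show (⟨b, S.J_le_Ka S.memB⟩ * ⟨b, S.J_le_Ka S.memB⟩ : ↥S.Ka) = 1 from Subtype.ext S.sqb,
        map_one]
    · rcases (bar_eq_one (S.v_sq hv) (S.v_comm hv S.memB)).1 (congrArg Subtype.val e) with h | h
      · exact S.b_ne h
      · rcases hv with r | r <;> rw [r] at h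
        · exact S.ab_ne h
        · refine S.z_notV ?_
          have := S.V.mul_mem (S.V.inv_mem S.memAV) S.memBV
          rwa [show a⁻¹ * b = z by rw [h, inv_mul_cancel_left]] at this
  have hbb : ∀ y ∈ zpowers bC, y = 1 ∨ y = bC := fun y hy =>
    Ext.eq_one_or_of_zpowers (by rw [← pow_two, ← hb2, pow_orderOf_eq_one]) hy
  have hcomJ : ∀ q ∈ J, ∀ r ∈ J, ∀ hq : q ∈ S.Ka, ∀ hr : r ∈ S.Ka, Commute q r →
      φ ⟨q, hq⟩ * φ ⟨r, hr⟩ = φ ⟨r, hr⟩ * φ ⟨q, hq⟩ := fun q _ r _ hq hr h => by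
    rw [← map_mul, ← map_mul]
    exact congrArg φ (Subtype.ext h.eq)
  have hdp : Cfsg.IsInternalDirectProduct (zpowers bC) χ.range JB := by
    refine ⟨zpowers_le.2 ⟨_, S.memB, rfl⟩, ?_, ?_, ?_, ?_⟩
    · rintro _ ⟨p, rfl⟩
      exact ⟨_, S.leE p.2, rfl⟩
    · rintro y hy _ ⟨p, rfl⟩
      rcases hbb y hy with rfl | rfl
      · rw [one_mul, mul_one]
      · exact hcomJ b S.memB (p : G) (S.leE p.2) _ _ (S.comB p (S.leE p.2))
    · refine (Subgroup.eq_bot_iff_forall _).2 fun y hy => ?_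
      obtain ⟨hy, p, rfl⟩ := Subgroup.mem_inf.1 hy
      rcases hbb _ hy with e | e
      · exact e
      · exfalso
        rcases (bar_eq (S.v_sq hv) (S.v_comm hv S.memB) (S.v_comm hv (S.leE p.2))).1
          (congrArg Subtype.val e).symm with h | h
        · exact S.b_ne (S.disj b S.memBV (h ▸ p.2))
        · exact S.bv_notE hv (h ▸ p.2)
    · refine le_antisymm (sup_le (zpowers_le.2 ⟨_, S.memB, rfl⟩) ?_) ?_
      · rintro _ ⟨p, rfl⟩
        exact ⟨_, S.leE p.2, rfl⟩
      · rintro _ ⟨⟨q, hqK⟩, hq, rfl⟩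
        obtain ⟨x, hx, e, he, heq⟩ := S.exE (show q ∈ J from hq)
        have hxK : x ∈ S.Ka := S.J_le_Ka (S.V_le hx)
        rw [show (⟨q, hqK⟩ : ↥S.Ka) = ⟨x, hxK⟩ * Subgroup.inclusion (le_trans S.leE S.J_le_Ka) ⟨e, he⟩ from
          Subtype.ext heq, map_mul]
        refine mul_mem ?_ (mem_sup_right ⟨⟨e, he⟩, rfl⟩)
        have hamem : φ ⟨a, S.J_le_Ka S.memA⟩ ∈ zpowers bC ⊔ χ.range := by
          rcases hv with r | r
          · have : φ ⟨a, S.J_le_Ka S.memA⟩ = 1 := Subtype.ext ((bar_eq_one (S.v_sq (Or.inl r))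
              (S.v_comm (Or.inl r) S.memA)).2 (Or.inr r.symm))
            rw [this]; exact one_mem _
          · refine mem_sup_right ⟨⟨z, S.memE⟩, Subtype.ext ?_⟩
            refine (bar_eq (S.v_sq (Or.inr r)) (S.v_comm (Or.inr r) S.memJ) (S.v_comm (Or.inr r) S.memA)).2
              (Or.inr ?_)
            show a = z * v
            rw [r, ← mul_assoc, ← (S.comA z S.memJ).eq, mul_assoc, S.z_sq, mul_one]
        rcases S.mem_V.1 hx with r | r | r | r <;> subst r
        · rw [show (⟨1, hxK⟩ : ↥S.Ka) = 1 from rfl, map_one]; exact one_mem _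
        · exact hamem
        · exact mem_sup_left (mem_zpowers _)
        · rw [show (⟨a * b, hxK⟩ : ↥S.Ka) = ⟨a, S.J_le_Ka S.memA⟩ * ⟨b, S.J_le_Ka S.memB⟩ from rfl, map_mul]
          exact mul_mem hamem (mem_sup_left (mem_zpowers _))
  have hder : ⁅JB, JB⁆ = zpowers zc := by
    refine le_antisymm (Subgroup.commutator_le.2 ?_) (zpowers_le.2 ?_)
    · rintro _ ⟨⟨p, hpK⟩, hp, rfl⟩ _ ⟨⟨q, hqK⟩, hq, rfl⟩
      rw [commutatorElement_def, ← map_inv, ← map_inv, ← map_mul, ← map_mul, ← map_mul]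
      rcases S.comm (show p ∈ J from hp) (show q ∈ J from hq) with e | e
      · rw [show (⟨p, hpK⟩ * ⟨q, hqK⟩ * ⟨p, hpK⟩⁻¹ * ⟨q, hqK⟩⁻¹ : ↥S.Ka) = 1 from Subtype.ext e, map_one]
        exact one_mem _
      · rw [show (⟨p, hpK⟩ * ⟨q, hqK⟩ * ⟨p, hpK⟩⁻¹ * ⟨q, hqK⟩⁻¹ : ↥S.Ka) = ⟨z, S.J_le_Ka S.memJ⟩ from
          Subtype.ext e]
        exact mem_zpowers zc
    · obtain ⟨p, hp, q, hq, e⟩ := S.nonabelian
      have hm := Subgroup.commutator_mem_commutator (H₁ := JB) (H₂ := JB) (g₁ := φ ⟨p, S.J_le_Ka hp⟩)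
        (g₂ := φ ⟨q, S.J_le_Ka hq⟩) ⟨_, hp, rfl⟩ ⟨_, hq, rfl⟩
      rw [commutatorElement_def, ← map_inv, ← map_inv, ← map_mul, ← map_mul, ← map_mul,
        show (⟨p, S.J_le_Ka hp⟩ * ⟨q, S.J_le_Ka hq⟩ * ⟨p, S.J_le_Ka hp⟩⁻¹ * ⟨q, S.J_le_Ka hq⟩⁻¹ : ↥S.Ka) =
          ⟨z, S.J_le_Ka S.memJ⟩ from Subtype.ext e] at hm
      exact hm
  have hCJ : centralizer ((Cfsg.pCore 2 ↥Cb) : Set ↥Cb) ≤ Cfsg.pCore 2 ↥Cb := by
    rw [hcore]
    intro y hy
    obtain ⟨⟨x, hxK⟩, rfl⟩ := hφ y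
    refine ⟨⟨x, hxK⟩, S.mem_of_shift hxK fun q hq => ?_, rfl⟩
    have h := congrArg Subtype.val
      (Subgroup.mem_centralizer_iff.1 hy (φ ⟨q, S.J_le_Ka hq⟩) ⟨_, hq, rfl⟩)
    have hx : Commute x v := S.v_Ka hv hxK
    have hq' : Commute q v := S.v_comm hv hq
    have h2 : bar v (x * q * x⁻¹ * q⁻¹) = 1 := by
      rw [bar_comm hx hq', show bar v x * bar v q = bar v q * bar v x from h.symm]
      group
    show x * q * x⁻¹ * q⁻¹ ∈ S.ZJ
    rcases (bar_eq_one (S.v_sq hv) (((hx.mul_left hq').mul_left hx.inv_left).mul_left hq'.inv_left)).1 h2 with e | e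
      <;> rw [e]
    exacts [S.ZJ.one_mem, S.v_ZJ hv]
  have hk : Cfsg.pCore 2 ↥Cb = ψ.ker := by
    rw [hcore]; ext y; exact (hkerψ y).symm
  let e : (↥Cb ⧸ Cfsg.pCore 2 ↥Cb) ≃* MulAut (Cfsg.PSp 2 F) :=
    (QuotientGroup.quotientMulEquivOfEq hk).trans (QuotientGroup.quotientKerEquivOfSurjective ψ hψs)
  rcases FiTwo.main (bar v z) (S.bar_z_order hv) hF hK (zpowers bC) χ.range (hcore.symm ▸ hdp)
    (by rw [Nat.card_zpowers, hb2]) (Ext.extraspecial_congr (MonoidHom.ofInjective hχ) S.extra)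
    (by rw [← Nat.card_congr (MonoidHom.ofInjective hχ).toEquiv, S.cardE]) zc rfl (by rw [hcore]; exact hder) hCJ
    e with h | ⟨z₁, hz1, hz1n, ⟨h₁, hmem, hcent⟩, hnorm, G₀, hz1G, hidx, hn, hiso⟩ | h
  · exact Or.inl h
  · refine Or.inr (Or.inl ?_)
    rw [hcore] at hmem
    obtain ⟨⟨x, hxK⟩, hxJ, he⟩ := hmem
    replace hxJ : x ∈ J := hxJ
    have hx : Commute x v := S.v_Ka hv hxK
    have hbx : bar v x = z₁ := congrArg Subtype.val he
    subst hbx
    have hall : ∀ g, Commute g v → g * x * g⁻¹ = x ∨ g * x * g⁻¹ = x * v := fun g hg => by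
      refine (bar_eq (S.v_sq hv) hx ((hg.mul_left hx).mul_left hg.inv_left)).1 ?_
      have h2 := hnorm.conj_mem _ (mem_zpowers (bar v x)) (bar v g)
      rw [bar_conj hg hx]
      rcases Ext.eq_one_or_of_zpowers (by rw [← pow_two, ← hz1, pow_orderOf_eq_one]) h2 with r | r
      · exact absurd (conj_eq_one_iff.1 r) fun e => by rw [e, orderOf_one] at hz1; omega
      · exact r.symm
    refine ⟨x, S.central hxJ fun q hq => ?_, fun e => by rw [e, orderOf_one] at hz1; omega,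
      fun e => hz1n (e ▸ mem_zpowers _), hall, G₀, hz1G, hidx, hn, hiso⟩
    rcases S.comm hxJ hq with r | r
    · exact mul_inv_eq_iff_eq_mul.1 (mul_inv_eq_one.1 r)
    · exfalso
      rcases hall q (S.v_comm hv hq) with k | k
      · have : x * q = q * x := (mul_inv_eq_iff_eq_mul.1 k).symm
        rw [this, mul_inv_cancel_right, mul_inv_cancel] at r
        exact S.z_ne r.symm
      · have h2 : x * q * x⁻¹ * q⁻¹ = v⁻¹ := by
          calc x * q * x⁻¹ * q⁻¹ = x * (q * x * q⁻¹)⁻¹ := by group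
            _ = _ := by rw [k, mul_inv_rev, ← mul_assoc, ((hx.inv_right).eq), mul_assoc, mul_inv_cancel, mul_one]
        rw [r, inv_eq_of_mul_eq_one_left (S.v_sq hv)] at h2
        exact (S.v_ne hv).2 h2.symm
  · exact Or.inr (Or.inr h)

/-- The third outcome gives the group itself. -/
theorem fi23 {P : Type v} [Group P] (S : Setting z a b c J E P) {v : G} (hv : v = a ∨ v = a * z)
    (h : Cfsg.Spor.IsoFi22 (KQ v)) : Cfsg.Spor.IsoFi23 G := by
  classical
  obtain ⟨i⟩ := h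
  have hvv := S.v_sq hv
  have hord : orderOf v = 2 := orderOf_eq_prime (by rw [pow_two, hvv]) (S.v_ne hv).1
  haveI hsQ : IsSimpleGroup (KQ v) := by
    haveI := Cfsg.Lib.FiPres.simple_fi
    haveI : Nontrivial (KQ v) := i.toEquiv.nontrivial
    exact IsSimpleGroup.isSimpleGroup_of_surjective i.symm.toMonoidHom i.symm.surjective
  set C := centralizer ({v} : Set G) with hC
  set mk' := QuotientGroup.mk' ((zpowers v).subgroupOf C) with hmk
  have hz : bar v z ≠ 1 := fun e => by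
    have := S.bar_z_order hv
    rw [e, orderOf_one] at this; omega
  have inC : ∀ {q : G}, Commute q v → q ∈ C := fun h => mem_centralizer_singleton_iff.2 h.eq
  obtain ⟨p, hp, q, hq, hpq⟩ := S.nonabelian
  -- the involution is a commutator
  have hvder : (⟨v, inC (Commute.refl v)⟩ : ↥C) ∈ _root_.commutator ↥C := by
    obtain ⟨o, ho⟩ := S.exists_out
    have hA : (⟨a, inC (S.v_comm hv S.memA)⟩ : ↥C) ∈ _root_.commutator ↥C := by
      have := Subgroup.commutator_mem_commutator (H₁ := (⊤ : Subgroup ↥C)) (H₂ := ⊤)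
        (g₁ := (⟨o, inC (S.v_Ka hv o.2)⟩ : ↥C)) (g₂ := ⟨b, inC (S.v_comm hv S.memB)⟩) trivial trivial
      rw [← commutator_def, commutatorElement_def] at this
      convert this using 1
      refine Subtype.ext ?_
      show a = (o : G) * b * (o : G)⁻¹ * b⁻¹
      rw [ho, mul_inv_cancel_right]
    have hZ : (⟨z, inC (S.v_comm hv S.memJ)⟩ : ↥C) ∈ _root_.commutator ↥C := by
      have := Subgroup.commutator_mem_commutator (H₁ := (⊤ : Subgroup ↥C)) (H₂ := ⊤)
        (g₁ := (⟨p, inC (S.v_comm hv hp)⟩ : ↥C)) (g₂ := ⟨q, inC (S.v_comm hv hq)⟩) trivial trivial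
      rw [← commutator_def, commutatorElement_def] at this
      convert this using 1
      exact Subtype.ext hpq.symm
    rcases hv with r | r <;> subst r
    · exact hA
    · exact mul_mem hA hZ
  have hnc : _root_.commutator (KQ v) = ⊤ := by
    refine (Subgroup.Normal.eq_bot_or_eq_top (inferInstance : (_root_.commutator (KQ v)).Normal)).resolve_left
      fun e => hz ?_
    have hm := Subgroup.commutator_mem_commutator (H₁ := (⊤ : Subgroup (KQ v))) (H₂ := ⊤)
      (g₁ := bar v p) (g₂ := bar v q) trivial trivial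
    rw [← commutator_def, e, commutatorElement_def, ← bar_comm (S.v_comm hv hp) (S.v_comm hv hq), hpq,
      Subgroup.mem_bot] at hm
    exact hm
  have hker : ∀ y : ↥C, mk' y = 1 → y ∈ _root_.commutator ↥C := fun y hy => by
    rcases Ext.eq_one_or_of_zpowers hvv ((QuotientGroup.eq_one_iff y).1 hy : (y : G) ∈ zpowers v) with e | e
    · rw [show y = 1 from Subtype.ext e]; exact one_mem _
    · rw [show y = ⟨v, inC (Commute.refl v)⟩ from Subtype.ext e]; exact hvder
  have hperf : _root_.commutator ↥C = ⊤ := by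
    refine (Subgroup.eq_top_iff' _).2 fun y => ?_
    have hy : mk' y ∈ (_root_.commutator ↥C).map mk' := by
      rw [commutator_def, Subgroup.map_commutator, ← MonoidHom.range_eq_map,
        MonoidHom.range_eq_top.2 (QuotientGroup.mk'_surjective _), ← commutator_def, hnc]
      exact Subgroup.mem_top _
    obtain ⟨y', hy', e⟩ := hy
    have := mul_mem hy' (hker (y'⁻¹ * y) (by rw [map_mul, map_inv, e, inv_mul_cancel]))
    rwa [mul_inv_cancel_left] at this
  have hcenter : Subgroup.center ↥C = (zpowers v).subgroupOf C := by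
    refine le_antisymm (fun y hy => ?_) fun y hy => ?_
    · refine (QuotientGroup.eq_one_iff y).1 ?_
      have hm : mk' y ∈ Subgroup.center (KQ v) := Subgroup.mem_center_iff.2 fun w => by
        obtain ⟨w, rfl⟩ := QuotientGroup.mk'_surjective _ w
        rw [← map_mul, ← map_mul, Subgroup.mem_center_iff.1 hy w]
      rcases Subgroup.Normal.eq_bot_or_eq_top (inferInstance : (Subgroup.center (KQ v)).Normal) with e | e
      · rw [e, Subgroup.mem_bot] at hm; exact hm
      · exfalso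
        apply hz
        have hm2 := Subgroup.mem_center_iff.1 (e ▸ Subgroup.mem_top (bar v q) : bar v q ∈ Subgroup.center (KQ v))
          (bar v p)
        rw [← hpq, bar_comm (S.v_comm hv hp) (S.v_comm hv hq), hm2]
        group
    · rcases Ext.eq_one_or_of_zpowers hvv (mem_subgroupOf.1 hy) with e | e
      · rw [show y = 1 from Subtype.ext e]; exact one_mem _
      · refine Subgroup.mem_center_iff.2 fun w => Subtype.ext ?_
        show (w : G) * y = y * w
        rw [e]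
        exact mem_centralizer_singleton_iff.1 w.2
  have hqs : Cfsg.IsQuasisimple ↥C := by
    refine ⟨⟨hperf⟩, ?_⟩
    let e := QuotientGroup.quotientMulEquivOfEq hcenter
    haveI : Nontrivial (↥C ⧸ Subgroup.center ↥C) := e.toEquiv.nontrivial
    exact IsSimpleGroup.isSimpleGroup_of_surjective e.symm.toMonoidHom e.symm.surjective
  have hw : ∃ g : G, g * v * g⁻¹ ∈ C ∧ g * v * g⁻¹ ≠ v := by
    refine ⟨c, ?_⟩
    rcases hv with r | r <;> subst r
    · rw [S.ca]
      exact ⟨inC S.comAB.symm, S.ab_ne⟩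
    · rw [conj_mul_eq, S.ca, conj_eq_iff.2 S.cz]
      exact ⟨inC (S.v_comm (Or.inr rfl) (mul_mem S.memB S.memJ)), fun e => S.ab_ne (mul_right_cancel e)⟩
  obtain ⟨f, -⟩ := Cfsg.Lib.M23Rec.recognition v hord hqs i hw
  exact ⟨f.symm⟩

end

end Setting

end Cfsg.Lib.FiThree
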