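import Cfsg.Agent.FiThreeCentral.Reduce
import Cfsg.Agent.S0283
import Cfsg.Agent.S0815

/-!
# A normal four-group below the automorphisms of the unitary group
-/

set_option autoImplicit false
set_option Elab.async false
set_option maxRecDepth 100000
set_option linter.style.haveILetI false
set_option linter.unusedSectionVars false

namespace Cfsg.Lib.FiThree

open Subgroup Cfsg.Lib.USixType
open Cfsg.Lib.FiTwo (Iso KQ bar bar_def bar_surj bar_mul bar_inv bar_one bar_comm bar_conj bar_eq bar_eq_one)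

universe u v w

variable {G : Type u} [Group G] [Finite G] {z a b c : G} {J E : Subgroup G}

namespace Setting

variable {P : Type v} [Group P] (S : Setting z a b c J E P)
include S

/-- The centraliser of the other involution normalises the four-group. -/
theorem N_az (hNa : ∀ h, Commute h a → h ∈ normalizer (S.V : Set G))
    (h : centralizer ({bar (a * z) z} : Set (KQ (a * z))) ⊔ Cfsg.oddCore (KQ (a * z)) = ⊤) {g : G}
    (hg : Commute g (a * z)) : g ∈ normalizer (S.V : Set G) := by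
  classical
  set v := a * z with hvdef
  have hv : v = a ∨ v = a * z := Or.inr rfl
  have hvv : v * v = 1 := S.v_sq hv
  have inC : ∀ {q : G}, Commute q v → q ∈ centralizer ({v} : Set G) :=
    fun h => mem_centralizer_singleton_iff.2 h.eq
  let N0 : Subgroup (KQ v) :=
    ((normalizer (S.V : Set G)).subgroupOf (centralizer ({v} : Set G))).map (QuotientGroup.mk' _)
  have memN0 : ∀ {x : G}, Commute x v → x ∈ normalizer (S.V : Set G) → bar v x ∈ N0 := fun {x} hx hn =>
    ⟨⟨x, inC hx⟩, hn, (bar_def hx).symm⟩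
  have hVv : ∀ {x : G}, x ∈ S.V → Commute x v := fun hx => S.v_comm hv (S.V_le hx)
  let β : ↥S.V →* KQ v :=
    MonoidHom.mk' (fun x => bar v (x : G)) fun p q => bar_mul (hVv p.2) (hVv q.2)
  have hβ : Function.Injective β := fun p q e => by
    rcases (bar_eq hvv (hVv p.2) (hVv q.2)).1 e with r | r
    · exact Subtype.ext r.symm
    · exfalso
      have h1 := S.V.mul_mem (S.V.inv_mem p.2) q.2
      rw [r, inv_mul_cancel_left, hvdef] at h1
      have h2 := S.V.mul_mem (S.V.inv_mem S.memAV) h1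
      rw [inv_mul_cancel_left] at h2
      exact S.z_notV h2
  haveI : IsMulCommutative ↥β.range := ⟨⟨fun x y => Subtype.ext (by
    obtain ⟨p, hp⟩ := x.2
    obtain ⟨q, hq⟩ := y.2
    show (x : KQ v) * y = y * x
    rw [← hp, ← hq, ← map_mul, ← map_mul,
      show p * q = q * p from Subtype.ext (S.comV p.2 (S.V_le q.2)).eq])⟩⟩
  have hcard : Nat.card ↥β.range = 4 := by rw [← Nat.card_congr (MonoidHom.ofInjective hβ).toEquiv, S.cardV]
  have hnc : ¬ IsCyclic ↥β.range := by
    intro hcy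
    obtain ⟨y, hy⟩ := isCyclic_iff_exists_natCard_le_orderOf.1 hcy
    have h2 : y * y = 1 := Subtype.ext (by
      obtain ⟨p, hp⟩ := y.2
      show (y : KQ v) * y = 1
      rw [← hp, ← map_mul, show p * p = 1 from Subtype.ext (S.V_sq p.2), map_one])
    have h3 : orderOf y ≤ 2 := orderOf_le_of_pow_eq_one (by norm_num) (by rw [pow_two]; exact h2)
    omega
  haveI hOn : (Cfsg.oddCore (KQ v)).Normal := inferInstanceAs (Cfsg.pPrimeCore 2 (KQ v)).Normal
  have hodd : Odd (Nat.card ↥(Cfsg.oddCore (KQ v))) := Cfsg.Lib.ZStarApps.odd_card_pPrimeCore (G := KQ v)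
  have hcop : (Nat.card ↥β.range).Coprime (Nat.card ↥(Cfsg.oddCore (KQ v))) := by
    rw [hcard, show (4 : ℕ) = 2 ^ 2 from rfl]
    exact (Nat.coprime_two_left.2 hodd).pow_left 2
  have hO : Cfsg.oddCore (KQ v) ≤ N0 := by
    rw [← Cfsg.Lib.Coprime.centralizerJoin_eq hnc
      (show β.range ≤ normalizer ((Cfsg.oddCore (KQ v) : Subgroup (KQ v)) : Set (KQ v)) by
        rw [Subgroup.normalizer_eq_top]; exact le_top) hcop]
    refine iSup₂_le fun t ht y hy => ?_
    obtain ⟨⟨⟨x, hx⟩, rfl⟩, ht1⟩ := ht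
    have hx1 : x ≠ 1 := fun e => ht1 (by
      rw [show (⟨x, hx⟩ : ↥S.V) = 1 from Subtype.ext e, map_one])
    obtain ⟨hyO, hyc⟩ := Subgroup.mem_inf.1 hy
    obtain ⟨o, ho, rfl⟩ := bar_surj v y
    set m := orderOf (bar v o) with hm
    obtain ⟨j, hj⟩ : Odd m := by
      have hd : m ∣ Nat.card ↥(Cfsg.oddCore (KQ v)) := by
        rw [hm, show orderOf (bar v o) = orderOf (⟨bar v o, hyO⟩ : ↥(Cfsg.oddCore (KQ v))) from
          orderOf_injective (Cfsg.oddCore (KQ v)).subtype (Subgroup.subtype_injective _) ⟨bar v o, hyO⟩]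
        exact orderOf_dvd_natCard _
      exact hodd.of_dvd_nat hd
    have bpow : ∀ n : ℕ, bar v (o ^ n) = bar v o ^ n := fun n => by
      induction n with
      | zero => simpa using bar_one v
      | succ n ih => rw [pow_succ, pow_succ, bar_mul (ho.pow_left n) ho, ih]
    set o' := o ^ (m + 1) with ho'
    have ho'v : Commute o' v := ho.pow_left _
    have hbo : bar v o' = bar v o := by rw [ho', bpow, pow_succ, hm, pow_orderOf_eq_one, one_mul]
    have hom : o' ^ m = 1 := by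
      have h1 : o ^ m = 1 ∨ o ^ m = v := (bar_eq_one hvv (ho.pow_left m)).1 (by rw [bpow, hm, pow_orderOf_eq_one])
      rw [ho', ← pow_mul, mul_comm, pow_mul, show m + 1 = 2 * (j + 1) by omega, pow_mul]
      rcases h1 with e | e <;> rw [e, pow_two]
      · rw [one_mul, one_pow]
      · rw [hvv, one_pow]
    have hcm : Commute (bar v o') (bar v x) := by
      rw [hbo]
      exact mem_centralizer_singleton_iff.1 hyc
    have hoo : o' * o' * x * (o' * o')⁻¹ = x := by
      have h2 : o' * x * o'⁻¹ = x ∨ o' * x * o'⁻¹ = x * v := by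
        refine (bar_eq hvv (hVv hx) ((ho'v.mul_left (hVv hx)).mul_left ho'v.inv_left)).1 ?_
        rw [bar_conj ho'v (hVv hx), hcm.eq, mul_inv_cancel_right]
      rw [show o' * o' * x * (o' * o')⁻¹ = o' * (o' * x * o'⁻¹) * o'⁻¹ by group]
      rcases h2 with e | e <;> rw [e]
      · exact e
      · rw [conj_mul_eq, e, conj_eq_iff.2 ho'v, mul_assoc, hvv, mul_one]
    have hox : Commute o' x := by
      have e : o' = (o' * o') ^ (j + 1) := by
        rw [← pow_two, ← pow_mul, show 2 * (j + 1) = m + 1 by omega, pow_succ, hom, one_mul]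
      rw [e]
      exact (conj_eq_iff.1 hoo).pow_left _
    rw [← hbo]
    exact memN0 ho'v (S.N_v hNa hx hx1 hox)
  have hC : centralizer ({bar v z} : Set (KQ v)) ≤ N0 := fun y hy => by
    obtain ⟨x, hx, rfl⟩ := bar_surj v y
    exact memN0 hx (S.H_le_N ((S.bar_commute hv hx).1 (mem_centralizer_singleton_iff.1 hy)))
  obtain ⟨⟨x, hxC⟩, hxN, e⟩ := (h.symm.le.trans (sup_le hC hO)) (Subgroup.mem_top (bar v g))
  have hx : Commute x v := mem_centralizer_singleton_iff.1 hxC
  rcases (bar_eq hvv hx hg).1 ((bar_def hx).trans e) with r | r <;> rw [r]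
  · exact hxN
  · exact mul_mem hxN (S.H_le_N ((S.commJ (S.v_J hv))))

/-- The second outcome is impossible at the other involution. -/
theorem no_two {v : G} (hv : v = a * z) {x : G} (hx : x ∈ S.ZJ) (h1 : bar v x ≠ 1) (hz : bar v x ≠ bar v z)
    (hall : ∀ g, Commute g v → g * x * g⁻¹ = x ∨ g * x * g⁻¹ = x * v) : False := by
  have hv' : v = a ∨ v = a * z := Or.inr hv
  have hvv := S.v_sq hv'
  have ha : a = v * z := by rw [hv, mul_assoc, S.z_sq, mul_one]
  obtain ⟨o, ho⟩ := S.exists_out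
  have hoa : (o : G) * a * (o : G)⁻¹ = a := conj_eq_iff.2 (S.mem_Ka.1 o.2).2
  have hoz : (o : G) * z * (o : G)⁻¹ = z := conj_eq_iff.2 (S.mem_Ka.1 o.2).1
  obtain ⟨y, hy, hxy⟩ := hx
  have hox : (o : G) * x * (o : G)⁻¹ = a * x := by
    have hyy : y = b ∨ y = a * b := by
      rcases S.mem_V.1 hy with r | r | r | r
      · exfalso
        rcases hxy with e | e <;> rw [e, r] at h1 hz
        · exact h1 (bar_one v)
        · rw [one_mul] at hz; exact hz rfl
      · exfalso
        rcases hxy with e | e <;> rw [e, r] at h1 hz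
        · refine hz ((bar_eq hvv (S.v_comm hv' S.memA) (S.v_comm hv' S.memJ)).2 (Or.inr ?_))
          rw [hv, ← mul_assoc, S.sqa, one_mul]
        · exact h1 ((bar_eq_one hvv (S.v_comm hv' (mul_mem S.memA S.memJ))).2 (Or.inr hv.symm))
      · exact Or.inl r
      · exact Or.inr r
    have hoy : (o : G) * y * (o : G)⁻¹ = a * y := by
      rcases hyy with r | r <;> rw [r]
      · exact ho
      · rw [conj_mul_eq, hoa, ho]
    rcases hxy with e | e <;> rw [e]
    · exact hoy
    · rw [conj_mul_eq, hoy, hoz, mul_assoc]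
  have hxJ : x ∈ J := S.ZJ_le ⟨y, hy, hxy⟩
  rcases hall o (S.v_Ka hv' o.2) with e | e <;> rw [hox] at e
  · exact S.a_ne (mul_eq_right.1 e)
  · rw [(S.comA x hxJ).eq] at e
    have := mul_left_cancel e
    exact S.z_ne (mul_eq_left.1 (this.trans hv).symm)

/-- The second outcome at the first involution. -/
theorem two_a (hiaz : Iso z (a * z)) {K : Type w} [Field K] [Fintype K] {x : G} (hx : x ∈ S.ZJ)
    (h1 : bar a x ≠ 1) (hz : bar a x ≠ bar a z)
    (hall : ∀ g, Commute g a → g * x * g⁻¹ = x ∨ g * x * g⁻¹ = x * a)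
    (G₀ : Subgroup (KQ a)) (hG : bar a x ∈ G₀) (hidx : G₀.index = 2)
    (hn : ((zpowers (bar a x)).subgroupOf G₀).Normal)
    (hiso : Nonempty ((↥G₀ ⧸ (zpowers (bar a x)).subgroupOf G₀) ≃* Cfsg.PSU 6 K 2)) :
    Iso z a ∨ ((∀ g, Commute g a → g ∈ normalizer (S.V : Set G)) ∧
      ∃ G₀ : Subgroup (KQ a), bar a b ∈ G₀ ∧ G₀.index = 2 ∧
        ∃ _ : ((zpowers (bar a b)).subgroupOf G₀).Normal,
          Nonempty ((↥G₀ ⧸ (zpowers (bar a b)).subgroupOf G₀) ≃* Cfsg.PSU 6 K 2)) := by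
  have hv' : a = a ∨ a = a * z := Or.inl rfl
  obtain ⟨o, ho⟩ := S.exists_out
  have hoa : (o : G) * a * (o : G)⁻¹ = a := conj_eq_iff.2 (S.mem_Ka.1 o.2).2
  have hoz : (o : G) * z * (o : G)⁻¹ = z := conj_eq_iff.2 (S.mem_Ka.1 o.2).1
  obtain ⟨y, hy, hxy⟩ := hx
  have hyy : y = b ∨ y = a * b := by
    rcases S.mem_V.1 hy with r | r | r | r
    · exfalso
      rcases hxy with e | e <;> rw [e, r] at h1 hz
      · exact h1 (bar_one a)
      · rw [one_mul] at hz; exact hz rfl
    · exfalso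
      rcases hxy with e | e <;> rw [e, r] at h1 hz
      · exact h1 ((bar_eq_one S.sqa (Commute.refl a)).2 (Or.inr rfl))
      · refine hz ((bar_eq S.sqa (S.v_comm hv' (mul_mem S.memA S.memJ)) (S.v_comm hv' S.memJ)).2 (Or.inr ?_))
        rw [(S.comA z S.memJ).eq, mul_assoc, S.sqa, mul_one]
    · exact Or.inl r
    · exact Or.inr r
  have hoy : (o : G) * y * (o : G)⁻¹ = a * y := by
    rcases hyy with r | r <;> rw [r]
    · exact ho
    · rw [conj_mul_eq, hoa, ho]
  rcases hxy with e | e <;> subst x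
  · refine Or.inr ⟨fun g hg => S.mem_N ?_, ?_⟩
    · have hga : g * a * g⁻¹ = a := conj_eq_iff.2 hg
      have hgy : g * y * g⁻¹ ∈ S.V := by
        rcases hall g hg with r | r <;> rw [r]
        exacts [hy, S.V.mul_mem hy S.memAV]
      have hgb : g * b * g⁻¹ ∈ S.V := by
        rcases hyy with r | r
        · rwa [r] at hgy
        · have hb : a * y = b := by rw [r, ← mul_assoc, S.sqa, one_mul]
          rw [show g * b * g⁻¹ = a * (g * y * g⁻¹) by rw [← hb, conj_mul_eq, hga]]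
          exact S.V.mul_mem S.memAV hgy
      intro t ht
      rcases S.mem_V.1 ht with r | r | r | r <;> rw [r]
      · rw [mul_one, mul_inv_cancel]; exact one_mem _
      · rw [hga]; exact S.memAV
      · exact hgb
      · rw [conj_mul_eq, hga]; exact S.V.mul_mem S.memAV hgb
    · have hbar : bar a y = bar a b := by
        rcases hyy with r | r <;> rw [r]
        rw [bar_mul (Commute.refl a) S.comAB.symm, (bar_eq_one S.sqa (Commute.refl a)).2 (Or.inr rfl), one_mul]
      rw [hbar] at hG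
      revert hn
      rw [hbar]
      exact fun hn hiso => ⟨G₀, hG, hidx, hn, hiso⟩
  · refine Or.inl ?_
    have hiso' : Iso z (y * z) := by
      obtain ⟨k, hk, hka⟩ := S.to_a hy (by rcases hyy with r | r <;> rw [r]; exacts [S.b_ne, S.abp_ne])
      refine S.iso_conj hk ?_
      rw [conj_mul_eq, hka, conj_eq_iff.2 hk]
      exact hiaz
    intro g hg hc
    rcases hall g hg with r | r
    · exact hiso' g (conj_eq_iff.1 r) hc
    · have hox : (o : G) * (y * z) * (o : G)⁻¹ = a * (y * z) := by rw [conj_mul_eq, hoy, hoz, mul_assoc]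
      have hfix : Commute ((o : G) * g) (y * z) := by
        refine conj_eq_iff.1 ?_
        rw [show (o : G) * g * (y * z) * ((o : G) * g)⁻¹ = (o : G) * (g * (y * z) * g⁻¹) * (o : G)⁻¹ by group, r,
          conj_mul_eq (o : G) (y * z) a, hox, hoa, (S.comA _ (mul_mem (S.V_le hy) S.memJ)).eq, mul_assoc, S.sqa,
          mul_one]
      have := hiso' ((o : G) * g) hfix (by
        rw [show (o : G) * g * z * ((o : G) * g)⁻¹ = (o : G) * (g * z * g⁻¹) * (o : G)⁻¹ by group]
        have h2 := hc.map (MulAut.conj (o : G)).toMonoidHom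
        simp only [MulEquiv.coe_toMonoidHom, MulAut.conj_apply, hoz] at h2
        exact h2)
      rw [show (o : G) * g * z * ((o : G) * g)⁻¹ = (o : G) * (g * z * g⁻¹) * (o : G)⁻¹ by group] at this
      exact mul_left_cancel (mul_right_cancel (this.trans hoz.symm))

set_option maxHeartbeats 1000000 in
/-- A normal four-group gives the automorphism group. -/
theorem structureB {K : Type w} [Field K] [Fintype K] (hK : Fintype.card K = 4)
    (hNa : ∀ h, Commute h a → h ∈ normalizer (S.V : Set G))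
    (hNaz : ∀ h, Commute h (a * z) → h ∈ normalizer (S.V : Set G))
    (G₀ : Subgroup (KQ a)) (hbG : bar a b ∈ G₀) (hidx : G₀.index = 2)
    (hn : ((zpowers (bar a b)).subgroupOf G₀).Normal)
    (iso : (↥G₀ ⧸ (zpowers (bar a b)).subgroupOf G₀) ≃* Cfsg.PSU 6 K 2) :
    ∃ (W : Subgroup G) (hW : W.Normal), Nat.card ↥W = 4 ∧ (∀ w ∈ W, w ^ 2 = 1) ∧
      Nonempty ((G ⧸ W) ≃* MulAut (Cfsg.PSU 6 K 2)) := by
  classical
  haveI hVn : S.V.Normal := S.V_normal hNa hNaz
  set Q6 := Cfsg.PSU 6 K 2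
  have hK' : Fintype.card K = 2 ^ 2 := by rw [hK]; norm_num
  haveI hsimple : IsSimpleGroup Q6 := Cfsg.Agent.S0283.result hK' 6 (by norm_num) (by norm_num)
  have hQ6 : Nat.card Q6 = 9196830720 := Ext.card_psu_six hK
  haveI : Finite Q6 := Nat.finite_of_card_ne_zero (by rw [hQ6]; norm_num)
  have hV : ∀ (g : G) {x : G}, x ∈ S.V → g * x * g⁻¹ ∈ S.V := fun g {x} hx => hVn.conj_mem x hx g
  set D : Subgroup G := centralizer ({a} : Set G) ⊓ centralizer ({b} : Set G) with hDdef
  have memD : ∀ {d : G}, d ∈ D ↔ Commute d a ∧ Commute d b := fun {d} =>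
    ⟨fun h => ⟨mem_centralizer_singleton_iff.1 (Subgroup.mem_inf.1 h).1,
      mem_centralizer_singleton_iff.1 (Subgroup.mem_inf.1 h).2⟩,
     fun h => Subgroup.mem_inf.2 ⟨mem_centralizer_singleton_iff.2 h.1.eq, mem_centralizer_singleton_iff.2 h.2.eq⟩⟩
  have hDV : ∀ {d x : G}, d ∈ D → x ∈ S.V → Commute d x := fun {d x} hd hx => by
    rcases S.mem_V.1 hx with r | r | r | r <;> rw [r]
    exacts [Commute.one_right d, (memD.1 hd).1, (memD.1 hd).2, (memD.1 hd).1.mul_right (memD.1 hd).2]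
  haveI hDn : D.Normal := ⟨fun d hd g => by
    have key : ∀ x ∈ S.V, Commute (g * d * g⁻¹) x := fun x hx => by
      have := (hDV hd (hV g⁻¹ hx)).map (MulAut.conj g).toMonoidHom
      simpa [mul_assoc] using this
    exact memD.2 ⟨key a S.memAV, key b S.memBV⟩⟩
  have hJD : J ≤ D := fun q hq => memD.2 ⟨(S.comA q hq).symm, (S.comB q hq).symm⟩
  have hVD : S.V ≤ D := le_trans S.V_le hJD
  have baa : bar a a = 1 := (bar_eq_one S.sqa (Commute.refl a)).2 (Or.inr rfl)
  let δ : ↥D →* KQ a :=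
    MonoidHom.mk' (fun d => bar a (d : G)) fun p q => bar_mul (memD.1 p.2).1 (memD.1 q.2).1
  obtain ⟨o, ho⟩ := S.exists_out
  have hoa : Commute (o : G) a := (S.mem_Ka.1 o.2).2
  have hoD : (o : G) ∉ D := fun e => S.a_ne (by
    have h2 : (o : G) * b * (o : G)⁻¹ = b := conj_eq_iff.2 (memD.1 e).2
    rw [ho] at h2
    exact mul_eq_right.1 h2)
  have mem_range : ∀ {g : G}, Commute g a → (bar a g ∈ δ.range ↔ g ∈ D) := fun {g} hg => by
    refine ⟨fun ⟨d, hd⟩ => ?_, fun hgD => ⟨⟨g, hgD⟩, rfl⟩⟩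
    rcases (bar_eq S.sqa (memD.1 d.2).1 hg).1 hd with r | r <;> rw [r]
    exacts [d.2, D.mul_mem d.2 (hJD S.memA)]
  have swap : ∀ {g : G}, Commute g a → g * b * g⁻¹ = b ∨ g * b * g⁻¹ = a * b := fun {g} hg => by
    rcases S.mem_V.1 (hV g S.memBV) with r | r | r | r
    · exact absurd (conj_eq_one_iff.1 r) S.b_ne
    · exact absurd (mul_left_cancel (mul_right_cancel (r.trans (conj_eq_iff.2 hg).symm))) S.ab_ne
    · exact Or.inl r
    · exact Or.inr r
  have hδidx : δ.range.index = 2 := by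
    refine Subgroup.index_eq_two_iff.2 ⟨bar a (o : G), fun y => ?_⟩
    obtain ⟨g, hg, rfl⟩ := bar_surj a y
    rw [← bar_mul hg hoa, mem_range (hg.mul_left hoa), mem_range hg]
    have hgo : g * o * b * (g * (o : G))⁻¹ = a * (g * b * g⁻¹) := by
      rw [show g * (o : G) * b * (g * (o : G))⁻¹ = g * ((o : G) * b * (o : G)⁻¹) * g⁻¹ by group, ho, conj_mul_eq,
        conj_eq_iff.2 hg]
    rcases swap hg with r | r
    · refine Or.inr ⟨memD.2 ⟨hg, conj_eq_iff.1 r⟩, fun e => ?_⟩
      have h2 := conj_eq_iff.2 (memD.1 e).2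
      rw [hgo, r] at h2
      exact S.a_ne (mul_eq_right.1 h2)
    · refine Or.inl ⟨memD.2 ⟨hg.mul_left hoa, conj_eq_iff.1 ?_⟩, fun e => ?_⟩
      · rw [hgo, r, ← mul_assoc, S.sqa, one_mul]
      · have h2 := conj_eq_iff.2 (memD.1 e).2
        rw [r] at h2
        exact S.a_ne (mul_eq_right.1 h2)
  let q6 : ↥G₀ →* Q6 := iso.toMonoidHom.comp (QuotientGroup.mk' ((zpowers (bar a b)).subgroupOf G₀))
  have hq6 : Function.Surjective q6 := iso.surjective.comp (QuotientGroup.mk'_surjective _)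
  have hq6k : ∀ x, q6 x = 1 ↔ (x : KQ a) ∈ zpowers (bar a b) := fun x => by
    show iso (QuotientGroup.mk x) = 1 ↔ _
    rw [MulEquiv.map_eq_one_iff, QuotientGroup.eq_one_iff, mem_subgroupOf]
  have hle : G₀ ≤ δ.range := by
    set N1 := δ.range.subgroupOf G₀
    haveI := Subgroup.normal_of_index_eq_two hδidx
    have hi : N1.index ∣ 2 := hδidx ▸ Subgroup.relIndex_dvd_index_of_normal δ.range G₀
    have hkerN : q6.ker ≤ N1 := fun x hx => by
      have hb : bar a b ∈ δ.range := ⟨⟨b, hJD S.memB⟩, rfl⟩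
      exact (zpowers_le.2 hb) ((hq6k x).1 hx)
    have hm : (N1.map q6).index ∣ 2 := (N1.index_map_eq hq6 hkerN).symm ▸ hi
    have htop : N1.map q6 = ⊤ := by
      rcases (Nat.dvd_prime Nat.prime_two).1 hm with r | r
      · exact Subgroup.index_eq_one.1 r
      · haveI := Subgroup.normal_of_index_eq_two r
        rcases Subgroup.Normal.eq_bot_or_eq_top (inferInstance : (N1.map q6).Normal) with e | e
        · rw [e, Subgroup.index_bot, hQ6] at r
          norm_num at r
        · exact e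
    have hN : N1 = ⊤ := by
      rw [← sup_eq_left.2 hkerN, ← Subgroup.comap_map_eq, htop, Subgroup.comap_top]
    exact fun x hx => (hN ▸ Subgroup.mem_top (⟨x, hx⟩ : ↥G₀) : (⟨x, hx⟩ : ↥G₀) ∈ N1)
  have heq : G₀ = δ.range := Subgroup.eq_of_le_of_card_ge hle (by
    have h1 := G₀.card_mul_index
    have h2 := δ.range.card_mul_index
    rw [hidx] at h1
    rw [hδidx] at h2
    omega)
  let π : ↥D →* Q6 := q6.comp (δ.codRestrict G₀ fun d => heq ▸ ⟨d, rfl⟩)
  have hπ : Function.Surjective π := fun y => by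
    obtain ⟨x, rfl⟩ := hq6 y
    obtain ⟨d, hd⟩ := (heq ▸ x.2 : (x : KQ a) ∈ δ.range)
    exact ⟨d, congrArg q6 (Subtype.ext hd : δ.codRestrict G₀ _ d = x)⟩
  have hbb : bar a b * bar a b = 1 := by rw [← bar_mul S.comAB.symm S.comAB.symm, S.sqb, bar_one]
  have hπk : ∀ d : ↥D, π d = 1 ↔ (d : G) ∈ S.V := fun d => by
    refine (hq6k _).trans ⟨fun h => ?_, fun h => ?_⟩
    · rcases Ext.eq_one_or_of_zpowers hbb h with r | r
      · rcases (bar_eq_one S.sqa (memD.1 d.2).1).1 r with k | k <;> rw [k]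
        exacts [one_mem _, S.memAV]
      · rcases (bar_eq S.sqa S.comAB.symm (memD.1 d.2).1).1 r.symm with k | k <;> rw [k]
        exacts [S.memBV, S.V.mul_mem S.memBV S.memAV]
    · show bar a (d : G) ∈ zpowers (bar a b)
      rcases S.mem_V.1 h with r | r | r | r <;> rw [r]
      · rw [bar_one]; exact one_mem _
      · rw [baa]; exact one_mem _
      · exact mem_zpowers _
      · rw [bar_mul (Commute.refl a) S.comAB.symm, baa, one_mul]; exact mem_zpowers _
  have hkle : ∀ g : G, π.ker ≤ (π.comp (MulAut.conjNormal g : MulAut ↥D).toMonoidHom).ker := fun g d hd => by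
    show π (MulAut.conjNormal g d) = 1
    rw [hπk, MulAut.conjNormal_apply]
    exact hV g ((hπk d).1 hd)
  let θ : G → (Q6 →* Q6) := fun g => π.liftOfSurjective hπ ⟨_, hkle g⟩
  have hθ : ∀ g d, θ g (π d) = π (MulAut.conjNormal g d) := fun g d =>
    MonoidHom.liftOfRightInverse_comp_apply _ _ _ _ d
  have hθm : ∀ g h x, θ (g * h) x = θ g (θ h x) := fun g h x => by
    obtain ⟨d, rfl⟩ := hπ x
    rw [hθ, hθ, hθ, map_mul, MulAut.mul_apply]
  have hθ1 : ∀ x, θ 1 x = x := fun x => by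
    obtain ⟨d, rfl⟩ := hπ x
    rw [hθ, map_one, MulAut.one_apply]
  let Θ : G →* MulAut Q6 :=
    MonoidHom.mk' (fun g => (θ g).toMulEquiv (θ g⁻¹)
      (MonoidHom.ext fun x => by rw [MonoidHom.comp_apply, ← hθm, inv_mul_cancel, hθ1]; rfl)
      (MonoidHom.ext fun x => by rw [MonoidHom.comp_apply, ← hθm, mul_inv_cancel, hθ1]; rfl))
      fun g h => MulEquiv.ext fun x => hθm g h x
  have hΘ : ∀ g, Θ g = 1 → ∀ x ∈ D, g * x * g⁻¹ * x⁻¹ ∈ S.V := fun g hg x hx => by
    have h1 : θ g (π ⟨x, hx⟩) = π ⟨x, hx⟩ := congrArg (fun f : MulAut Q6 => f (π ⟨x, hx⟩)) hg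
    rw [hθ] at h1
    have h2 : π (MulAut.conjNormal g (⟨x, hx⟩ : ↥D) * (⟨x, hx⟩ : ↥D)⁻¹) = 1 := by
      rw [map_mul, map_inv, h1, mul_inv_cancel]
    have h3 := (hπk _).1 h2
    rwa [Subgroup.coe_mul, Subgroup.coe_inv, MulAut.conjNormal_apply] at h3
  have hcen : ∀ p : Q6, (∀ x, x * p = p * x) → p = 1 := fun p hp => by
    rcases Subgroup.Normal.eq_bot_or_eq_top (inferInstance : (Subgroup.center Q6).Normal) with e | e
    · exact Subgroup.mem_bot.1 (e ▸ Subgroup.mem_center_iff.2 hp)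
    · exfalso
      obtain ⟨x, hx, y, hy, hxy⟩ := S.nonabelian
      refine S.z_notV ?_
      have hm := Subgroup.mem_center_iff.1 (e ▸ Subgroup.mem_top (π ⟨y, hJD hy⟩) :
        π ⟨y, hJD hy⟩ ∈ Subgroup.center Q6) (π ⟨x, hJD hx⟩)
      have : π (⟨x, hJD hx⟩ * ⟨y, hJD hy⟩ * (⟨x, hJD hx⟩ : ↥D)⁻¹ * (⟨y, hJD hy⟩ : ↥D)⁻¹) = 1 := by
        rw [map_mul, map_mul, map_mul, map_inv, map_inv, hm]
        group
      have h4 := (hπk _).1 this
      have h5 : x * y * x⁻¹ * y⁻¹ ∈ S.V := h4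
      rwa [hxy] at h5
  -- no element of the kernel cycles the four-group
  have nocyc : ∀ k, Θ k = 1 → k * a * k⁻¹ = b → k * b * k⁻¹ = a * b → False := by
    intro k hk ka kb
    have hkz : k * z * k⁻¹ = z := by
      refine S.eq_z_of_ZJ ?_
      have := S.ZJ.mul_mem (S.V_le_ZJ (hΘ k hk z (hJD S.memJ))) S.z_ZJ
      rwa [inv_mul_cancel_right] at this
    set d := c⁻¹ * k with hd
    have hkd : k = c * d := by rw [hd, mul_inv_cancel_left]
    have hdz : Commute d z := S.cz.inv_left.mul_left (conj_eq_iff.1 hkz)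
    have hca' : c⁻¹ * b * c = a := by rw [← S.ca]; group
    have hcb' : c⁻¹ * (a * b) * c = b := by rw [← S.cb]; group
    have hda : Commute d a := conj_eq_iff.1 (by
      rw [hd, show c⁻¹ * k * a * (c⁻¹ * k)⁻¹ = c⁻¹ * (k * a * k⁻¹) * c by group, ka, hca'])
    have hdb : Commute d b := conj_eq_iff.1 (by
      rw [hd, show c⁻¹ * k * b * (c⁻¹ * k)⁻¹ = c⁻¹ * (k * b * k⁻¹) * c by group, kb, hcb'])
    have hdI : d ∈ S.inner := S.mem_inner.2 ⟨hdz, hda, hdb⟩
    have hcd : ∀ i ∈ S.inner, d * i * d⁻¹ * i⁻¹ ∈ J := by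
      intro i hi
      obtain ⟨hiz, hia, hib⟩ := S.mem_inner.1 hi
      have h1 := S.V_le (hΘ k hk i (memD.2 ⟨hia, hib⟩))
      have h2 := S.c_inner (S.inner.mul_mem (S.inner.mul_mem hdI hi) (S.inner.inv_mem hdI))
      have := mul_mem (inv_mem h2) h1
      rwa [hkd, show (c * (d * i * d⁻¹) * c⁻¹ * (d * i * d⁻¹)⁻¹)⁻¹ * (c * d * i * (c * d)⁻¹ * i⁻¹) =
        d * i * d⁻¹ * i⁻¹ by group] at this
    haveI := S.finiteP
    obtain ⟨p, hp⟩ := (S.inner_iff ⟨d, S.inner_le_Ka hdI⟩).1 hdI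
    have hp1 : p = 1 := FiTwo.center_bot S.iso.some fun p' => by
      obtain ⟨i, hi⟩ := S.fa_surj (MulAut.conj p')
      have hiI : (i : G) ∈ S.inner := (S.inner_iff i).2 ⟨p', hi.symm⟩
      have h1 : S.fa (⟨d, S.inner_le_Ka hdI⟩ * i * (⟨d, S.inner_le_Ka hdI⟩ : ↥S.Ka)⁻¹ * i⁻¹) = 1 :=
        (S.fa_ker _).2 (hcd i hiI)
      rw [map_mul, map_mul, map_mul, map_inv, map_inv, ← hp, hi, ← map_inv, ← map_inv, ← map_mul, ← map_mul,
        ← map_mul, ← map_one (MulAut.conj : P →* MulAut P)] at h1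
      have h2 := FiTwo.conj_injective S.iso.some h1
      exact (mul_inv_eq_iff_eq_mul.1 (mul_inv_eq_one.1 h2)).symm
    have hdJ : d ∈ J := (S.fa_ker ⟨d, S.inner_le_Ka hdI⟩).1 (by rw [← hp, hp1, map_one])
    obtain ⟨x, hx, y, hy, hxy⟩ := S.nonabelian
    have hall : ∀ q ∈ J, q ∈ S.ZJ := fun q hq => by
      refine S.c_fpf hq ?_
      have h1 := S.V_le_ZJ (hΘ k hk q (hJD hq))
      rw [hkd, show c * d * q * (c * d)⁻¹ = c * (d * q * d⁻¹) * c⁻¹ by group] at h1
      rcases S.conj_cases hdJ hq with r | r <;> rw [r] at h1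
      · exact h1
      · rw [conj_mul_eq, conj_eq_iff.2 S.cz] at h1
        have h2 := S.ZJ.mul_mem h1 (S.ZJ.inv_mem S.z_ZJ)
        rwa [mul_assoc (c * q * c⁻¹) z, ← (S.commJ (inv_mem hq)).eq, ← mul_assoc, mul_inv_cancel_right] at h2
    refine S.z_ne ?_
    rw [← hxy, (S.ZJ_comm (hall y hy) hx).eq]
    group
  have hker : ∀ k, Θ k = 1 → k ∈ S.V := by
    intro k hk
    have cj : ∀ {k : G}, Θ k = 1 → ∀ l : G, Θ (l * k * l⁻¹) = 1 := fun {k} h l => by
      rw [map_mul, map_mul, h, mul_one, ← map_mul, mul_inv_cancel, map_one]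
    have two : ∀ k, Θ k = 1 → k * a * k⁻¹ = a * b → k * b * k⁻¹ = a → False := fun k hk ka kb => by
      refine nocyc (k * k) (by rw [map_mul, hk, one_mul]) ?_ ?_
      · rw [show k * k * a * (k * k)⁻¹ = k * (k * a * k⁻¹) * k⁻¹ by group, ka, conj_mul_eq, ka, kb, mul_assoc,
          ← S.comAB.eq, ← mul_assoc, S.sqa, one_mul]
      · rw [show k * k * b * (k * k)⁻¹ = k * (k * b * k⁻¹) * k⁻¹ by group, kb, ka]
    have fixa : ∀ k, Θ k = 1 → Commute k a → Commute k b := fun k hk hka => by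
      by_contra hkb
      have kb : k * b * k⁻¹ = a * b := (swap hka).resolve_left fun e => hkb (conj_eq_iff.1 e)
      have hki : k⁻¹ * a * k = a := by rw [mul_assoc, ← hka.eq, inv_mul_cancel_left]
      have kab : k * (a * b) * k⁻¹ = b := by rw [conj_mul_eq, conj_eq_iff.2 hka, kb, ← mul_assoc, S.sqa, one_mul]
      have kib : k⁻¹ * b * k = a * b := by
        calc k⁻¹ * b * k = k⁻¹ * (k * (a * b) * k⁻¹) * k := by rw [kab]
          _ = a * b := by group
      have cia : c⁻¹ * a * c = a * b := by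
        calc c⁻¹ * a * c = c⁻¹ * (c * (a * b) * c⁻¹) * c := by rw [S.c_ab]
          _ = a * b := by group
      have cib : c⁻¹ * (a * b) * c = b := by rw [← S.cb]; group
      refine two (c * k * c⁻¹ * k⁻¹) (by rw [map_mul, cj hk c, map_inv, hk, inv_one, mul_one]) ?_ ?_
      · rw [show c * k * c⁻¹ * k⁻¹ * a * (c * k * c⁻¹ * k⁻¹)⁻¹ = c * (k * (c⁻¹ * (k⁻¹ * a * k) * c) * k⁻¹) * c⁻¹ by
          group, hki, cia, kab, S.cb]
      · rw [show c * k * c⁻¹ * k⁻¹ * b * (c * k * c⁻¹ * k⁻¹)⁻¹ = c * (k * (c⁻¹ * (k⁻¹ * b * k) * c) * k⁻¹) * c⁻¹ by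
          group, kib, cib, kb, S.c_ab]
    have hD : k ∈ D := by
      have fix : ∀ v ∈ S.V, v ≠ 1 → Commute k v → k ∈ D := fun v hv h1 hc => by
        obtain ⟨l, -, hla⟩ := S.to_a hv h1
        have h2 : Commute (l * k * l⁻¹) a := by
          have := hc.map (MulAut.conj l).toMonoidHom
          simp only [MulEquiv.coe_toMonoidHom, MulAut.conj_apply, hla] at this
          exact this
        have := hDn.conj_mem _ (memD.2 ⟨h2, fixa _ (cj hk l) h2⟩) l⁻¹
        rwa [show l⁻¹ * (l * k * l⁻¹) * l⁻¹⁻¹ = k by group] at this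
      rcases S.mem_V.1 (hV k S.memAV) with r | r | r | r
      · exact absurd (conj_eq_one_iff.1 r) S.a_ne
      · exact fix a S.memAV S.a_ne (conj_eq_iff.1 r)
      · rcases S.mem_V.1 (hV k S.memBV) with s | s | s | s
        · exact absurd (conj_eq_one_iff.1 s) S.b_ne
        · exact fix (a * b) (S.V.mul_mem S.memAV S.memBV) S.abp_ne
            (conj_eq_iff.1 (by rw [conj_mul_eq, r, s, S.comAB.eq]))
        · exact fix b S.memBV S.b_ne (conj_eq_iff.1 s)
        · exact (nocyc k hk r s).elim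
      · rcases S.mem_V.1 (hV k S.memBV) with s | s | s | s
        · exact absurd (conj_eq_one_iff.1 s) S.b_ne
        · exact (two k hk r s).elim
        · exact fix b S.memBV S.b_ne (conj_eq_iff.1 s)
        · exact absurd (mul_left_cancel (mul_right_cancel (r.trans s.symm))) S.ab_ne.symm
    refine (hπk ⟨k, hD⟩).1 (hcen _ fun x => ?_)
    obtain ⟨d, rfl⟩ := hπ x
    have h1 : θ k (π d) = π d := congrArg (fun f : MulAut Q6 => f (π d)) hk
    have e : MulAut.conjNormal k d = (⟨k, hD⟩ : ↥D) * d * (⟨k, hD⟩ : ↥D)⁻¹ := by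
      refine Subtype.ext ?_
      rw [MulAut.conjNormal_apply]
      rfl
    rw [hθ, e, map_mul, map_mul, map_inv] at h1
    exact (mul_inv_eq_iff_eq_mul.1 h1).symm
  let Φ : G ⧸ S.V →* MulAut Q6 := QuotientGroup.lift S.V Θ fun w hw => by
    refine MulEquiv.ext fun x => ?_
    obtain ⟨d, rfl⟩ := hπ x
    show θ w (π d) = π d
    rw [hθ]
    congr 1
    refine Subtype.ext ?_
    rw [MulAut.conjNormal_apply]
    exact conj_eq_iff.2 (hDV d.2 hw).symm
  have hΦ : Function.Injective Φ := (injective_iff_map_eq_one Φ).2 fun x hx => by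
    obtain ⟨g, rfl⟩ := QuotientGroup.mk_surjective x
    exact (QuotientGroup.eq_one_iff g).2 (hker g hx)
  -- the index of the centraliser of the four-group
  have hindex : 6 ≤ D.index := by
    have cab := S.c_ab
    have hob := ho
    have hoa' : (o : G) * a * (o : G)⁻¹ = a := conj_eq_iff.2 hoa
    have hoab : (o : G) * (a * b) * (o : G)⁻¹ = b := by rw [conj_mul_eq, hoa', hob, ← mul_assoc, S.sqa, one_mul]
    let g : Fin 6 → G := ![1, c, c * c, (o : G), c * o, c * c * o]
    let va : Fin 6 → G := ![a, b, a * b, a, b, a * b]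
    let vb : Fin 6 → G := ![b, a * b, a, a * b, a, b]
    have cc : ∀ x, c * c * x * (c * c)⁻¹ = c * (c * x * c⁻¹) * c⁻¹ := fun x => by group
    have co : ∀ l x, l * (o : G) * x * (l * (o : G))⁻¹ = l * ((o : G) * x * (o : G)⁻¹) * l⁻¹ := fun l x => by group
    have hga : ∀ i, g i * a * (g i)⁻¹ = va i := by
      intro i; fin_cases i <;> simp [g, va, cc, co, S.ca, S.cb, cab, hoa', hob, -mul_inv_rev]
    have hgb : ∀ i, g i * b * (g i)⁻¹ = vb i := by
      intro i; fin_cases i <;> simp [g, vb, cc, co, S.ca, S.cb, cab, hoa', hob, hoab, -mul_inv_rev]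
    let F : Fin 6 → G ⧸ D := fun i => (g i : G ⧸ D)
    have hF : Function.Injective F := fun i j e => by
      have hm : (g i)⁻¹ * g j ∈ D := QuotientGroup.eq.1 e
      have key : ∀ x : G, Commute ((g i)⁻¹ * g j) x → g i * x * (g i)⁻¹ = g j * x * (g j)⁻¹ := fun x hx => by
        calc g i * x * (g i)⁻¹ = g i * (((g i)⁻¹ * g j) * x * ((g i)⁻¹ * g j)⁻¹) * (g i)⁻¹ := by
              rw [conj_eq_iff.2 hx]
          _ = _ := by group
      have e1 := key a (memD.1 hm).1
      have e2 := key b (memD.1 hm).2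
      rw [hga, hga] at e1
      rw [hgb, hgb] at e2
      have n1 : a ≠ a * b := fun e => S.b_ne (left_eq_mul.1 e)
      have n2 : b ≠ a * b := fun e => S.a_ne (right_eq_mul.1 e)
      fin_cases i <;> fin_cases j <;>
        first
          | rfl
          | exact absurd e1 (by first | exact S.ab_ne | exact S.ab_ne.symm | exact n1 | exact n1.symm | exact n2 | exact n2.symm)
          | exact absurd e2 (by first | exact S.ab_ne | exact S.ab_ne.symm | exact n1 | exact n1.symm | exact n2 | exact n2.symm)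
    have := Nat.card_le_card_of_injective F hF
    rwa [Nat.card_fin] at this
  have hcardD : Nat.card ↥D = 9196830720 * 4 := by
    have h := Subgroup.card_eq_card_quotient_mul_card_subgroup π.ker
    rw [Nat.card_congr (QuotientGroup.quotientKerEquivOfSurjective π hπ).toEquiv, hQ6] at h
    have hk : Nat.card ↥π.ker = Nat.card ↥S.V := Nat.card_congr
      { toFun := fun q => ⟨q.1.1, (hπk q.1).1 q.2⟩
        invFun := fun q => ⟨⟨q.1, hVD q.2⟩, (hπk ⟨q.1, hVD q.2⟩).2 q.2⟩
        left_inv := fun _ => rfl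
        right_inv := fun _ => rfl }
    rw [hk, S.cardV] at h
    exact h
  haveI : Finite (MulAut Q6) := Finite.of_injective (fun f : MulAut Q6 => (f : Q6 → Q6)) DFunLike.coe_injective
  have hle2 : Nat.card (MulAut Q6) ≤ Nat.card (G ⧸ S.V) := by
    haveI : Fact (Nat.Prime 2) := ⟨Nat.prime_two⟩
    rw [Cfsg.Agent.S0815.result 2 1 le_rfl (q := 2) (by norm_num) hK' 6 (by norm_num) (by norm_num), hQ6]
    have h1 := D.card_mul_index
    have h2 : Nat.card G = Nat.card (G ⧸ S.V) * 4 := by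
      rw [Subgroup.card_eq_card_quotient_mul_card_subgroup S.V, S.cardV]
    have h3 : Nat.card ↥D * 6 ≤ Nat.card G := h1 ▸ Nat.mul_le_mul_left _ hindex
    have h4 : Nat.gcd 6 (2 + 1) = 3 := by norm_num
    rw [h4]
    omega
  refine ⟨S.V, hVn, S.cardV, fun w hw => by rw [pow_two]; exact S.V_sq hw,
    ⟨MulEquiv.ofBijective Φ (hΦ.bijective_of_nat_card_le hle2)⟩⟩

end Setting

end Cfsg.Lib.FiThree
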