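import Cfsg.Agent.FiThreeCentral.Lift
import Cfsg.Agent.FiTwoCentral.Natural

/-!
# No four-group of commuting involutions outside the centre is normalised by the centralisers of its elements
-/

set_option autoImplicit false
set_option Elab.async false
set_option maxRecDepth 100000
set_option linter.style.haveILetI false
set_option linter.unusedSectionVars false

namespace Cfsg.Lib.FiThree

open Subgroup Cfsg.Lib.USixType
open Cfsg.Lib.FiTwo (T0_sep T0_cover T0_moving A_commutes B_commutes onLine_cases onLine_image sm23 Q_image tv_type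
  key_R0 key_T0 fixR_card T0_set)

universe u v

theorem R0_fourths : (grpBKey.all fun n => !((fixR.all fun v => ev n v == v) &&
    grpBKey.all fun m => let m2 := mulK m m; let m4 := mulK m2 m2; mulK n m4 == mulK m4 n) ||
      n == idK || n == R0K || n == T0K || n == keyOf (tv (ctr d0))) = true := by decide +kernel

variable {G : Type u} [Group G] {P : Type v} [Group P] {z a b c : G} {J E : Subgroup G}

namespace NC

variable {S : Setting z a b c J E P} (d : NC S)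
include d

theorem β_one : d.β 1 = 0 := (d.β_ker 1 (one_mem J)).2 (one_mem _)

theorem β_inv {q : G} (hq : q ∈ J) : d.β q⁻¹ = d.β q := by
  have := d.β_mul q hq q⁻¹ (inv_mem hq)
  rw [mul_inv_cancel, d.β_one] at this
  exact (eq_neg_of_add_eq_zero_right this.symm).trans (Vt.neg_eq _)

theorem π_one : d.π 1 = 1 := (d.π_ker 1 (one_mem _)).2 (one_mem J)

/-- The coordinates after an element of the unitary group. -/
def twist (u : Equiv.Perm Vt) (hu : u ∈ U) : NC S where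
  β q := u (d.β q)
  π h := u * d.π h * u⁻¹
  β_mul p hp q hq := by rw [d.β_mul p hp q hq, (lin_of_mem hu).map_add]
  β_surj v := by
    obtain ⟨q, hq, e⟩ := d.β_surj (u⁻¹ v)
    exact ⟨q, hq, by rw [e]; exact u.apply_symm_apply v⟩
  β_ker q hq := by
    rw [← d.β_ker q hq]
    exact ⟨fun e => u.injective (e.trans (lin_of_mem hu).map_zero.symm), fun e => by rw [e, (lin_of_mem hu).map_zero]⟩
  sq q hq := by rw [d.sq q hq, Q, Q, (lin_of_mem hu).map_h]
  comm p hp q hq := by rw [d.comm p hp q hq, B, B, (lin_of_mem hu).map_h]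
  π_mem h hh := (d.π_mem h hh).imp (fun e => mul_mem (mul_mem hu e) (inv_mem hu)) fun e =>
    (e.lin_mul (lin_of_mem hu)).mul_lin (lin_of_mem (inv_mem hu))
  π_semi h hh k hk e e' := by
    have key : ∀ p, u * p * u⁻¹ ∉ U → p ∉ U := fun p hp hp' => hp (mul_mem (mul_mem hu hp') (inv_mem hu))
    exact mul_mem (mul_mem hu (d.π_semi h hh k hk (key _ e) (key _ e'))) (inv_mem hu)
  π_mul h hh k hk := by rw [d.π_mul h hh k hk]; group
  π_ker h hh := by rw [← d.π_ker h hh, conj_eq_one_iff]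
  π_inn h hh e := d.π_inn h hh (by
    have := mul_mem (mul_mem (inv_mem hu) e) hu
    rwa [show u⁻¹ * (u * d.π h * u⁻¹) * u = d.π h by group] at this)
  π_surj g hg := by
    obtain ⟨h, hh, e⟩ := d.π_surj (u⁻¹ * g * u) (mul_mem (mul_mem (inv_mem hu) hg) hu)
    exact ⟨h, hh, by rw [e]; group⟩
  equiv h hh q hq := by
    rw [d.equiv h hh q hq]
    simp only [Equiv.Perm.mul_apply, Equiv.Perm.coe_inv, Equiv.symm_apply_apply]

theorem twist_π (u : Equiv.Perm Vt) (hu : u ∈ U) (h : G) : (d.twist u hu).π h = u * d.π h * u⁻¹ := rfl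

/-- An element fixes what its centraliser in the core gives. -/
theorem fixed {h q : G} (hh : h ∈ S.Ka) (hq : q ∈ J) (hc : Commute q h) : d.π h (d.β q) = d.β q := by
  rw [← d.equiv h hh q hq, ← hc.eq, mul_inv_cancel_right]

theorem π_sq {h : G} (hh : h ∈ S.Ka) (h2 : h * h = 1) : d.π h * d.π h = 1 := by
  rw [← d.π_mul h hh h hh, h2, d.π_one]

/-- Elements with image in the unitary group centralise the central elements. -/
theorem comm_ZJ {h v : G} (hh : h ∈ S.Ka) (hU : d.π h ∈ U) (hv : v ∈ S.ZJ) : Commute h v := by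
  obtain ⟨hz, ha, hb⟩ := S.mem_inner.1 (d.π_inn h hh hU)
  exact S.comm_Z hz ha hb hv

end NC

/-- The data of a four-group. -/
structure Ctx (S : Setting z a b c J E P) (x y : G) : Prop where
  xK : x ∈ S.Ka
  yK : y ∈ S.Ka
  xy : Commute x y
  x2 : x * x = 1
  y2 : y * y = 1
  nx : x ∉ S.ZJ
  ny : y ∉ S.ZJ
  nxy : x * y ∉ S.ZJ
  fx : ∀ r ∈ S.Ka, Commute r x → r * y * r⁻¹ = y ∨ r * y * r⁻¹ = x * y
  fy : ∀ r ∈ S.Ka, Commute r y → r * x * r⁻¹ = x ∨ r * x * r⁻¹ = x * y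
  fxy : ∀ r ∈ S.Ka, Commute r (x * y) → r * x * r⁻¹ = x ∨ r * x * r⁻¹ = y

namespace Ctx

variable {S : Setting z a b c J E P} {x y : G} (C : Ctx S x y)
include C

theorem x_xy : x * (x * y) = y := by rw [← mul_assoc, C.x2, one_mul]

theorem y_xy : y * (x * y) = x := by rw [← mul_assoc, ← C.xy.eq, mul_assoc, C.y2, mul_one]

theorem xy_y : x * y * y = x := by rw [mul_assoc, C.y2, mul_one]

theorem xy2 : x * y * (x * y) = 1 := by rw [mul_assoc, C.y_xy, C.x2]

theorem swap : Ctx S y x where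
  xK := C.yK
  yK := C.xK
  xy := C.xy.symm
  x2 := C.y2
  y2 := C.x2
  nx := C.ny
  ny := C.nx
  nxy := by rw [← C.xy.eq]; exact C.nxy
  fx r hr h := by rw [← C.xy.eq]; exact C.fy r hr h
  fy r hr h := by rw [← C.xy.eq]; exact C.fx r hr h
  fxy r hr h := by
    rw [← C.xy.eq] at h
    have e : r * y * r⁻¹ = r * x * r⁻¹ * (x * y) := by
      conv_lhs => rw [← C.x_xy]
      rw [conj_mul_eq, conj_eq_iff.2 h]
    rcases C.fxy r hr h with e' | e' <;> rw [e'] at e <;> rw [e]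
    · exact Or.inl C.x_xy
    · exact Or.inr C.y_xy

theorem rot : Ctx S (x * y) y where
  xK := mul_mem C.xK C.yK
  yK := C.yK
  xy := C.xy.mul_left (Commute.refl y)
  x2 := C.xy2
  y2 := C.y2
  nx := C.nxy
  ny := C.ny
  nxy := by rw [C.xy_y]; exact C.nx
  fx r hr h := by
    rw [C.xy_y]
    exact C.swap.fxy r hr (C.xy.eq ▸ h)
  fy r hr h := by
    rw [C.xy_y, conj_mul_eq, conj_eq_iff.2 h]
    rcases C.fy r hr h with e | e <;> rw [e]
    · exact Or.inl rfl
    · exact Or.inr C.xy_y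
  fxy r hr h := by
    rw [C.xy_y] at h
    rw [conj_mul_eq, conj_eq_iff.2 h]
    rcases C.fx r hr h with e | e <;> rw [e]
    · exact Or.inl rfl
    · exact Or.inr C.x_xy

end Ctx

namespace Setting

variable [Finite G] (S : Setting z a b c J E P)
include S

theorem half_cent {t : G} (ht : t ∈ J) : Nat.card ↥J ≤ 2 * Nat.card ↥(J ⊓ centralizer ({t} : Set G)) := by
  refine Ext.ECoord.card_le_two_cent (s := z) (fun q hq => ?_) fun q hq => S.commJ hq
  exact S.conj_cases ht hq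

/-- Few vectors bound the subgroup. -/
theorem card_le_eight_mul (d : NC S) {K : Subgroup G} (hK : K ≤ J) {T : Set Vt} (hT : ∀ q ∈ K, d.β q ∈ T) :
    Nat.card ↥K ≤ 8 * T.ncard := by
  classical
  let f : ↥K →* Multiplicative Vt :=
    { toFun := fun q => Multiplicative.ofAdd (d.β q)
      map_one' := congrArg Multiplicative.ofAdd d.β_one
      map_mul' := fun p q => congrArg Multiplicative.ofAdd (d.β_mul p (hK p.2) q (hK q.2)) }
  have h := Subgroup.card_eq_card_quotient_mul_card_subgroup f.ker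
  rw [Nat.card_congr (QuotientGroup.quotientKerEquivRange f).toEquiv] at h
  have hker : Nat.card f.ker ≤ 8 :=
    le_trans (Nat.card_le_card_of_injective (fun q : ↥f.ker => (⟨q.1.1, (d.β_ker _ (hK q.1.2)).1 q.2⟩ : ↥S.ZJ))
      fun p q e => Subtype.ext (Subtype.ext (show (p.1 : G) = q.1 from congrArg (fun r : ↥S.ZJ => (r : G)) e)))
      S.card_ZJ
  have hr : Nat.card f.range ≤ T.ncard := by
    rw [← Nat.card_coe_set_eq]
    refine Nat.card_le_card_of_injective (fun v => ⟨Multiplicative.toAdd v.1, ?_⟩) fun v w e =>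
      Subtype.ext (Multiplicative.toAdd.injective (congrArg (fun r : ↥T => (r : Vt)) e))
    obtain ⟨q, hq⟩ := v.2
    rw [← hq]
    exact hT q q.2
  rw [h, mul_comm 8]
  exact Nat.mul_le_mul hr hker

/-- Vectors of an image of an involution are fixed. -/
theorem image_mem (d : NC S) {h : G} (hh : h ∈ S.Ka) (h2 : h * h = 1) (w : Vt)
    (hQ : Q (d.π h w + w) = false) : ∃ m ∈ J, Commute m h ∧ d.β m = d.π h w + w := by
  obtain ⟨p, hp, rfl⟩ := d.β_surj w
  have hz := (S.mem_Ka.1 hh).1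
  have hm : h * p * h⁻¹ * p⁻¹ ∈ J := mul_mem (S.conj_J hz hp) (inv_mem hp)
  have hβ : d.β (h * p * h⁻¹ * p⁻¹) = d.π h (d.β p) + d.β p := by
    rw [d.β_mul _ (S.conj_J hz hp) _ (inv_mem hp), d.equiv h hh p hp, d.β_inv hp]
  refine ⟨_, hm, ?_, hβ⟩
  have h1 := d.sq _ hm
  rw [hβ, hQ, zp, if_neg Bool.false_ne_true] at h1
  set m := h * p * h⁻¹ * p⁻¹ with hm'
  have hinv : h * m * h⁻¹ = m := by
    have e3 : h * m * h⁻¹ = m⁻¹ := by
      rw [hm']
      simp only [mul_inv_rev, inv_inv, inv_eq_of_mul_eq_one_left h2, mul_assoc]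
      simp only [← mul_assoc, h2, one_mul]
    rw [e3, inv_eq_of_mul_eq_one_left h1]
  exact (mul_inv_eq_iff_eq_mul.1 hinv).symm

/-- An outer and an inner involution do not have nested centralisers in the core. -/
theorem outer_inner (d : NC S) {o h : G} (oK : o ∈ S.Ka) (ho : d.π o ∉ U)
    (hK : h ∈ S.Ka) (h2 : h * h = 1) (hhU : d.π h ∈ U) (hh : h ∉ J)
    (hsub : ∀ q ∈ J, Commute q h → Commute q o) : False := by
  have hρ := (d.π_mem o oK).resolve_left ho
  have hl := lin_of_mem hhU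
  have hne : d.π h ≠ 1 := fun e => hh ((d.π_ker h hK).1 e)
  obtain ⟨w, hw⟩ : ∃ w, d.π h w ≠ w := by
    by_contra hh'
    push Not at hh'
    exact hne (Equiv.ext hh')
  have hfix : ∀ w, d.π o (d.π h w + w) = d.π h w + w := fun w => by
    obtain ⟨m, hm, hmh, e⟩ := S.image_mem d hK h2 w (Q_image hl (d.π_sq hK h2) w)
    rw [← e]
    exact d.fixed oK hm (hsub m hm hmh)
  have e1 := hfix (sm 2 w)
  rw [hl.map_sm 2 w (by norm_num), ← sm_add (by norm_num), hρ.map_sm 2 _ (by norm_num), hfix w] at e1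
  refine hw ?_
  have h0 : d.π h w + w = 0 := by
    generalize d.π h w + w = v at e1 ⊢
    obtain ⟨i⟩ := v
    exact sm23 i e1.symm
  calc d.π h w = d.π h w + w + w := by rw [add_assoc, Vt.add_self, add_zero]
    _ = w := by rw [h0, zero_add]

/-- The shift of a lift is in the core and fixed. -/
theorem shift_fixed (d : NC S) {x σ : G} (xK : x ∈ S.Ka) (x2 : x * x = 1) (σK : σ ∈ S.Ka)
    (hcom : d.π σ * d.π x = d.π x * d.π σ) :
    x⁻¹ * (σ * x * σ⁻¹) ∈ J ∧ d.π x (d.β (x⁻¹ * (σ * x * σ⁻¹))) = d.β (x⁻¹ * (σ * x * σ⁻¹)) := by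
  have cK : σ * x * σ⁻¹ ∈ S.Ka := mul_mem (mul_mem σK xK) (inv_mem σK)
  have hr : x⁻¹ * (σ * x * σ⁻¹) ∈ J := by
    refine (d.π_ker _ (mul_mem (inv_mem xK) cK)).1 ?_
    have e : d.π (σ * x * σ⁻¹) * d.π σ = d.π x * d.π σ := by
      rw [← d.π_mul _ cK _ σK, inv_mul_cancel_right, d.π_mul _ σK _ xK, hcom]
    rw [d.π_mul _ (inv_mem xK) _ cK, mul_right_cancel e, ← d.π_mul _ (inv_mem xK) _ xK, inv_mul_cancel, d.π_one]
  refine ⟨hr, ?_⟩
  have hxi : x⁻¹ = x := inv_eq_of_mul_eq_one_left x2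
  rw [← d.equiv x xK _ hr, ← d.β_inv hr]
  congr 1
  rw [hxi, show (x * (σ * x * σ⁻¹))⁻¹ = σ * x⁻¹ * σ⁻¹ * x⁻¹ by group, hxi]
  simp only [← mul_assoc, x2, one_mul]

/-- An involution with image a transvection has a centraliser in the core of index two in the fixed vectors. -/
theorem tv_half (d : NC S) {x : G} (xK : x ∈ S.Ka) (x2 : x * x = 1)
    (hx : d.π x = tvP 0) {q q' : G} (hq : q ∈ J) (hq' : q' ∈ J) (f : tv ⟨5⟩ (d.β q) = d.β q)
    (f' : tv ⟨5⟩ (d.β q') = d.β q') (n : ¬ Commute q x) (n' : ¬ Commute q' x) : Commute (q * q') x := by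
  classical
  have xZ : ∀ {v}, v ∈ S.ZJ → Commute x v := fun hv => d.comm_ZJ xK (by rw [hx]; exact tvP_mem 0) hv
  have xz : Commute x z := (S.mem_Ka.1 xK).1
  have hfix : ∀ {p}, p ∈ J → tv ⟨5⟩ (d.β p) = d.β p → x * p * x⁻¹ * p⁻¹ ∈ S.ZJ := fun {p} hp hf => by
    refine (d.β_ker _ (mul_mem (S.conj_J xz hp) (inv_mem hp))).1 ?_
    rw [d.β_mul _ (S.conj_J xz hp) _ (inv_mem hp), d.equiv x xK p hp, d.β_inv hp, hx, tvP_apply, ctr_zero.1, hf,
      Vt.add_self]
  obtain ⟨n0, hn0, hcov⟩ := T0_cover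
  obtain ⟨g, hg, hgk, hgU⟩ := exists_of_mem_list grpA_ok hn0
  obtain ⟨σ, σI, hσ⟩ := d.π_surj g hgU
  have σK := S.inner_le_Ka σI
  obtain ⟨σz, σa, σb⟩ := S.mem_inner.1 σI
  have hgc : g * tvP 0 = tvP 0 * g := key_inj (mul_mem hgU (tvP_mem 0)) (mul_mem (tvP_mem 0) hgU) (by
    rw [key_mul hgU, key_mul (tvP_mem 0), hgk, key_T0]
    exact beq_iff_eq.1 (List.all_eq_true.1 A_commutes _ hn0))
  obtain ⟨hr, -⟩ := S.shift_fixed d xK x2 σK (by rw [hσ, hx, hgc])
  have hD : ∀ {p}, p ∈ J → tv ⟨5⟩ (d.β p) = d.β p → x * p * x⁻¹ = p ∨ x * p * x⁻¹ = p * z := by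
    intro p hp hf
    have hm : d.β p ∈ fix0 := by
      generalize d.β p = v at hf ⊢
      obtain ⟨i⟩ := v
      simp [fix0, hf]
    obtain ⟨v, hv, hvw⟩ := List.any_eq_true.1 (List.all_eq_true.1 hcov _ hm)
    obtain ⟨s, hs, rfl⟩ := d.β_surj v
    have hsf : tv ⟨5⟩ (d.β s) = d.β s := by simpa [fix0] using (List.mem_filter.1 hv).2
    obtain ⟨w, hw, hws⟩ : ∃ w, w ∈ S.ZJ ∧ x * s * x⁻¹ = w * s :=
      ⟨_, hfix hs hsf, (inv_mul_cancel_right _ _).symm⟩
    have hs' : σ * s * σ⁻¹ ∈ J := S.conj_J σz hs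
    have e2 : x * (σ * s * σ⁻¹) * x⁻¹ = w * (σ * s * σ⁻¹) ∨ x * (σ * s * σ⁻¹) * x⁻¹ = w * (σ * s * σ⁻¹) * z := by
      have e1 : σ * (x * s * x⁻¹) * σ⁻¹ = w * (σ * s * σ⁻¹) := by
        rw [hws, conj_mul_eq, conj_eq_iff.2 (S.comm_Z σz σa σb hw)]
      have key : σ * (x * s * x⁻¹) * σ⁻¹ =
          x * (x⁻¹ * (σ * x * σ⁻¹) * (σ * s * σ⁻¹) * (x⁻¹ * (σ * x * σ⁻¹))⁻¹) * x⁻¹ := by group
      rcases S.conj_cases hr hs' with e | e <;> rw [e] at key <;> rw [e1] at key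
      · exact Or.inl key.symm
      · refine Or.inr ?_
        rw [conj_mul_eq x (σ * s * σ⁻¹) z, conj_eq_iff.2 xz] at key
        rw [key, mul_assoc _ z z, S.z_sq, mul_one]
    set k := σ * s * σ⁻¹ * s⁻¹ with hk
    have hkx : x * k * x⁻¹ = k ∨ x * k * x⁻¹ = k * z := by
      have hkk : x * k * x⁻¹ = x * (σ * s * σ⁻¹) * x⁻¹ * (w * s)⁻¹ := by rw [← hws, hk]; group
      have cw : ∀ {u}, u ∈ J → w * u * w⁻¹ = u := fun hu =>
        conj_eq_iff.2 (S.ZJ_comm hw hu).symm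
      have cz : z * (s⁻¹ * w⁻¹) = s⁻¹ * w⁻¹ * z :=
        (S.commJ (mul_mem (inv_mem hs) (inv_mem (S.ZJ_le hw)))).symm.eq
      have hb : w * (σ * s * σ⁻¹) * (s⁻¹ * w⁻¹) = k := by
        rw [show w * (σ * s * σ⁻¹) * (s⁻¹ * w⁻¹) = w * (σ * s * σ⁻¹ * s⁻¹) * w⁻¹ by group,
          cw (mul_mem hs' (inv_mem hs))]
      rcases e2 with e | e <;> rw [e, mul_inv_rev] at hkk
      · exact Or.inl (hkk.trans hb)
      · exact Or.inr (by rw [hkk, mul_assoc _ z, cz, ← mul_assoc, hb])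
    have hkJ : k ∈ J := mul_mem hs' (inv_mem hs)
    obtain ⟨t, ht, rfl⟩ : ∃ t, t ∈ S.ZJ ∧ p = k * t := by
      refine ⟨k⁻¹ * p, (d.β_ker _ (mul_mem (inv_mem hkJ) hp)).1 ?_, (mul_inv_cancel_left k p).symm⟩
      rw [d.β_mul _ (inv_mem hkJ) _ hp, d.β_inv hkJ, hk, d.β_mul _ hs' _ (inv_mem hs), d.β_inv hs,
        d.equiv σ σK s hs, hσ, ← ev_key hgU, hgk, beq_iff_eq.1 hvw, Vt.add_self]
    rw [conj_mul_eq, conj_eq_iff.2 (xZ ht)]
    rcases hkx with e | e <;> rw [e]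
    · exact Or.inl rfl
    · exact Or.inr (by rw [mul_assoc, (S.commJ (S.ZJ_le ht)).symm.eq, ← mul_assoc])
  have e := (hD hq f).resolve_left fun h => n (conj_eq_iff.1 h).symm
  have e' := (hD hq' f').resolve_left fun h => n' (conj_eq_iff.1 h).symm
  refine (conj_eq_iff.1 ?_).symm
  rw [conj_mul_eq, e, e', mul_assoc, ← mul_assoc z, ← (S.commJ hq').eq, mul_assoc q', S.z_sq, mul_one]

/-- A transvection and another inner involution do not have nested centralisers. -/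
theorem tv_inner (d : NC S) {x h : G} (xK : x ∈ S.Ka) (x2 : x * x = 1)
    (hx : ∃ u ∈ U, d.π x = u * tvP 0 * u⁻¹)
    (hK : h ∈ S.Ka) (h2 : h * h = 1) (hhU : d.π h ∈ U) (hh : h ∉ J) (hne : d.π h ≠ d.π x)
    (hxh : Commute x h) (hsub : ∀ q ∈ J, Commute q x → Commute q h) : False := by
  obtain ⟨u, hu, hx⟩ := hx
  let d' := d.twist u⁻¹ (inv_mem hu)
  have dx : d'.π x = tvP 0 := by rw [NC.twist_π, hx]; group
  have dU : d'.π h ∈ U := mul_mem (mul_mem (inv_mem hu) hhU) (inv_mem (inv_mem hu))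
  have dne : d'.π h ≠ tvP 0 := fun e => hne (by
    rw [← dx, NC.twist_π, NC.twist_π] at e
    exact mul_left_cancel (mul_right_cancel e))
  have dcom : d'.π h * tvP 0 = tvP 0 * d'.π h := by
    rw [← dx, ← d'.π_mul _ hK _ xK, ← d'.π_mul _ xK _ hK, hxh.eq]
  have := List.all_eq_true.1 T0_sep _ (commute_tv0 dU dcom)
  simp only [Bool.or_eq_true, bne_iff_ne, ne_eq, beq_iff_eq, ← key_mul dU, d'.π_sq hK h2, List.any_eq_true,
    Bool.and_eq_true, ev_key dU] at this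
  rcases this with ((h' | h') | h') | ⟨v, hv, hv1, w, hw, hw1, hw2⟩
  · exact h' rfl
  · exact hh ((d'.π_ker h hK).1 (key_inj dU (one_mem _) h'))
  · exact dne (key_inj dU (tvP_mem 0) h')
  · obtain ⟨p, hp, rfl⟩ := d'.β_surj v
    obtain ⟨r, hr, rfl⟩ := d'.β_surj w
    have mem : ∀ {v}, v ∈ fix0 → tv ⟨5⟩ v = v := fun {v} hv => by simpa [fix0] using (List.mem_filter.1 hv).2
    by_cases n : Commute p x
    · exact hv1 (d'.fixed hK hp (hsub p hp n))
    by_cases n' : Commute r x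
    · exact hw1 (d'.fixed hK hr (hsub r hr n'))
    refine hw2 ?_
    rw [← d'.β_mul p hp r hr]
    exact d'.fixed hK (mul_mem hp hr) (hsub _ (mul_mem hp hr)
      (S.tv_half d' xK x2 dx hp hr (mem hv) (mem hw) n n'))

/-- The square of a suitable lift commutes with the element. -/
theorem lift_square (d : NC S) {x : G} (xK : x ∈ S.Ka) (x2 : x * x = 1) {g : Equiv.Perm Vt} (hg : g ∈ U)
    (hcom : g * d.π x = d.π x * g)
    (himg : ∀ σ, σ ∈ S.inner → d.π σ = g → ∃ w, d.β (x⁻¹ * (σ * x * σ⁻¹)) = d.π x w + w) :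
    ∃ k, k ∈ S.inner ∧ d.π k = g * g ∧ Commute k x := by
  obtain ⟨σ, σI, hσ⟩ := d.π_surj g hg
  have σK := S.inner_le_Ka σI
  obtain ⟨w, hw⟩ := himg σ σI hσ
  obtain ⟨p, hp, rfl⟩ := d.β_surj w
  have xz := (S.mem_Ka.1 xK).1
  obtain ⟨hr, -⟩ := S.shift_fixed d xK x2 σK (by rw [hσ]; exact hcom)
  set r := x⁻¹ * (σ * x * σ⁻¹) with hr'
  have kI : p * σ ∈ S.inner := mul_mem (S.J_le_inner hp) σI
  have kK := S.inner_le_Ka kI
  have e : p * σ * x * (p * σ)⁻¹ = x * ((x⁻¹ * p * x) * p⁻¹ * (p * r * p⁻¹)) := by rw [hr']; group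
  set v := x⁻¹ * p * x * p⁻¹ * (p * r * p⁻¹) with hv'
  have hxi : x⁻¹ = x := inv_eq_of_mul_eq_one_left x2
  have hxp : x⁻¹ * p * x ∈ J := by
    have := S.conj_J xz hp
    rwa [hxi] at this ⊢
  have hv : v ∈ S.ZJ := by
    have hpr : p * r * p⁻¹ ∈ J := mul_mem (mul_mem hp hr) (inv_mem hp)
    refine (d.β_ker _ (mul_mem (mul_mem hxp (inv_mem hp)) hpr)).1 ?_
    rw [d.β_mul _ (mul_mem hxp (inv_mem hp)) _ hpr, d.β_mul _ hxp _ (inv_mem hp), d.β_inv hp,
      d.β_mul _ (mul_mem hp hr) _ (inv_mem hp), d.β_mul _ hp _ hr, d.β_inv hp,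
      show x⁻¹ * p * x = x * p * x⁻¹ by rw [hxi], d.equiv x xK p hp, hw,
      show d.β p + (d.π x (d.β p) + d.β p) + d.β p = d.π x (d.β p) + d.β p by
        rw [add_comm (d.β p), add_assoc, add_assoc, Vt.add_self, add_zero], Vt.add_self]
  have hkv : p * σ * v * (p * σ)⁻¹ = v := by
    obtain ⟨kz, ka, kb⟩ := S.mem_inner.1 kI
    exact conj_eq_iff.2 (S.comm_Z kz ka kb hv)
  refine ⟨p * σ * (p * σ), mul_mem kI kI, ?_, conj_eq_iff.1 ?_⟩
  · rw [d.π_mul _ kK _ kK, d.π_mul _ (S.J_le_Ka hp) _ σK, hσ, (d.π_ker p (S.J_le_Ka hp)).2 hp, one_mul]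
  · calc p * σ * (p * σ) * x * (p * σ * (p * σ))⁻¹ = p * σ * (p * σ * x * (p * σ)⁻¹) * (p * σ)⁻¹ := by group
      _ = p * σ * (x * v) * (p * σ)⁻¹ := by rw [e]
      _ = (p * σ * x * (p * σ)⁻¹) * (p * σ * v * (p * σ)⁻¹) := by group
      _ = x := by rw [e, hkv, mul_assoc, S.ZJ_sq hv, mul_one]

set_option maxHeartbeats 1000000 in
/-- One element in the core and two outside. -/
theorem in_core (d : NC S) {x y : G} (C : Ctx S x y) (hy : y ∈ J) (hxJ : x ∉ J) : False := by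
  classical
  set K := J ⊓ centralizer ({y} : Set G)
  have hxyJ : x * y ∉ J := fun h => hxJ ((J.mul_mem_cancel_right hy).1 h)
  have h1 : Nat.card ↥J ≤ 2 * Nat.card ↥K := S.half_cent hy
  have h2 : Nat.card ↥K ≤ 2 * Nat.card ↥(K ⊓ centralizer ({x} : Set G)) := by
    refine Ext.ECoord.card_le_two_cent (s := y) (fun r hr => ?_) fun r hr => mem_centralizer_singleton_iff.1 hr.2
    have hry : Commute r y := mem_centralizer_singleton_iff.1 hr.2
    rcases C.fy r (S.J_le_Ka hr.1) hry with e | e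
    · exact Or.inl (by rw [← (mul_inv_eq_iff_eq_mul.1 e : r * x = x * r), mul_inv_cancel_right])
    · refine Or.inr ?_
      rw [inv_eq_of_mul_eq_one_left C.x2]
      calc x * r * x = x * (r * x * r⁻¹) * r := by group
        _ = x * x * (y * r) := by rw [e]; group
        _ = r * y := by rw [C.x2, one_mul, hry.eq]
  set Kx := K ⊓ centralizer ({x} : Set G)
  have hKJ : Kx ≤ J := fun q hq => hq.1.1
  have hxq : ∀ q ∈ Kx, Commute q x := fun q hq => mem_centralizer_singleton_iff.1 hq.2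
  have hbig : 512 ≤ Nat.card ↥Kx := by
    rw [S.cardJ] at h1
    omega
  have hπne : d.π x ≠ 1 := fun e => hxJ ((d.π_ker x C.xK).1 e)
  have h4 : Nat.card ↥Kx ≤ 8 * {v : Vt | d.π x v = v}.ncard :=
    S.card_le_eight_mul d hKJ fun q hq => d.fixed C.xK (hKJ hq) (hxq q hq)
  by_cases hxU : d.π x ∈ U
  swap
  · rw [Ext.fixed_count ((d.π_mem x C.xK).resolve_left hxU) (d.π_sq C.xK C.x2)] at h4
    omega
  obtain ⟨u, hu, e | e⟩ := invol_cases hxU (d.π_sq C.xK C.x2) hπne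
  swap
  · have : {v : Vt | d.π x v = v}.ncard ≤ 16 := by
      refine le_trans (le_of_eq ?_) fixR_card
      rw [← Set.ncard_image_of_injective {v : Vt | R0 v = v} u.injective]
      congr 1
      ext v
      simp only [Set.mem_image, Set.mem_ofPred_eq, e, Equiv.Perm.mul_apply]
      refine ⟨fun h => ⟨u⁻¹ v, u.injective (h.trans (u.apply_symm_apply v).symm), u.apply_symm_apply v⟩, ?_⟩
      rintro ⟨w, hw, rfl⟩
      simp [hw]
    omega
  let d' := d.twist u⁻¹ (inv_mem hu)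
  have dx : d'.π x = tvP 0 := by rw [NC.twist_π, e]; group
  have xZ : ∀ {v}, v ∈ S.ZJ → Commute x v := fun hv => d.comm_ZJ C.xK hxU hv
  have hfix : ∀ q ∈ Kx, tv ⟨5⟩ (d'.β q) = d'.β q := fun q hq => by
    have := d'.fixed C.xK (hKJ hq) (hxq q hq)
    rwa [dx, tvP_apply, ctr_zero.1] at this
  have hset : {v : Vt | ∃ q ∈ Kx, d'.β q = v} = {v | tv ⟨5⟩ v = v} := by
    refine Set.eq_of_subset_of_ncard_le (fun v ⟨q, hq, e⟩ => e ▸ hfix q hq) ?_ (Set.toFinite _)
    have h64 : {v : Vt | tv ⟨5⟩ v = v}.ncard ≤ 64 := by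
      have := fixed_le (tvP_mem 0) (tvP_sq 0) (fun e => hπne (by
        have := dx.trans e
        rw [NC.twist_π] at this
        exact conj_eq_one_iff.1 this))
      rwa [T0_set] at this
    have := S.card_le_eight_mul d' hKJ (T := {v : Vt | ∃ q ∈ Kx, d'.β q = v}) fun q hq => ⟨q, hq, rfl⟩
    omega
  have hyK : y ∈ Kx := ⟨⟨hy, mem_centralizer_singleton_iff.2 rfl⟩, mem_centralizer_singleton_iff.2 C.xy.eq.symm⟩
  have perp : ∀ {t}, t ∈ J → (∀ q ∈ Kx, Commute q t) → ∀ w, tv ⟨5⟩ w = w → B (d'.β t) w = false := by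
    intro t ht htc w hw
    obtain ⟨q, hq, rfl⟩ : w ∈ {v : Vt | ∃ q ∈ Kx, d'.β q = v} := hset.symm ▸ hw
    have e := d'.comm q (hKJ hq) t ht
    rw [(htc q hq).eq, mul_inv_cancel_right, mul_inv_cancel] at e
    rw [Ext.B_comm]
    revert e
    cases B (d'.β q) (d'.β t) <;> simp [zp, S.z_ne.symm]
  have onl : ∀ {t}, t ∈ J → (∀ q ∈ Kx, Commute q t) → tv ⟨5⟩ (d'.β t) = d'.β t → onLine ⟨5⟩ (d'.β t) = true := by
    intro t ht htc htf
    have hm : d'.β t ∈ fix0 := by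
      generalize d'.β t = v at htf ⊢
      obtain ⟨i⟩ := v
      simp [fix0, htf]
    have := List.all_eq_true.1 rad0 _ hm
    simp only [Bool.or_eq_true, List.any_eq_true] at this
    rcases this with h | ⟨w, hw, h⟩
    · exact h
    · exact absurd h (by
        rw [perp ht htc w (by simpa [fix0] using (List.mem_filter.1 hw).2)]
        exact Bool.false_ne_true)
  have hyl := onl hy (fun q hq => mem_centralizer_singleton_iff.1 hq.1.2) (hfix y hyK)
  have hy0 : d'.β y ≠ 0 := fun e => C.ny ((d'.β_ker y hy).1 e)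
  obtain ⟨n, hn, hmov⟩ := T0_moving
  obtain ⟨g, -, hgk, hgU⟩ := exists_of_mem_list grpA_ok hn
  have hgc : g * d'.π x = d'.π x * g := by
    rw [dx]
    exact key_inj (mul_mem hgU (tvP_mem 0)) (mul_mem (tvP_mem 0) hgU) (by
      rw [key_mul hgU, key_mul (tvP_mem 0), hgk, key_T0]
      exact beq_iff_eq.1 (List.all_eq_true.1 A_commutes _ hn))
  have himg : ∀ σ, σ ∈ S.inner → d'.π σ = g →
      ∃ w, d'.β (x⁻¹ * (σ * x * σ⁻¹)) = d'.π x w + w := by
    intro σ σI hσ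
    have σK := S.inner_le_Ka σI
    obtain ⟨σz, σa, -⟩ := S.mem_inner.1 σI
    obtain ⟨hr, hrf⟩ := S.shift_fixed d' C.xK C.x2 σK (by rw [hσ, hgc])
    rw [dx, tvP_apply, ctr_zero.1] at hrf
    have hl := onl hr (fun q hq => ?_) hrf
    · generalize d'.β (x⁻¹ * (σ * x * σ⁻¹)) = v at hl ⊢
      obtain ⟨i⟩ := v
      obtain ⟨w, hw⟩ := onLine_image i hl
      exact ⟨⟨w⟩, by rw [dx, tvP_apply, ctr_zero.1, hw]⟩
    · have hq' : σ⁻¹ * q * σ⁻¹⁻¹ ∈ J := S.conj_J σz.inv_left (hKJ hq)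
      have hf : tv ⟨5⟩ (d'.β (σ⁻¹ * q * σ⁻¹⁻¹)) = d'.β (σ⁻¹ * q * σ⁻¹⁻¹) := by
        rw [d'.equiv _ (inv_mem σK) q (hKJ hq)]
        have hi : d'.π σ⁻¹ = g⁻¹ := eq_inv_of_mul_eq_one_left (by
          rw [← hσ, ← d'.π_mul _ (inv_mem σK) _ σK, inv_mul_cancel, d'.π_one])
        rw [hi, ← ctr_zero.1, ← tvP_apply]
        have hc' : tvP 0 * g⁻¹ = g⁻¹ * tvP 0 := by
          rw [dx] at hgc
          calc tvP 0 * g⁻¹ = g⁻¹ * (g * tvP 0) * g⁻¹ := by group
            _ = g⁻¹ * tvP 0 := by rw [hgc]; group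
        have := congrArg (fun p : Equiv.Perm Vt => p (d'.β q)) hc'
        simp only [Equiv.Perm.mul_apply] at this
        rw [this, tvP_apply, ctr_zero.1, hfix q hq]
      obtain ⟨q', hq'K, e'⟩ : d'.β (σ⁻¹ * q * σ⁻¹⁻¹) ∈ {v : Vt | ∃ q ∈ Kx, d'.β q = v} := hset.symm ▸ hf
      have hxc : Commute (σ⁻¹ * q * σ⁻¹⁻¹) x := by
        have hb : q'⁻¹ * (σ⁻¹ * q * σ⁻¹⁻¹) ∈ S.ZJ := (d'.β_ker _ (mul_mem (inv_mem (hKJ hq'K)) hq')).1 (by
          rw [d'.β_mul _ (inv_mem (hKJ hq'K)) _ hq', d'.β_inv (hKJ hq'K), e', Vt.add_self])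
        have := (hxq q' hq'K).mul_left (xZ hb).symm
        rwa [mul_inv_cancel_left] at this
      have h1 : Commute q (σ * x * σ⁻¹) := by
        have := hxc.map (MulAut.conj σ).toMonoidHom
        simpa [mul_assoc] using this
      exact (hxq q hq).inv_right.mul_right h1
  obtain ⟨k, kI, hk, hkx⟩ := S.lift_square d' C.xK C.x2 hgU hgc himg
  have kK := S.inner_le_Ka kI
  have hky : Commute k y := conj_eq_iff.1 ((C.fx k kK hkx).resolve_right fun e =>
    hxyJ (e ▸ S.conj_J (S.mem_inner.1 kI).1 hy))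
  have hfy : g (g (d'.β y)) = d'.β y := by
    have := d'.fixed kK hy hky.symm
    rwa [hk] at this
  rw [← ev_key hgU, ← ev_key hgU, hgk] at hfy
  generalize d'.β y = v at hyl hy0 hfy
  obtain ⟨i⟩ := v
  rcases onLine_cases i hyl with h | ⟨m, hm, h⟩
  · exact hy0 h
  · rw [h] at hfy
    exact hmov m hm hfy

theorem core_same {x y : G} (C : Ctx S x y) (hy : y ∉ J) (hxy : x * y ∉ J) {q : G} (hq : q ∈ J)
    (hqy : Commute q y) : Commute q x := by
  refine conj_eq_iff.1 ((C.fy q (S.J_le_Ka hq) hqy).resolve_right fun e => hy ?_)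
  have xz := (S.mem_Ka.1 C.xK).1
  have h1 : x⁻¹ * (q * x * q⁻¹) ∈ J := by
    have := mul_mem (S.conj_J xz.inv_left hq) (inv_mem hq)
    rwa [inv_inv, show x⁻¹ * q * x * q⁻¹ = x⁻¹ * (q * x * q⁻¹) by group] at this
  rwa [e, inv_mul_cancel_left] at h1

/-- Not all three in the core. -/
theorem core_pair {x y : G} (d : NC S) (C : Ctx S x y) (hx : x ∈ J) (hy : y ∈ J) : False := by
  have key : ∀ {x y : G}, Ctx S x y → x ∈ J → y ∈ J → ∀ q ∈ J, Commute q x → Commute q y := by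
    intro x y C hx hy q hq hqx
    refine conj_eq_iff.1 ((C.fx q (S.J_le_Ka hq) hqx).resolve_right fun e => C.nx ?_)
    rcases S.conj_cases hq hy with e' | e' <;> rw [e'] at e
    · have := mul_eq_right.1 e.symm
      rw [this]; exact one_mem _
    · rw [← mul_right_cancel (show z * y = x * y by rw [← e, (S.commJ hy).eq])]
      exact S.z_ZJ
  have same : ∀ q ∈ J, Commute q x ↔ Commute q y :=
    fun q hq => ⟨key C hx hy q hq, key C.swap hy hx q hq⟩
  refine C.nxy ((d.β_ker _ (mul_mem hx hy)).1 (by_contra fun hne => ?_))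
  obtain ⟨i, hi⟩ := functional_ne (d.β (x * y)).code hne
  obtain ⟨q, hq, hqv⟩ := d.β_surj ⟨i⟩
  have k : ∀ {t}, t ∈ J → (Commute q t ↔ B (d.β q) (d.β t) = false) := fun {t} ht => by
    have e := d.comm q hq t ht
    constructor
    · intro h
      rw [h.eq, mul_inv_cancel_right, mul_inv_cancel] at e
      revert e
      cases B (d.β q) (d.β t) <;> simp [zp, S.z_ne.symm]
    · intro h
      rw [h, zp, if_neg Bool.false_ne_true] at e
      exact mul_inv_eq_iff_eq_mul.1 (mul_inv_eq_one.1 e)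
  have h := same q hq
  rw [k hx, k hy] at h
  have h2 : B (d.β (x * y)) (d.β q) = true := by rw [hqv]; exact hi
  rw [Ext.B_comm, d.β_mul x hx y hy, B_add_right] at h2
  revert h2 h
  cases B (d.β q) (d.β x) <;> cases B (d.β q) (d.β y) <;> simp

set_option maxHeartbeats 1000000 in
/-- No such four-group. -/
theorem no_ctx (d : NC S) {x y : G} (C : Ctx S x y) : False := by
  classical
  by_cases hy : y ∈ J
  · by_cases hx : x ∈ J
    · exact S.core_pair d C hx hy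
    · exact S.in_core d C hy hx
  by_cases hx : x ∈ J
  · exact S.in_core d C.swap hx hy
  by_cases hxy : x * y ∈ J
  · exact S.in_core d C.rot.swap hxy hy
  -- none in the core
  have sxy : ∀ q ∈ J, Commute q y → Commute q x := fun q hq h => S.core_same C hy hxy hq h
  have syx : ∀ q ∈ J, Commute q x → Commute q y := fun q hq h =>
    S.core_same C.swap hx (by rw [← C.xy.eq]; exact hxy) hq h
  have s3 : ∀ q ∈ J, Commute q (x * y) → Commute q y := fun q hq h =>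
    S.core_same C.rot.swap hxy (by rw [← C.rot.xy.eq, C.xy_y]; exact hx) hq h
  by_cases hxU : d.π x ∈ U
  swap
  · by_cases hyU : d.π y ∈ U
    · exact S.outer_inner d C.xK hxU C.yK C.y2 hyU hy sxy
    · exact S.outer_inner d C.xK hxU (mul_mem C.xK C.yK) C.xy2 (d.π_semi _ C.xK _ C.yK hxU hyU) hxy
        fun q hq h => sxy q hq (s3 q hq h)
  by_cases hyU : d.π y ∈ U
  swap
  · exact S.outer_inner d C.yK hyU C.xK C.x2 hxU hx syx
  have hxyU : d.π (x * y) ∈ U := by rw [d.π_mul _ C.xK _ C.yK]; exact mul_mem hxU hyU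
  have notX : ∀ u ∈ U, d.π x ≠ u * tvP 0 * u⁻¹ := fun u hu e => by
    refine S.tv_inner d C.xK C.x2 ⟨u, hu, e⟩ C.yK C.y2 hyU hy (fun e' => hxy ((d.π_ker _ (mul_mem C.xK C.yK)).1 ?_))
      C.xy syx
    rw [d.π_mul _ C.xK _ C.yK, e', d.π_sq C.xK C.x2]
  have notY : ∀ u ∈ U, d.π y ≠ u * tvP 0 * u⁻¹ := fun u hu e => by
    refine S.tv_inner d C.yK C.y2 ⟨u, hu, e⟩ C.xK C.x2 hxU hx (fun e' => hxy ((d.π_ker _ (mul_mem C.xK C.yK)).1 ?_))
      C.xy.symm sxy
    rw [d.π_mul _ C.xK _ C.yK, e', d.π_sq C.yK C.y2]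
  obtain ⟨u, hu, e | e⟩ := invol_cases hxU (d.π_sq C.xK C.x2) fun e => hx ((d.π_ker x C.xK).1 e)
  · exact notX u hu e
  let d' := d.twist u⁻¹ (inv_mem hu)
  have dx : d'.π x = R0 := by rw [NC.twist_π, e]; group
  have dyU : d'.π y ∈ U := mul_mem (mul_mem (inv_mem hu) hyU) (inv_mem (inv_mem hu))
  have hR : R0 ∈ U := mul_mem (tvP_mem _) (tvP_mem _)
  have hykey := commute_R0 dyU (by
    rw [← dx, ← d'.π_mul _ C.yK _ C.xK, ← d'.π_mul _ C.xK _ C.yK, C.xy.eq])
  have hfixR : (fixR.all fun v => ev (key (d'.π y)) v == v) = true := by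
    rw [List.all_eq_true]
    intro v hv
    obtain ⟨w, -, hw⟩ := List.any_eq_true.1 (List.all_eq_true.1 R0_onto v hv)
    rw [beq_iff_eq] at hw ⊢
    rw [← hw, ← key_R0, ev_key hR, ← dx]
    obtain ⟨m, hm, hmx, e⟩ := S.image_mem d' C.xK C.x2 ⟨w⟩
      (Q_image (dx ▸ lin_of_mem hR) (d'.π_sq C.xK C.x2) _)
    rw [← e, ev_key dyU]
    exact d'.fixed C.yK hm (syx m hm hmx)
  have hfour : (grpBKey.all fun m => let m2 := mulK m m; let m4 := mulK m2 m2;
      mulK (key (d'.π y)) m4 == mulK m4 (key (d'.π y))) = true := by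
    rw [List.all_eq_true]
    intro m hm
    obtain ⟨g, -, hgk, hgU⟩ := exists_of_mem_list grpB_ok hm
    have hgc : g * d'.π x = d'.π x * g := by
      rw [dx]
      exact key_inj (mul_mem hgU hR) (mul_mem hR hgU) (by
        rw [key_mul hgU, key_mul hR, hgk, key_R0]
        exact beq_iff_eq.1 (List.all_eq_true.1 B_commutes _ hm))
    obtain ⟨k, kI, hk, hkx⟩ := S.lift_square d' C.xK C.x2 hgU hgc fun σ σI hσ => by
      obtain ⟨-, hrf⟩ := S.shift_fixed d' C.xK C.x2 (S.inner_le_Ka σI) (by rw [hσ, hgc])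
      rw [dx, ← ev_key hR, key_R0] at hrf
      generalize d'.β (x⁻¹ * (σ * x * σ⁻¹)) = v at hrf ⊢
      obtain ⟨i⟩ := v
      have hmem : (⟨i⟩ : Vt) ∈ fixR := by simp [fixR, hrf]
      obtain ⟨w, -, hw⟩ := List.any_eq_true.1 (List.all_eq_true.1 R0_onto _ hmem)
      exact ⟨⟨w⟩, by rw [dx, ← ev_key hR, key_R0, beq_iff_eq.1 hw]⟩
    have kK := S.inner_le_Ka kI
    have hky : Commute (k * k) y := by
      refine conj_eq_iff.1 ?_
      rw [show k * k * y * (k * k)⁻¹ = k * (k * y * k⁻¹) * k⁻¹ by group]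
      rcases C.fx k kK hkx with e | e <;> rw [e]
      · exact e
      · rw [conj_mul_eq, conj_eq_iff.2 hkx, e]
        exact C.x_xy
    rw [beq_iff_eq, ← hgk, ← key_mul hgU, ← key_mul (mul_mem hgU hgU), ← key_mul dyU,
      ← key_mul (mul_mem (mul_mem hgU hgU) (mul_mem hgU hgU)), ← hk, ← d'.π_mul _ kK _ kK,
      ← d'.π_mul _ C.yK _ (mul_mem kK kK), ← d'.π_mul _ (mul_mem kK kK) _ C.yK, hky.eq]
  have := List.all_eq_true.1 R0_fourths _ hykey
  rw [hfixR, hfour, Bool.and_self, Bool.not_true, Bool.false_or] at this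
  simp only [Bool.or_eq_true, beq_iff_eq] at this
  have back : ∀ i, d'.π y = tvP i → False := fun i hi => by
    obtain ⟨w, hw, ew⟩ := tv_type i
    rw [NC.twist_π, ew] at hi
    refine notY (u * w) (mul_mem hu hw) ?_
    calc d.π y = u * (u⁻¹ * d.π y * u⁻¹⁻¹) * u⁻¹ := by group
      _ = _ := by rw [hi]; group
  rcases this with ((h | h) | h) | h
  · exact hy ((d'.π_ker y C.yK).1 (key_inj dyU (one_mem _) h))
  · have e2 : d'.π y = R0 := key_inj dyU hR (h.trans key_R0.symm)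
    refine hxy ((d'.π_ker _ (mul_mem C.xK C.yK)).1 ?_)
    have h2 := d'.π_sq C.xK C.x2
    rw [dx] at h2
    rw [d'.π_mul _ C.xK _ C.yK, dx, e2, h2]
  · exact back 0 (key_inj dyU (tvP_mem 0) (h.trans key_T0.symm))
  · exact back d0 (key_inj dyU (tvP_mem d0) h)

end Setting

end Cfsg.Lib.FiThree
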